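import Mathlib
import Cfsg.Agent.H478.RadTools_m3
import Cfsg.Agent.H587.NR.He
import Cfsg.Agent.H459.Inv.Tools
import Cfsg.Agent.H509.CycBlock
import Cfsg.Agent.S0215
import Cfsg.Agent.H273.PalfyKP
import Cfsg.Agent.H538.GlCyc
import Cfsg.Agent.H348.Inv.J2
import Cfsg.Agent.KFacts.J3Model
import Cfsg.Agent.J3.Simple
import Cfsg.Agent.H171.AltGoal
import Cfsg.Agent.RuD.Letters
import Cfsg.Agent.RuLat.Main
import Cfsg.Agent.H978.RadRu
import Cfsg.Agent.BpSpor.RowAll
import Cfsg.Agent.CpAutBig.Tab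
import Cfsg.Prelude.Def_Spor_Mathieu
import Cfsg.Agent.H76.Inv.Fi22
import Cfsg.Agent.LThreeFi23.TwoCl
import Cfsg.Agent.KFacts.FiTTh.Has
import Cfsg.Agent.Lib.PermNetFast
import Cfsg.Agent.H84.CoreTwFB
import Cfsg.Agent.H109.EndPsl
import Cfsg.Agent.H390.PslSpec
import Cfsg.Agent.H481.TBound
import Cfsg.Agent.H470.EPK.ParOfVJ
import Cfsg.Agent.H45.GG.Series_m3
import Cfsg.Agent.KFacts.RgdFilt
import Cfsg.Agent.ChevalleyStructure.SL2Hom
import Cfsg.Prelude.Def_LieExceptional
import Cfsg.Agent.H952.RcSp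
import Cfsg.Agent.Nodes.RGDChev
import Cfsg.Agent.H292.S38.Tor
import Cfsg.Agent.H153.ExcTor
import Cfsg.Agent.Nodes.RGDTwNode
import Cfsg.Agent.ChevalleyStructure.BruhatSplit
import Cfsg.Agent.OddHalf.Small.ChevCent
import Cfsg.Agent.ChevFast.E6
import Cfsg.Agent.ChevFast.E7
import Cfsg.Agent.ChevFast.E8
import Cfsg.Agent.H880.ClPsuE
import Cfsg.Agent.H823.NfTwF_m3
import Cfsg.Agent.Mrg.Omega.TwoF.RowTh_m3
import Cfsg.Agent.S1055
import Cfsg.Agent.S1679
import Cfsg.Agent.S1680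
import Cfsg.Agent.H126.Inv.J4_m3
import Cfsg.Agent.H877.RadPSL
import Cfsg.Agent.FastGrp
import Cfsg.Agent.Prune
set_option linter.all false

section
prune_inst 0x7ffca8fba9b831dedfff7e7fa69ccdfdb9b91fffa4dff9cbbfe021ef0bdf4b0049c573a98fe010fe0e82421410a87b43f9ffeeffe26bd87ffffd1df45ffbee0ff5f7bd08119488340f300ff603f0778e7f3fffffffffffffffffffffffffffbeffbfffffffff

-- part: H194/Inv/Base
section
prune_inst 0x40042408a210000000008411000440020000b00000040084010240030088400000400080200113580000040000006001100000024000000e200000011900800000040080080008c00080000000000000000000000000000000000000000000000000000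
set_option linter.all false
open scoped Cfsg.Agent.FastGrp

-- part: H194/Inv/Two
section
/-!
# Involutions and elements of order `p ≥ 5` in `GL_2` (helper194, S3830, tasks I1)

* `exists_term` : a solvable subgroup `H` not contained in `Z` has a term `M` of its derived series which is not
  contained in `Z`, with `[M, M] ≤ Z`;
* `not_solvable` : `A, Y ∈ GL_2(F)`, `A ^ p` scalar, `A` not scalar, `p ≥ 5`, `tr Y = 0`, `tr (A Y) ≠ 0`,
  `det (A Y - Y A) ≠ 0`: `⟨A, Y⟩` is not solvable.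
* `base_diag`, `base_quat`, `base_even`.
-/

set_option autoImplicit false
set_option linter.unusedSectionVars false

namespace Cfsg.Agent.H194.Inv

open Matrix Subgroup
open scoped commutatorElement

/-! ### Solvable groups -/

/-- the term of the derived series -/
theorem exists_term {Γ : Type*} [Group Γ] {H Z : Subgroup Γ} (hs : Group.IsSolvable H) (hZ : ¬ H ≤ Z) :
    ∃ k, ¬ (derivedSeries H k).map H.subtype ≤ Z ∧
      (derivedSeries H (k + 1)).map H.subtype ≤ Z := by
  classical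
  have hex : ∃ k, (derivedSeries H k).map H.subtype ≤ Z := by
    obtain ⟨k, hk⟩ := hs.solvable
    exact ⟨k, by rw [hk, Subgroup.map_bot]; exact bot_le⟩
  have h0 : Nat.find hex ≠ 0 := by
    intro h
    have h1 := Nat.find_spec hex
    rw [h, derivedSeries_zero, ← MonoidHom.range_eq_map, Subgroup.range_subtype] at h1
    exact hZ h1
  obtain ⟨k, hk⟩ := Nat.exists_eq_succ_of_ne_zero h0
  refine ⟨k, Nat.find_min hex (by omega), ?_⟩
  have h1 := Nat.find_spec hex
  rwa [hk] at h1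

theorem exists_sub {Γ : Type*} [Group Γ] {H Z : Subgroup Γ} (hs : Group.IsSolvable H) (hZ : ¬ H ≤ Z) :
    ∃ M : Subgroup Γ, M ≤ H ∧ (∀ g ∈ H, ∀ m ∈ M, g * m * g⁻¹ ∈ M) ∧
      (∀ m ∈ M, ∀ m' ∈ M, m * m' * m⁻¹ * m'⁻¹ ∈ Z) ∧ (∃ B ∈ M, B ∉ Z) ∧
      (∀ φ : Γ ≃* Γ, (∀ g, g ∈ H ↔ φ g ∈ H) → ∀ m ∈ M, φ m ∈ M) := by
  obtain ⟨k, hk1, hk2⟩ := exists_term hs hZ
  refine ⟨(derivedSeries H k).map H.subtype, ?_, ?_, ?_, SetLike.not_le_iff_exists.1 hk1, ?_⟩
  · rintro _ ⟨m, -, rfl⟩
    exact m.2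
  · rintro g hg _ ⟨m, hm, rfl⟩
    have hn : (derivedSeries H k).Normal := inferInstance
    exact ⟨⟨g, hg⟩ * m * ⟨g, hg⟩⁻¹, hn.conj_mem m hm _, rfl⟩
  · rintro _ ⟨m, hm, rfl⟩ _ ⟨m', hm', rfl⟩
    apply hk2
    refine ⟨⁅m, m'⁆, ?_, rfl⟩
    rw [derivedSeries_succ]
    exact commutator_mem_commutator hm hm'
  · rintro φ hφ _ ⟨m, hm, rfl⟩
    let ψ : H ≃* H :=
      { toFun := fun x => ⟨φ x, (hφ x).1 x.2⟩
        invFun := fun x => ⟨φ.symm x, (hφ _).2 (by rw [MulEquiv.apply_symm_apply]; exact x.2)⟩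
        left_inv := fun x => Subtype.ext (φ.symm_apply_apply _)
        right_inv := fun x => Subtype.ext (φ.apply_symm_apply _)
        map_mul' := fun x y => Subtype.ext (map_mul φ _ _) }
    have hc : (derivedSeries H k).Characteristic := inferInstance
    have h1 := (Subgroup.characteristic_iff_map_eq.1 hc) ψ
    have h2 : ψ m ∈ (derivedSeries H k).map ψ.toMonoidHom := ⟨m, hm, rfl⟩
    rw [h1] at h2
    exact ⟨ψ m, h2, rfl⟩

/-! ### Two by two matrices -/

section two

variable {F : Type*} [Field F]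

/-- scalar matrices -/
def Sc (X : Matrix (Fin 2) (Fin 2) F) : Prop := ∃ c : F, X = c • (1 : Matrix (Fin 2) (Fin 2) F)

theorem sc_iff {X : Matrix (Fin 2) (Fin 2) F} : Sc X ↔ X 0 1 = 0 ∧ X 1 0 = 0 ∧ X 0 0 = X 1 1 := by
  constructor
  · rintro ⟨c, rfl⟩
    simp
  · rintro ⟨h1, h2, h3⟩
    refine ⟨X 0 0, ?_⟩
    ext i j
    (revert i j; simp only [h1, h2, h3, _root_.Fin.forall_fin_succ, Fin.isValue, _root_.Matrix.smul_apply, _root_.smul_eq_mul, _root_.Fin.succ_zero_eq_one, _root_.IsEmpty.forall_iff, _root_.and_true, _root_.Matrix.one_apply_eq, _root_.mul_one, Nat.reduceAdd, _root_.ne_eq, _root_.zero_ne_one, _root_.not_false_eq_true, _root_.Matrix.one_apply_ne, _root_.MulZeroClass.mul_zero, _root_.and_self, _root_.Fin.succ_ne_zero])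

theorem exists_of_comm {X C : Matrix (Fin 2) (Fin 2) F} (hX : ¬ Sc X) (h : X * C = C * X) :
    ∃ a b : F, C = a • (1 : Matrix (Fin 2) (Fin 2) F) + b • X := by
  have e00 := congrFun (congrFun h 0) 0
  have e01 := congrFun (congrFun h 0) 1
  have e10 := congrFun (congrFun h 1) 0
  simp only [Matrix.mul_apply, Fin.sum_univ_two] at e00 e01 e10
  rw [sc_iff] at hX
  by_cases h1 : X 0 1 = 0
  · by_cases h2 : X 1 0 = 0
    · have h3 : X 0 0 - X 1 1 ≠ 0 := fun h3 => hX ⟨h1, h2, sub_eq_zero.1 h3⟩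
      rw [h1] at e01
      rw [h2] at e10
      have h4 : C 0 1 = 0 := by
        apply (mul_eq_zero.1 (show (X 0 0 - X 1 1) * C 0 1 = 0 by linear_combination e01)).resolve_left h3
      have h5 : C 1 0 = 0 := by
        apply (mul_eq_zero.1 (show (X 0 0 - X 1 1) * C 1 0 = 0 by linear_combination -e10)).resolve_left h3
      refine ⟨C 0 0 - (C 0 0 - C 1 1) / (X 0 0 - X 1 1) * X 0 0, (C 0 0 - C 1 1) / (X 0 0 - X 1 1), ?_⟩
      ext i j
      (revert i j; simp only [h1, h2, h4, h5, _root_.Fin.forall_fin_succ, Fin.isValue, _root_.Matrix.add_apply, _root_.Matrix.smul_apply, _root_.smul_eq_mul, _root_.Fin.succ_zero_eq_one, _root_.IsEmpty.forall_iff, _root_.Matrix.one_apply_eq, _root_.mul_one, _root_.sub_add_cancel, Nat.reduceAdd, _root_.ne_eq, _root_.zero_ne_one, _root_.not_false_eq_true, _root_.Matrix.one_apply_ne, _root_.MulZeroClass.mul_zero, _root_.add_zero, _root_.Fin.succ_ne_zero, _root_.zero_add, _root_.and_true, _root_.true_and]) <;> (repeat' with_reducible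 apply And.intro)
      field_simp
      ring
    · refine ⟨C 0 0 - C 1 0 / X 1 0 * X 0 0, C 1 0 / X 1 0, ?_⟩
      ext i j
      (revert i j; simp only [h1, _root_.Fin.forall_fin_succ, Fin.isValue, _root_.Matrix.add_apply, _root_.Matrix.smul_apply, _root_.smul_eq_mul, _root_.Fin.succ_zero_eq_one, _root_.IsEmpty.forall_iff, _root_.Matrix.one_apply_eq, _root_.mul_one, _root_.sub_add_cancel, Nat.reduceAdd, _root_.ne_eq, _root_.zero_ne_one, _root_.not_false_eq_true, _root_.Matrix.one_apply_ne, _root_.MulZeroClass.mul_zero, _root_.add_zero, _root_.Fin.succ_ne_zero, _root_.zero_add, _root_.and_true, _root_.true_and]) <;> (repeat' with_reducible apply And.intro)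
      · rw [h1, zero_mul, add_zero] at e00
        have h3 : C 0 1 * X 1 0 = 0 := by linear_combination -e00
        exact (mul_eq_zero.1 h3).resolve_right h2
      · field_simp
      · field_simp
        linear_combination -e10
  · refine ⟨C 0 0 - C 0 1 / X 0 1 * X 0 0, C 0 1 / X 0 1, ?_⟩
    ext i j
    (revert i j; simp only [_root_.Fin.forall_fin_succ, Fin.isValue, _root_.Matrix.add_apply, _root_.Matrix.smul_apply, _root_.smul_eq_mul, _root_.Fin.succ_zero_eq_one, _root_.IsEmpty.forall_iff, _root_.Matrix.one_apply_eq, _root_.mul_one, _root_.sub_add_cancel, Nat.reduceAdd, _root_.ne_eq, _root_.zero_ne_one, _root_.not_false_eq_true, _root_.Matrix.one_apply_ne, _root_.MulZeroClass.mul_zero, _root_.zero_add, _root_.Fin.succ_ne_zero, _root_.and_true, _root_.true_and]) <;> (repeat' with_reducible apply And.intro)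
    · field_simp
    · field_simp
      linear_combination e00
    · field_simp
      linear_combination e01

/-- commuting with a non-scalar matrix is transitive -/
theorem comm_trans {X C D : Matrix (Fin 2) (Fin 2) F} (hX : ¬ Sc X) (hC : X * C = C * X) (hD : X * D = D * X) :
    C * D = D * C := by
  obtain ⟨a, b, rfl⟩ := exists_of_comm hX hC
  simp only [Matrix.add_mul, Matrix.mul_add, Matrix.smul_mul, Matrix.mul_smul, Matrix.one_mul, Matrix.mul_one, hD]

theorem sc_of_comm {X Y C : Matrix (Fin 2) (Fin 2) F} (hXY : X * Y ≠ Y * X) (hX : X * C = C * X)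
    (hY : Y * C = C * Y) : Sc C := by
  by_contra hC
  exact hXY (comm_trans hC hX.symm hY.symm)

/-- polarised Cayley-Hamilton for `tr Y = 0` -/
theorem mul_add_mul {A Y : Matrix (Fin 2) (Fin 2) F} (hY : Y.trace = 0) :
    Y * A + A * Y = A.trace • Y + (A * Y).trace • (1 : Matrix (Fin 2) (Fin 2) F) := by
  rw [Matrix.trace_fin_two] at hY
  have h1 : Y 1 1 = - Y 0 0 := by linear_combination hY
  ext i j
  (revert i j; simp only [Matrix.mul_apply, Fin.sum_univ_two, Matrix.trace_fin_two, h1, _root_.Fin.forall_fin_succ, _root_.Matrix.add_apply, Fin.isValue, _root_.mul_neg, _root_.Matrix.smul_apply, _root_.smul_eq_mul, _root_.Fin.succ_zero_eq_one, _root_.IsEmpty.forall_iff, _root_.and_true, _root_.Matrix.one_apply_eq, _root_.mul_one, Nat.reduceAdd, _root_.ne_eq, _root_.zero_ne_one, _root_.not_false_eq_true, _root_.Matrix.one_apply_ne, _root_.MulZeroClass.mul_zero, _root_.add_zero, _root_.Fin.succ_ne_zero, _root_.neg_mul]) <;> (repeat' with_reducible apply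 And.intro) <;> ring

theorem det_comm {A Y : Matrix (Fin 2) (Fin 2) F} (hY : Y.trace = 0) :
    (A * Y - Y * A).det = (4 * A.det - A.trace ^ 2) * Y.det - (A * Y).trace ^ 2 := by
  rw [Matrix.trace_fin_two] at hY
  have h1 : Y 1 1 = - Y 0 0 := by linear_combination hY
  simp only [Matrix.det_fin_two, Matrix.mul_apply, Fin.sum_univ_two, Matrix.trace_fin_two, h1, _root_.Fin.isValue, _root_.Matrix.sub_apply, _root_.mul_neg, _root_.neg_mul]
  ring

/-- `Y` normalises `F[A]`, `tr Y = 0`, `tr (A Y) ≠ 0`: `Y` commutes with `A` -/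
theorem comm_of_norm {A Y C : Matrix (Fin 2) (Fin 2) F} (hA : ¬ Sc A) (hY : Y.trace = 0) (hs : (A * Y).trace ≠ 0)
    (hC : Y * A = C * Y) (hCA : A * C = C * A) : A * Y = Y * A := by
  obtain ⟨a, b, hab⟩ := exists_of_comm hA hCA
  set B : Matrix (Fin 2) (Fin 2) F := (a - A.trace) • (1 : Matrix (Fin 2) (Fin 2) F) + (b + 1) • A with hB
  have h1 : B * Y = (A * Y).trace • (1 : Matrix (Fin 2) (Fin 2) F) := by
    have h2 := mul_add_mul (A := A) hY
    rw [hC, hab] at h2
    rw [hB]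
    have h3 : ((a - A.trace) • (1 : Matrix (Fin 2) (Fin 2) F) + (b + 1) • A) * Y =
        (a • (1 : Matrix (Fin 2) (Fin 2) F) + b • A) * Y + A * Y - A.trace • Y := by
      simp only [Matrix.add_mul, Matrix.sub_mul, Matrix.smul_mul, Matrix.one_mul, sub_smul, add_smul, one_smul]
      abel
    rw [h3, h2]
    abel
  have hBA : B * A = A * B := by
    rw [hB]
    simp only [Matrix.add_mul, Matrix.mul_add, Matrix.smul_mul, Matrix.mul_smul, Matrix.one_mul, Matrix.mul_one]
  have hBB : Y * B = (A * Y).trace • (1 : Matrix (Fin 2) (Fin 2) F) := by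
    have h2 : ((A * Y).trace⁻¹ • B) * Y = 1 := by
      rw [Matrix.smul_mul, h1, smul_smul, inv_mul_cancel₀ hs, one_smul]
    have h3 := mul_eq_one_comm.1 h2
    rw [Matrix.mul_smul] at h3
    calc Y * B = (A * Y).trace • ((A * Y).trace⁻¹ • (Y * B)) := by rw [smul_smul, mul_inv_cancel₀ hs, one_smul]
      _ = _ := by rw [h3]
  have h4 : (A * Y).trace • (A * Y) = (A * Y).trace • (Y * A) := by
    calc (A * Y).trace • (A * Y) = ((A * Y).trace • (1 : Matrix (Fin 2) (Fin 2) F)) * (A * Y) := by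
          rw [Matrix.smul_mul, Matrix.one_mul]
      _ = (Y * B) * (A * Y) := by rw [hBB]
      _ = Y * (A * (B * Y)) := by rw [← Matrix.mul_assoc A B, ← hBA]; simp only [Matrix.mul_assoc]
      _ = _ := by rw [h1, Matrix.mul_smul, Matrix.mul_smul, Matrix.mul_one]
  have h5 := congrArg (fun M => (A * Y).trace⁻¹ • M) h4
  simpa only [smul_smul, inv_mul_cancel₀ hs, _root_.one_smul] using h5

/-! ### Eigenvectors -/

/-- parallel vectors -/
def Par (v w : Fin 2 → F) : Prop := v 0 * w 1 - v 1 * w 0 = 0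

theorem par_iff {v w : Fin 2 → F} (hv : v ≠ 0) : Par v w ↔ ∃ c : F, w = c • v := by
  constructor
  · intro h
    unfold Par at h
    by_cases h0 : v 0 = 0
    · have h1 : v 1 ≠ 0 := by
        intro h1
        apply hv
        ext i
        fin_cases i <;> simp [h0, h1]
      rw [h0, zero_mul, zero_sub, neg_eq_zero, mul_eq_zero] at h
      have h2 := h.resolve_left h1
      refine ⟨w 1 / v 1, ?_⟩
      ext i
      fin_cases i
      · simp [h0, h2]
      · simp [h1]
    · refine ⟨w 0 / v 0, ?_⟩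
      ext i
      fin_cases i
      · simp [h0]
      · simp only [Fin.mk_one, Pi.smul_apply, smul_eq_mul]
        field_simp
        linear_combination h
  · rintro ⟨c, rfl⟩
    unfold Par
    simp only [Pi.smul_apply, smul_eq_mul]
    ring

theorem par_mulVec (X : Matrix (Fin 2) (Fin 2) F) (v w : Fin 2 → F) :
    (X *ᵥ v) 0 * (X *ᵥ w) 1 - (X *ᵥ v) 1 * (X *ᵥ w) 0 = X.det * (v 0 * w 1 - v 1 * w 0) := by
  simp only [Matrix.mulVec, dotProduct, Fin.sum_univ_two, Matrix.det_fin_two]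
  ring

theorem par_of_mulVec {X : Matrix (Fin 2) (Fin 2) F} (hX : X.det ≠ 0) {v w : Fin 2 → F}
    (h : Par (X *ᵥ v) (X *ᵥ w)) : Par v w := by
  unfold Par at h ⊢
  rw [par_mulVec] at h
  exact (mul_eq_zero.1 h).resolve_left hX

/-- coordinates -/
theorem exists_coord {v w : Fin 2 → F} (h : ¬ Par v w) (u : Fin 2 → F) : ∃ x y : F, u = x • v + y • w := by
  unfold Par at h
  refine ⟨(u 0 * w 1 - u 1 * w 0) / (v 0 * w 1 - v 1 * w 0), (v 0 * u 1 - v 1 * u 0) / (v 0 * w 1 - v 1 * w 0), ?_⟩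
  ext i
  fin_cases i
  · simp only [Fin.zero_eta, Pi.add_apply, Pi.smul_apply, smul_eq_mul]
    rw [div_mul_eq_mul_div, div_mul_eq_mul_div, ← add_div, eq_div_iff h]
    ring
  · simp only [Fin.mk_one, Pi.add_apply, Pi.smul_apply, smul_eq_mul]
    rw [div_mul_eq_mul_div, div_mul_eq_mul_div, ← add_div, eq_div_iff h]
    ring

theorem eq_zero_of_comb {v w : Fin 2 → F} (h : ¬ Par v w) {x y : F} (hxy : x • v + y • w = 0) : x = 0 ∧ y = 0 := by
  unfold Par at h
  have h0 := congrFun hxy 0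
  have h1 := congrFun hxy 1
  simp only [Pi.add_apply, Pi.smul_apply, smul_eq_mul, Pi.zero_apply] at h0 h1
  constructor
  · exact (mul_eq_zero.1 (show (v 0 * w 1 - v 1 * w 0) * x = 0 by linear_combination w 1 * h0 - w 0 * h1)).resolve_left h
  · exact (mul_eq_zero.1 (show (v 0 * w 1 - v 1 * w 0) * y = 0 by linear_combination v 0 * h1 - v 1 * h0)).resolve_left h

theorem ext_of {v w : Fin 2 → F} (h : ¬ Par v w) {X X' : Matrix (Fin 2) (Fin 2) F} (hv : X *ᵥ v = X' *ᵥ v)
    (hw : X *ᵥ w = X' *ᵥ w) : X = X' := by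
  have h1 : ∀ u, X *ᵥ u = X' *ᵥ u := by
    intro u
    obtain ⟨x, y, rfl⟩ := exists_coord h u
    rw [Matrix.mulVec_add, Matrix.mulVec_add, Matrix.mulVec_smul, Matrix.mulVec_smul, Matrix.mulVec_smul,
      Matrix.mulVec_smul, hv, hw]
  exact Matrix.mulVec_injective (funext h1)

/-- three eigenvectors -/
theorem eig_three {B : Matrix (Fin 2) (Fin 2) F} (hB : ¬ Sc B) {v w u : Fin 2 → F} (h : ¬ Par v w) {β γ δ : F}
    (hv : B *ᵥ v = β • v) (hw : B *ᵥ w = γ • w) (hu : B *ᵥ u = δ • u) : Par v u ∨ Par w u := by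
  obtain ⟨x, y, rfl⟩ := exists_coord h u
  have h1 : (x * β - δ * x) • v + (y * γ - δ * y) • w = 0 := by
    rw [Matrix.mulVec_add, Matrix.mulVec_smul, Matrix.mulVec_smul, hv, hw] at hu
    rw [sub_smul, sub_smul, mul_smul, mul_smul, mul_smul, mul_smul]
    have h2 : x • β • v + y • γ • w - δ • (x • v + y • w) = 0 := sub_eq_zero.2 hu
    rw [smul_add] at h2
    rw [← h2]
    abel
  obtain ⟨h2, h3⟩ := eq_zero_of_comb h h1
  by_cases hx : x = 0
  · right
    unfold Par
    simp only [hx, zero_smul, zero_add, Pi.smul_apply, smul_eq_mul]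
    ring
  · by_cases hy : y = 0
    · left
      unfold Par
      simp only [hy, zero_smul, add_zero, Pi.smul_apply, smul_eq_mul]
      ring
    · exfalso
      have h4 : β = δ := mul_left_cancel₀ hx (by linear_combination h2)
      have h5 : γ = δ := mul_left_cancel₀ hy (by linear_combination h3)
      apply hB
      refine ⟨δ, ext_of h ?_ ?_⟩
      · rw [hv, h4, Matrix.smul_mulVec, Matrix.one_mulVec]
      · rw [hw, h5, Matrix.smul_mulVec, Matrix.one_mulVec]

theorem eig_of_comm {B C : Matrix (Fin 2) (Fin 2) F} (hB : ¬ Sc B) (h : B * C = C * B) {v : Fin 2 → F} {β : F}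
    (hv : B *ᵥ v = β • v) : ∃ γ : F, C *ᵥ v = γ • v := by
  obtain ⟨a, b, rfl⟩ := exists_of_comm hB h
  refine ⟨a + b * β, ?_⟩
  rw [Matrix.add_mulVec, Matrix.smul_mulVec, Matrix.smul_mulVec, Matrix.one_mulVec, hv, add_smul, mul_smul]

/-! ### The solvable groups -/

/-- the scalar matrices of `GL_2` -/
def scZ (F : Type*) [Field F] : Subgroup (GL (Fin 2) F) where
  carrier := {g | Sc (g : Matrix (Fin 2) (Fin 2) F)}
  one_mem' := ⟨1, by rw [one_smul]; rfl⟩
  mul_mem' := by
    rintro a b ⟨c, hc⟩ ⟨d, hd⟩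
    refine ⟨c * d, ?_⟩
    rw [Units.val_mul, hc, hd, Matrix.smul_mul, Matrix.one_mul, smul_smul]
  inv_mem' := by
    rintro a ⟨c, hc⟩
    have h1 : (a : Matrix (Fin 2) (Fin 2) F) * ((a⁻¹ : GL (Fin 2) F) : Matrix (Fin 2) (Fin 2) F) = 1 := by
      rw [← Units.val_mul, mul_inv_cancel, Units.val_one]
    rw [hc, Matrix.smul_mul, Matrix.one_mul] at h1
    have hc0 : c ≠ 0 := by
      rintro rfl
      rw [zero_smul] at h1
      exact zero_ne_one h1
    refine ⟨c⁻¹, ?_⟩
    rw [← h1, smul_smul, inv_mul_cancel₀ hc0, one_smul]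

theorem mem_scZ {g : GL (Fin 2) F} : g ∈ scZ F ↔ Sc (g : Matrix (Fin 2) (Fin 2) F) := Iff.rfl

theorem comm_of_sc {g : GL (Fin 2) F} (hg : g ∈ scZ F) (h : GL (Fin 2) F) : g * h = h * g := by
  obtain ⟨c, hc⟩ := hg
  apply Units.ext
  rw [Units.val_mul, Units.val_mul, hc, Matrix.smul_mul, Matrix.mul_smul, Matrix.one_mul, Matrix.mul_one]

theorem det_ne (g : GL (Fin 2) F) : (g : Matrix (Fin 2) (Fin 2) F).det ≠ 0 :=
  ((Matrix.isUnit_iff_isUnit_det _).1 g.isUnit).ne_zero

theorem coe_comm {g h : GL (Fin 2) F} : (g : Matrix (Fin 2) (Fin 2) F) * h = h * g ↔ g * h = h * g := by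
  rw [← Units.val_mul, ← Units.val_mul, Units.val_inj]

/-- the odd power trick -/
theorem comm_of_pow {G : Type*} [Group G] {A B : G} {p : ℕ} (hp : Odd p) (h2 : A ^ 2 * B = B * A ^ 2)
    (h3 : A ^ p * B = B * A ^ p) : A * B = B * A := by
  obtain ⟨k, rfl⟩ := hp
  have h4 : Commute (A ^ (2 * k)) B := by
    rw [pow_mul]
    exact (show Commute (A ^ 2) B from h2).pow_left k
  have h5 : Commute (A ^ (2 * k + 1)) B := h3
  have h6 : A = (A ^ (2 * k))⁻¹ * A ^ (2 * k + 1) := by rw [pow_succ, inv_mul_cancel_left]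
  have h7 : Commute A B := by
    rw [h6]
    exact (h4.inv_left).mul_left h5
  exact h7

/-- **abelian case** -/
theorem comm_case [IsAlgClosed F] {A Y : GL (Fin 2) F} {p : ℕ} (hp : Odd p) (hA : A ^ p ∈ scZ F)
    (hd : ((A : Matrix (Fin 2) (Fin 2) F) * Y - Y * A).det ≠ 0) {M : Subgroup (GL (Fin 2) F)}
    (hM : ∀ g ∈ _root_.Subgroup.closure ({A, Y} : Set (GL (Fin 2) F)), ∀ m ∈ M, g⁻¹ * m * g ∈ M)
    (hab : ∀ m ∈ M, ∀ m' ∈ M, m * m' = m' * m) {B : GL (Fin 2) F} (hB : B ∈ M) (hBs : B ∉ scZ F) :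
    A * B = B * A := by
  have hAc : A ∈ _root_.Subgroup.closure ({A, Y} : Set (GL (Fin 2) F)) := _root_.Subgroup.subset_closure (Set.mem_insert _ _)
  have hYc : Y ∈ closure ({A, Y} : Set (GL (Fin 2) F)) := _root_.Subgroup.subset_closure (Set.mem_insert_of_mem _ rfl)
  obtain ⟨β, hβ⟩ := Module.End.exists_eigenvalue (Matrix.toLin' (B : Matrix (Fin 2) (Fin 2) F))
  obtain ⟨v, hv⟩ := hβ.exists_hasEigenvector
  have hv0 : v ≠ 0 := hv.2
  have hBv : (B : Matrix (Fin 2) (Fin 2) F) *ᵥ v = β • v := by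
    have := hv.apply_eq_smul
    rwa [Matrix.toLin'_apply] at this
  have heig : ∀ g ∈ _root_.Subgroup.closure ({A, Y} : Set (GL (Fin 2) F)), ∀ (u : Fin 2 → F) (δ : F),
      (B : Matrix (Fin 2) (Fin 2) F) *ᵥ u = δ • u → ∃ γ : F, (B : Matrix (Fin 2) (Fin 2) F) *ᵥ
        ((g : Matrix (Fin 2) (Fin 2) F) *ᵥ u) = γ • ((g : Matrix (Fin 2) (Fin 2) F) *ᵥ u) := by
    intro g hg u δ hu
    obtain ⟨γ, hγ⟩ := eig_of_comm (C := ((g⁻¹ * B * g : GL (Fin 2) F) : Matrix (Fin 2) (Fin 2) F)) hBs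
      (coe_comm.2 (hab _ hB _ (hM g hg B hB))) hu
    refine ⟨γ, ?_⟩
    rw [Matrix.mulVec_mulVec, ← Units.val_mul, show B * g = g * (g⁻¹ * B * g) by group, Units.val_mul,
      ← Matrix.mulVec_mulVec, hγ, Matrix.mulVec_smul]
  have hne : ∀ (g : GL (Fin 2) F) (u : Fin 2 → F), u ≠ 0 → (g : Matrix (Fin 2) (Fin 2) F) *ᵥ u ≠ 0 := by
    intro g u hu h
    exact (det_ne g) (Matrix.exists_mulVec_eq_zero_iff.1 ⟨u, hu, h⟩)
  obtain ⟨w, γ, hw0, hBw, hvw⟩ : ∃ (w : Fin 2 → F) (γ : F), w ≠ 0 ∧ (B : Matrix (Fin 2) (Fin 2) F) *ᵥ w = γ • w ∧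
      ¬ Par v w := by
    by_contra hcon
    push Not at hcon
    obtain ⟨γ, hγ⟩ := heig A hAc v β hBv
    obtain ⟨δ, hδ⟩ := heig Y hYc v β hBv
    obtain ⟨a, ha⟩ := (par_iff hv0).1 (hcon _ _ (hne A v hv0) hγ)
    obtain ⟨b, hb⟩ := (par_iff hv0).1 (hcon _ _ (hne Y v hv0) hδ)
    apply hd
    apply Matrix.exists_mulVec_eq_zero_iff.1
    refine ⟨v, hv0, ?_⟩
    rw [Matrix.sub_mulVec, ← Matrix.mulVec_mulVec, ← Matrix.mulVec_mulVec, ha, hb, Matrix.mulVec_smul,
      Matrix.mulVec_smul, ha, hb, smul_smul, smul_smul, mul_comm, sub_self]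
  have hwv : ¬ Par w v := by
    intro h
    apply hvw
    unfold Par at h ⊢
    linear_combination -h
  have hA0 : (A : Matrix (Fin 2) (Fin 2) F).det ≠ 0 := det_ne A
  have hAv0 := hne A v hv0
  have hAw0 := hne A w hw0
  obtain ⟨γ₁, hγ₁⟩ := heig A hAc v β hBv
  obtain ⟨γ₂, hγ₂⟩ := heig A hAc w γ hBw
  have hAvAw : ¬ Par ((A : Matrix (Fin 2) (Fin 2) F) *ᵥ v) ((A : Matrix (Fin 2) (Fin 2) F) *ᵥ w) :=
    fun h => hvw (par_of_mulVec hA0 h)
  have hpv : Par v ((A : Matrix (Fin 2) (Fin 2) F) *ᵥ v) := by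
    by_contra hcon
    have h1 := (eig_three hBs hvw hBv hBw hγ₁).resolve_left hcon
    obtain ⟨a, ha⟩ := (par_iff hw0).1 h1
    have h2 : Par v ((A : Matrix (Fin 2) (Fin 2) F) *ᵥ w) := by
      rcases eig_three hBs hvw hBv hBw hγ₂ with h2 | h2
      · exact h2
      · exfalso
        obtain ⟨b, hb⟩ := (par_iff hw0).1 h2
        apply hAvAw
        rw [ha, hb]
        unfold Par
        simp only [Pi.smul_apply, smul_eq_mul]
        ring
    obtain ⟨b, hb⟩ := (par_iff hv0).1 h2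
    obtain ⟨k, rfl⟩ := hp
    have h3 : ∀ j : ℕ, (((A ^ (2 * j) : GL (Fin 2) F)) : Matrix (Fin 2) (Fin 2) F) *ᵥ v = (a * b) ^ j • v := by
      intro j
      induction j with
      | zero => simp
      | succ j ih =>
        rw [show 2 * (j + 1) = 1 + 1 + 2 * j by ring, pow_add, pow_add, pow_one, Units.val_mul, Units.val_mul,
          ← Matrix.mulVec_mulVec, ih, Matrix.mulVec_smul, ← Matrix.mulVec_mulVec, ha, Matrix.mulVec_smul, hb,
          smul_smul, smul_smul]
        congr 1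
        ring
    obtain ⟨c, hc⟩ := hA
    have h4 : (((A ^ (2 * k + 1) : GL (Fin 2) F)) : Matrix (Fin 2) (Fin 2) F) *ᵥ v = ((a * b) ^ k * a) • w := by
      rw [pow_succ', Units.val_mul, ← Matrix.mulVec_mulVec, h3, Matrix.mulVec_smul, ha, smul_smul]
    rw [hc, Matrix.smul_mulVec, Matrix.one_mulVec] at h4
    have h5 : c • v + (-((a * b) ^ k * a)) • w = 0 := by rw [h4, neg_smul, add_neg_cancel]
    obtain ⟨h6, -⟩ := eq_zero_of_comb hvw h5
    rw [h6, zero_smul] at hc
    exact (det_ne (A ^ (2 * k + 1))) (by rw [hc, Matrix.det_zero])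
  have hpw : Par w ((A : Matrix (Fin 2) (Fin 2) F) *ᵥ w) := by
    rcases eig_three hBs hvw hBv hBw hγ₂ with h2 | h2
    · exfalso
      obtain ⟨a, ha⟩ := (par_iff hv0).1 hpv
      obtain ⟨b, hb⟩ := (par_iff hv0).1 h2
      apply hAvAw
      rw [ha, hb]
      unfold Par
      simp only [Pi.smul_apply, smul_eq_mul]
      ring
    · exact h2
  obtain ⟨a, ha⟩ := (par_iff hv0).1 hpv
  obtain ⟨b, hb⟩ := (par_iff hw0).1 hpw
  rw [← coe_comm]
  apply ext_of hvw
  · rw [← Matrix.mulVec_mulVec, ← Matrix.mulVec_mulVec, hBv, ha, Matrix.mulVec_smul, Matrix.mulVec_smul, ha, hBv,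
      smul_smul, smul_smul, mul_comm]
  · rw [← Matrix.mulVec_mulVec, ← Matrix.mulVec_mulVec, hBw, hb, Matrix.mulVec_smul, Matrix.mulVec_smul, hb, hBw,
      smul_smul, smul_smul, mul_comm]

/-- commutators in a group of matrices which is abelian modulo scalars -/
theorem comm_sign {g h : GL (Fin 2) F} (hc : g * h * g⁻¹ * h⁻¹ ∈ scZ F) :
    g * h = h * g ∨ g * h = -(h * g) := by
  obtain ⟨c, hc⟩ := hc
  have h1 : (g : Matrix (Fin 2) (Fin 2) F) * h = c • (h * g) := by
    have h2 : g * h = (g * h * g⁻¹ * h⁻¹) * (h * g) := by group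
    rw [← Units.val_mul, h2, Units.val_mul, hc, Matrix.smul_mul, Matrix.one_mul, Units.val_mul]
  have h2 := congrArg Matrix.det h1
  rw [Matrix.det_mul, Matrix.det_smul, Matrix.det_mul, Fintype.card_fin] at h2
  have h3 : (h : Matrix (Fin 2) (Fin 2) F).det * (g : Matrix (Fin 2) (Fin 2) F).det ≠ 0 :=
    mul_ne_zero (det_ne h) (det_ne g)
  have h4 : c ^ 2 = 1 := by
    apply mul_right_cancel₀ h3
    rw [one_mul, ← h2, mul_comm]
  rcases sq_eq_sq_iff_eq_or_eq_neg.1 (h4.trans (one_pow 2).symm) with h5 | h5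
  · left
    apply Units.ext
    rw [Units.val_mul, h1, h5, one_smul, Units.val_mul]
  · right
    apply Units.ext
    rw [Units.val_mul, h1, h5, neg_smul, one_smul, Units.val_neg, Units.val_mul]

theorem sc_of_comm' {g h m : GL (Fin 2) F} (hgh : g * h ≠ h * g) (hg : g * m = m * g) (hh : h * m = m * h) :
    m ∈ scZ F :=
  sc_of_comm (fun h => hgh (coe_comm.1 h)) (coe_comm.2 hg) (coe_comm.2 hh)

theorem inv_mul_sign {G : Type*} [Group G] {x y z a b : G} (ha : ∀ t, a * t = t * a) (hb : ∀ t, b * t = t * b)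
    (hy : x * y = a * (y * x)) (hz : x * z = b * (z * x)) : x * (y⁻¹ * z) = (a⁻¹ * b) * ((y⁻¹ * z) * x) := by
  have h1 : x * y⁻¹ = a⁻¹ * (y⁻¹ * x) := by
    have h2 : y⁻¹ * (x * y) * y⁻¹ = y⁻¹ * (a * (y * x)) * y⁻¹ := by rw [hy]
    have h3 : y⁻¹ * (a * (y * x)) * y⁻¹ = a * (x * y⁻¹) := by
      rw [← mul_assoc y⁻¹ a, ← ha]
      group
    rw [h3] at h2
    have h4 : y⁻¹ * (x * y) * y⁻¹ = y⁻¹ * x := by group
    rw [h4] at h2
    rw [h2, inv_mul_cancel_left]
  have hai : ∀ t, a⁻¹ * t = t * a⁻¹ := by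
    intro t
    rw [inv_mul_eq_iff_eq_mul, ← mul_assoc, ha t, mul_inv_cancel_right]
  rw [← mul_assoc, h1, mul_assoc, mul_assoc, hz, ← mul_assoc y⁻¹ b, ← hb y⁻¹]
  simp only [mul_assoc]

/-- the three non-trivial classes of a quaternion-type group -/
theorem class_of {g h m : GL (Fin 2) F} (hgh : g * h ≠ h * g) (hgh' : g * h = -(h * g))
    (hg : g * m = m * g ∨ g * m = -(m * g)) (hh : h * m = m * h ∨ h * m = -(m * h)) (hm : m ∉ scZ F) :
    g⁻¹ * m ∈ scZ F ∨ h⁻¹ * m ∈ scZ F ∨ (g * h)⁻¹ * m ∈ scZ F := by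
  have h1 : ∀ t : GL (Fin 2) F, (1 : GL (Fin 2) F) * t = t * 1 := fun t => by rw [one_mul, mul_one]
  have he : ∀ t : GL (Fin 2) F, (-1 : GL (Fin 2) F) * t = t * (-1) := fun t => by rw [neg_mul, mul_neg, one_mul, mul_one]
  have hgg : g * g = 1 * (g * g) := by rw [one_mul]
  have hhh : h * h = 1 * (h * h) := by rw [one_mul]
  have hgh1 : g * h = (-1) * (h * g) := by rw [neg_mul, one_mul, hgh']
  have hhg1 : h * g = (-1) * (g * h) := by rw [neg_mul, one_mul, hgh', neg_neg]
  have hggh : g * (g * h) = (-1) * (g * h * g) := by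
    rw [mul_assoc g h g, hhg1, neg_mul, neg_mul, one_mul, one_mul, mul_neg, neg_neg]
  have hhgh : h * (g * h) = (-1) * (g * h * h) := by rw [← mul_assoc, hhg1, mul_assoc]
  have hee : (-1 : GL (Fin 2) F)⁻¹ * (-1) = 1 := inv_mul_cancel _
  rcases hg with hg | hg <;> rcases hh with hh | hh
  · exact absurd (sc_of_comm' hgh hg hh) hm
  · left
    refine sc_of_comm' hgh ?_ ?_
    · have := inv_mul_sign h1 h1 hgg (hg.trans (one_mul _).symm)
      rwa [inv_one, one_mul, one_mul] at this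
    · have := inv_mul_sign he he hhg1 (hh.trans (by rw [neg_mul, one_mul]))
      rwa [hee, one_mul] at this
  · right; left
    refine sc_of_comm' hgh ?_ ?_
    · have := inv_mul_sign he he hgh1 (hg.trans (by rw [neg_mul, one_mul]))
      rwa [hee, one_mul] at this
    · have := inv_mul_sign h1 h1 hhh (hh.trans (one_mul _).symm)
      rwa [inv_one, one_mul, one_mul] at this
  · right; right
    refine sc_of_comm' hgh ?_ ?_
    · have := inv_mul_sign he he hggh (hg.trans (by rw [neg_mul, one_mul]))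
      rwa [hee, one_mul] at this
    · have := inv_mul_sign he he hhgh (hh.trans (by rw [neg_mul, one_mul]))
      rwa [hee, one_mul] at this

theorem conj_mem_iff {A x : GL (Fin 2) F} : A * x * A⁻¹ ∈ scZ F ↔ x ∈ scZ F := by
  constructor
  · intro h
    have h1 := comm_of_sc h A⁻¹
    have h2 : x = A⁻¹ * (A * x * A⁻¹) * A := by group
    rw [h2, ← h1, inv_mul_cancel_right]
    exact h
  · intro h
    rw [← comm_of_sc h A, mul_inv_cancel_right]
    exact h

/-- **non-abelian case** -/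
theorem nonab_case {A : GL (Fin 2) F} {p : ℕ} (hp : p.Prime) (h5 : 5 ≤ p) (hA : A ^ p ∈ scZ F)
    {M : Subgroup (GL (Fin 2) F)} (hM : ∀ m ∈ M, A * m * A⁻¹ ∈ M)
    (hMM : ∀ m ∈ M, ∀ m' ∈ M, m * m' * m⁻¹ * m'⁻¹ ∈ scZ F) {g h : GL (Fin 2) F} (hg : g ∈ M) (hh : h ∈ M)
    (hgh : g * h ≠ h * g) : A ∈ scZ F := by
  classical
  have hgh' : g * h = -(h * g) := (comm_sign (hMM g hg h hh)).resolve_left hgh
  have hgZ : g ∉ scZ F := fun hz => hgh (comm_of_sc hz h)
  have hhZ : h ∉ scZ F := fun hz => hgh (comm_of_sc hz g).symm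
  set f : Fin 3 → GL (Fin 2) F := ![g, h, g * h] with hf
  have hfM : ∀ i, f i ∈ M := by
    intro i
    fin_cases i
    · exact hg
    · exact hh
    · exact mul_mem hg hh
  have hfinj : ∀ i j, (f i)⁻¹ * f j ∈ scZ F → i = j := by
    have key : ∀ x y : GL (Fin 2) F, x⁻¹ * y ∈ scZ F → x * y = y * x := by
      intro x y hz
      have h1 := comm_of_sc hz x
      have h2 : y = x * (x⁻¹ * y) := by group
      have h3 : x * y = x * ((x⁻¹ * y) * x) := by rw [h1, ← h2]
      rw [h3, ← mul_assoc, ← h2]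
    have k1 : ¬ g * (g * h) = (g * h) * g := by
      intro h1
      apply hgh
      have h2 : g * (g * h) = g * (h * g) := by rw [h1, mul_assoc]
      exact mul_left_cancel h2
    have k2 : ¬ h * (g * h) = (g * h) * h := by
      intro h1
      apply hgh
      have h2 : (g * h) * h = (h * g) * h := by rw [← h1, mul_assoc]
      exact mul_right_cancel h2
    intro i j hij
    have h1 := key _ _ hij
    fin_cases i <;> fin_cases j
    · rfl
    · exact absurd h1 hgh
    · exact absurd h1 k1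
    · exact absurd h1.symm hgh
    · rfl
    · exact absurd h1 k2
    · exact absurd h1.symm k1
    · exact absurd h1.symm k2
    · rfl
  have hfZ : ∀ i, f i ∉ scZ F := by
    intro i
    fin_cases i
    · exact hgZ
    · exact hhZ
    · intro h1
      apply hgh
      have h2 := comm_of_sc h1 g
      have h3 : g * (h * g) = g * (g * h) := by
        rw [← mul_assoc]
        exact h2
      exact (mul_left_cancel h3).symm
  have hσ : ∀ i, ∃ j, (f j)⁻¹ * (A * f i * A⁻¹) ∈ scZ F := by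
    intro i
    have hm : A * f i * A⁻¹ ∈ M := hM _ (hfM i)
    rcases class_of hgh hgh' (comm_sign (hMM g hg _ hm)) (comm_sign (hMM h hh _ hm))
      (fun h1 => hfZ i (conj_mem_iff.1 h1)) with h1 | h1 | h1
    · exact ⟨0, h1⟩
    · exact ⟨1, h1⟩
    · exact ⟨2, h1⟩
  choose σ hσ using hσ
  have hσinj : Function.Injective σ := by
    intro i j hij
    apply hfinj
    have h1 := hσ i
    have h2 := hσ j
    rw [← hij] at h2
    have h3 := mul_mem (inv_mem h1) h2
    have h4 : ((f (σ i))⁻¹ * (A * f i * A⁻¹))⁻¹ * ((f (σ i))⁻¹ * (A * f j * A⁻¹)) = A * ((f i)⁻¹ * f j) * A⁻¹ := by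
      group
    rw [h4] at h3
    exact conj_mem_iff.1 h3
  set τ : Equiv.Perm (Fin 3) := Equiv.ofBijective σ (Finite.injective_iff_bijective.1 hσinj) with hτ
  have hτ' : ∀ (k : ℕ) (i : Fin 3), (f ((τ ^ k) i))⁻¹ * (A ^ k * f i * (A ^ k)⁻¹) ∈ scZ F := by
    intro k
    induction k with
    | zero =>
      intro i
      simp [one_mem (scZ F)]
    | succ k ih =>
      intro i
      have h1 := hσ ((τ ^ k) i)
      have h2 := conj_mem_iff (A := A).2 (ih i)
      have h3 : (τ ^ (k + 1)) i = σ ((τ ^ k) i) := by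
        rw [pow_succ', Equiv.Perm.mul_apply]
        rfl
      rw [h3]
      have h4 := mul_mem h1 h2
      have h5 : (f (σ ((τ ^ k) i)))⁻¹ * (A * f ((τ ^ k) i) * A⁻¹) *
          (A * ((f ((τ ^ k) i))⁻¹ * (A ^ k * f i * (A ^ k)⁻¹)) * A⁻¹) =
          (f (σ ((τ ^ k) i)))⁻¹ * (A ^ (k + 1) * f i * (A ^ (k + 1))⁻¹) := by
        rw [pow_succ']
        group
      rwa [h5] at h4
  have hτp : τ ^ p = 1 := by
    ext i
    have h1 := hτ' p i
    rw [comm_of_sc hA, mul_inv_cancel_right] at h1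
    rw [hfinj _ _ h1]
    rfl
  have hτ1 : τ = 1 := by
    rw [← orderOf_eq_one_iff, ← Nat.dvd_one]
    have h1 : orderOf τ ∣ p := orderOf_dvd_of_pow_eq_one hτp
    have h2 : orderOf τ ∣ 6 := by
      have := orderOf_dvd_card (x := τ)
      rwa [Fintype.card_perm, Fintype.card_fin] at this
    have h3 : Nat.Coprime p 6 := by
      rw [Nat.Prime.coprime_iff_not_dvd hp]
      intro h4
      have h6 := Nat.le_of_dvd (by norm_num) h4
      interval_cases p
      · norm_num at h4
      · norm_num at hp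
    have h4 := Nat.dvd_gcd h1 h2
    rwa [h3] at h4
  have hcom : ∀ i, A * f i = f i * A := by
    intro i
    have h1 := hσ i
    have h2 : σ i = i := by
      have h3 := DFunLike.congr_fun hτ1 i
      exact h3
    rw [h2] at h1
    have h3 : A * f i * A⁻¹ * (f i)⁻¹ ∈ scZ F := by
      have h4 : A * f i * A⁻¹ * (f i)⁻¹ = f i * ((f i)⁻¹ * (A * f i * A⁻¹)) * (f i)⁻¹ := by group
      rw [h4]
      exact conj_mem_iff.2 h1
    have hodd : Odd p := hp.odd_of_ne_two (by omega)
    refine comm_of_pow hodd ?_ (comm_of_sc hA _)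
    rcases comm_sign h3 with h4 | h4
    · rw [pow_two, mul_assoc, h4, ← mul_assoc, h4, mul_assoc]
    · rw [pow_two, mul_assoc, h4, mul_neg, ← mul_assoc, h4, neg_mul, neg_neg, mul_assoc]
  exact sc_of_comm' hgh (hcom 0).symm (hcom 1).symm

/-- **The criterion**, algebraically closed fields. -/
theorem not_solvable_alg [IsAlgClosed F] {A Y : GL (Fin 2) F} {p : ℕ} (hp : p.Prime) (h5 : 5 ≤ p)
    (hA : A ^ p ∈ scZ F) (hA' : A ∉ scZ F) (hY : (Y : Matrix (Fin 2) (Fin 2) F).trace = 0)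
    (hs : ((A : Matrix (Fin 2) (Fin 2) F) * Y).trace ≠ 0)
    (hd : ((A : Matrix (Fin 2) (Fin 2) F) * Y - Y * A).det ≠ 0) :
    ¬ Group.IsSolvable ↥(_root_.Subgroup.closure ({A, Y} : Set (GL (Fin 2) F))) := by
  intro hsol
  set H := _root_.Subgroup.closure ({A, Y} : Set (GL (Fin 2) F)) with hH
  have hAH : A ∈ H := _root_.Subgroup.subset_closure (Set.mem_insert _ _)
  have hYH : Y ∈ H := _root_.Subgroup.subset_closure (Set.mem_insert_of_mem _ rfl)
  obtain ⟨M, -, hMn, hMM, ⟨B, hB, hBZ⟩, -⟩ := exists_sub hsol (fun h => hA' (h hAH) : ¬ H ≤ scZ F)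
  have hMn' : ∀ g ∈ H, ∀ m ∈ M, g⁻¹ * m * g ∈ M := by
    intro g hg m hm
    have := hMn g⁻¹ (inv_mem hg) m hm
    rwa [inv_inv] at this
  have hodd : Odd p := hp.odd_of_ne_two (by omega)
  by_cases hab : ∀ m ∈ M, ∀ m' ∈ M, m * m' = m' * m
  · have hAB := comm_case hodd hA hd hMn' hab hB hBZ
    have hC : Y * A * Y⁻¹ * A = A * (Y * A * Y⁻¹) := by
      -- `Y B Y⁻¹` commutes with `B` and with `Y A Y⁻¹`
      have h1 : (Y * B * Y⁻¹) * (Y * A * Y⁻¹) = (Y * A * Y⁻¹) * (Y * B * Y⁻¹) := by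
        have h2 : (Y * B * Y⁻¹) * (Y * A * Y⁻¹) = Y * (B * A) * Y⁻¹ := by group
        have h3 : (Y * A * Y⁻¹) * (Y * B * Y⁻¹) = Y * (A * B) * Y⁻¹ := by group
        rw [h2, h3, hAB]
      have h2 : (Y * B * Y⁻¹) * B = B * (Y * B * Y⁻¹) := hab _ (hMn Y hYH B hB) _ hB
      have h3 : Y * B * Y⁻¹ ∉ scZ F := fun h => hBZ (conj_mem_iff.1 h)
      have h4 : (Y * A * Y⁻¹) * B = B * (Y * A * Y⁻¹) :=
        coe_comm.1 (comm_trans h3 (coe_comm.2 h1) (coe_comm.2 h2))
      exact coe_comm.1 (comm_trans hBZ (coe_comm.2 h4.symm) (coe_comm.2 hAB.symm))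
    have h6 : (A : Matrix (Fin 2) (Fin 2) F) * Y = Y * A := by
      refine comm_of_norm (C := ((Y * A * Y⁻¹ : GL (Fin 2) F) : Matrix (Fin 2) (Fin 2) F)) hA' hY hs ?_
        (coe_comm.2 hC.symm)
      rw [← Units.val_mul, ← Units.val_mul]
      congr 1
      group
    apply hd
    rw [h6, sub_self, Matrix.det_zero]
  · push Not at hab
    obtain ⟨g, hg, h, hh, hgh⟩ := hab
    exact hA' (nonab_case hp h5 hA (fun m hm => hMn A hAH m hm) hMM hg hh hgh)

end two

end Cfsg.Agent.H194.Inv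
end

-- part: H194/Inv/Base
section
/-!
# The base lemma (L2) of S3830, linear form (helper194, task I1)

`F` a finite field, `A ∈ GL_2(F)` not scalar, `A ^ p` scalar, `p ≥ 5` prime.

* `base_diag` : some `Y` with `Y ^ 2 = 1`, `det Y = -1`, `tr Y = 0` and `⟨A, Y⟩` not solvable (all `q`);
* `base_even` : for `q` even: `Y ^ 2 = 1`, `det Y = 1`;
* `base_quat` : for `q` odd some `Y` with `Y ^ 2 = -1`, `det Y = 1`;
* `lin_diag`, `lin_even`, `lin_quat` : the same for a two-dimensional space.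
-/

set_option autoImplicit false
set_option linter.unusedSectionVars false

namespace Cfsg.Agent.H194.Inv

open Matrix Subgroup

section

variable {F : Type*} [Field F]

theorem not_solvable_map {G H : Type*} [Group G] [Group H] (f : G →* H) {a b : G}
    (h : ¬ Group.IsSolvable ↥(_root_.Subgroup.closure ({f a, f b} : Set H))) : ¬ Group.IsSolvable ↥(_root_.Subgroup.closure ({a, b} : Set G)) := by
  intro hs
  apply h
  have h1 : (_root_.Subgroup.closure ({a, b} : Set G)).map f = _root_.Subgroup.closure ({f a, f b} : Set H) := by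
    rw [MonoidHom.map_closure, Set.image_pair]
  rw [← h1]
  exact Group.isSolvable_of_surjective (f := f.subgroupMap (closure ({a, b} : Set G)))
    (f.subgroupMap_surjective _)

/-- **The criterion** -/
theorem not_solvable {A Y : GL (Fin 2) F} {p : ℕ} (hp : p.Prime) (h5 : 5 ≤ p)
    (hA : A ^ p ∈ scZ F) (hA' : A ∉ scZ F) (hY : (Y : Matrix (Fin 2) (Fin 2) F).trace = 0)
    (hs : ((A : Matrix (Fin 2) (Fin 2) F) * Y).trace ≠ 0)
    (hd : ((A : Matrix (Fin 2) (Fin 2) F) * Y - Y * A).det ≠ 0) :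
    ¬ Group.IsSolvable ↥(_root_.Subgroup.closure ({A, Y} : Set (GL (Fin 2) F))) := by
  set K := AlgebraicClosure F
  set i : F →+* K := algebraMap F K with hi
  have hinj : Function.Injective i := i.injective
  set f : GL (Fin 2) F →* GL (Fin 2) K := Matrix.GeneralLinearGroup.map i with hf
  have hval : ∀ g : GL (Fin 2) F, ((f g : GL (Fin 2) K) : Matrix (Fin 2) (Fin 2) K) =
      (g : Matrix (Fin 2) (Fin 2) F).map i := fun g => rfl
  have hsc : ∀ g : GL (Fin 2) F, f g ∈ scZ K ↔ g ∈ scZ F := by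
    intro g
    rw [mem_scZ, mem_scZ, sc_iff, sc_iff, hval]
    simp only [Matrix.map_apply]
    rw [map_eq_zero, map_eq_zero, hinj.eq_iff]
  refine not_solvable_map f (not_solvable_alg hp h5 ?_ ?_ ?_ ?_ ?_)
  · rw [← map_pow, hsc]
    exact hA
  · rwa [hsc]
  · rw [hval, ← AddMonoidHom.map_trace, hY, map_zero]
  · rw [hval, hval, ← Matrix.map_mul, ← AddMonoidHom.map_trace]
    intro h
    exact hs ((map_eq_zero i).1 h)
  · rw [hval, hval, ← Matrix.map_mul, ← Matrix.map_mul, ← Matrix.map_sub _ (map_sub i)]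
    intro h
    apply hd
    apply hinj
    rw [map_zero, RingHom.map_det]
    exact h

theorem exists_companion (A : GL (Fin 2) F) (hA : A ∉ scZ F) : ∃ P : GL (Fin 2) F,
    (A : Matrix (Fin 2) (Fin 2) F) * P = P * !![0, -(A : Matrix (Fin 2) (Fin 2) F).det;
      1, (A : Matrix (Fin 2) (Fin 2) F).trace] := by
  set M : Matrix (Fin 2) (Fin 2) F := (A : Matrix (Fin 2) (Fin 2) F) with hM
  obtain ⟨v, hv⟩ : ∃ v : Fin 2 → F, v 0 * (M *ᵥ v) 1 - v 1 * (M *ᵥ v) 0 ≠ 0 := by
    by_contra hcon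
    push Not at hcon
    apply hA
    rw [mem_scZ, sc_iff]
    have h1 := hcon ![1, 0]
    have h2 := hcon ![0, 1]
    have h3 := hcon ![1, 1]
    simp only [Matrix.mulVec, dotProduct, Fin.sum_univ_two, Matrix.cons_val_zero, Matrix.cons_val_one] at h1 h2 h3
    have h4 : M 1 0 = 0 := by linear_combination h1
    have h5 : M 0 1 = 0 := by linear_combination -h2
    exact ⟨h5, h4, by linear_combination -h3 + h4 - h5⟩
  have hdet : (!![v 0, (M *ᵥ v) 0; v 1, (M *ᵥ v) 1] : Matrix (Fin 2) (Fin 2) F).det ≠ 0 := by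
    rw [Matrix.det_fin_two_of]
    intro h
    apply hv
    linear_combination h
  refine ⟨Matrix.GeneralLinearGroup.mkOfDetNeZero _ hdet, ?_⟩
  show M * !![v 0, (M *ᵥ v) 0; v 1, (M *ᵥ v) 1] = !![v 0, (M *ᵥ v) 0; v 1, (M *ᵥ v) 1] * _
  ext i j
  (revert i j; simp only [Matrix.mul_apply, Fin.sum_univ_two, Matrix.mulVec, dotProduct, Matrix.det_fin_two, Matrix.trace_fin_two, _root_.Fin.forall_fin_succ, Fin.isValue, _root_.Matrix.of_apply, _root_.Matrix.cons_val', _root_.Matrix.cons_val_fin_one, _root_.Matrix.cons_val_zero, _root_.Matrix.cons_val_one, _root_.neg_sub, _root_.MulZeroClass.mul_zero, _root_.mul_one, _root_.zero_add, _root_.Matrix.cons_val_succ, _root_.forall_const, _root_.true_and, _root_.Fin.succ_zero_eq_one, _root_.IsEmpty.forall_iff, _root_.and_true]) <;> (repeat' with_reducible apply And.intro) <;>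
    ring

/-- transport of a choice of `Y` for the companion matrix -/
theorem exists_of_comp {A : GL (Fin 2) F} (hA : A ∉ scZ F) {Y₀ : Matrix (Fin 2) (Fin 2) F} {t d : F}
    (ht : t = (A : Matrix (Fin 2) (Fin 2) F).trace) (hd : d = (A : Matrix (Fin 2) (Fin 2) F).det)
    (h0 : Y₀.det ≠ 0) :
    ∃ Y : GL (Fin 2) F, ∃ P : GL (Fin 2) F, (Y : Matrix (Fin 2) (Fin 2) F) = P * Y₀ * (P⁻¹ : GL (Fin 2) F) ∧
      (Y : Matrix (Fin 2) (Fin 2) F).trace = Y₀.trace ∧ (Y : Matrix (Fin 2) (Fin 2) F).det = Y₀.det ∧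
      ((A : Matrix (Fin 2) (Fin 2) F) * Y).trace = (!![0, -d; 1, t] * Y₀).trace ∧
      (∀ c : F, Y₀ * Y₀ = c • 1 → (Y : Matrix (Fin 2) (Fin 2) F) * Y = c • 1) := by
  obtain ⟨P, hP⟩ := exists_companion A hA
  have hPP : (P : Matrix (Fin 2) (Fin 2) F) * (P⁻¹ : GL (Fin 2) F) = 1 := by
    rw [← Units.val_mul, mul_inv_cancel, Units.val_one]
  have hPP' : ((P⁻¹ : GL (Fin 2) F) : Matrix (Fin 2) (Fin 2) F) * P = 1 := by
    rw [← Units.val_mul, inv_mul_cancel, Units.val_one]
  set Y : GL (Fin 2) F := P * Matrix.GeneralLinearGroup.mkOfDetNeZero Y₀ h0 * P⁻¹ with hY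
  have hYv : (Y : Matrix (Fin 2) (Fin 2) F) = P * Y₀ * (P⁻¹ : GL (Fin 2) F) := rfl
  refine ⟨Y, P, hYv, ?_, ?_, ?_, ?_⟩
  · rw [hYv, Matrix.mul_assoc, Matrix.trace_mul_comm, Matrix.mul_assoc, hPP', Matrix.mul_one]
  · rw [hYv, Matrix.det_mul, Matrix.det_mul, mul_comm, ← mul_assoc, ← Matrix.det_mul, hPP', Matrix.det_one, one_mul]
  · rw [hYv, ← Matrix.mul_assoc, ← Matrix.mul_assoc, hP, Matrix.mul_assoc, Matrix.mul_assoc, Matrix.trace_mul_comm,
      Matrix.mul_assoc, Matrix.mul_assoc, hPP', Matrix.mul_one, ht, hd]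
  · intro c hc
    rw [hYv]
    calc (P : Matrix (Fin 2) (Fin 2) F) * Y₀ * (P⁻¹ : GL (Fin 2) F) * (P * Y₀ * (P⁻¹ : GL (Fin 2) F))
        = P * Y₀ * (((P⁻¹ : GL (Fin 2) F) : Matrix (Fin 2) (Fin 2) F) * P) * Y₀ * (P⁻¹ : GL (Fin 2) F) := by
          simp only [Matrix.mul_assoc]
      _ = P * (Y₀ * Y₀) * (P⁻¹ : GL (Fin 2) F) := by rw [hPP', Matrix.mul_one]; simp only [Matrix.mul_assoc]
      _ = c • 1 := by rw [hc, Matrix.mul_smul, Matrix.mul_one, Matrix.smul_mul, hPP]

open Polynomial in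
theorem exists_s [Finite F] (hF : 4 ≤ Nat.card F) (e : F) : ∃ s : F, s ≠ 0 ∧ s ^ 2 ≠ e := by
  have := Fintype.ofFinite F
  set P : F[X] := X * (X ^ 2 - C e) with hP
  have hdeg : P.natDegree = 3 := by rw [hP]; compute_degree!
  have h0 : P ≠ 0 := by
    intro h
    rw [h, natDegree_zero] at hdeg
    omega
  obtain ⟨s, hs⟩ := Polynomial.exists_eval_ne_zero_of_natDegree_lt_card P h0 (by
    rw [hdeg, Cardinal.mk_fintype]
    rw [Nat.card_eq_fintype_card] at hF
    exact_mod_cast (by omega : 3 < Fintype.card F))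
  rw [hP] at hs
  simp only [eval_mul, eval_X, eval_sub, eval_pow, eval_C] at hs
  refine ⟨s, fun h => hs (by rw [h, zero_mul]), fun h => hs (by rw [h, sub_self, mul_zero])⟩

open Polynomial in
theorem exists_a [Finite F] (hF : 7 ≤ Nat.card F) (t d e : F) :
    ∃ a : F, -(1 + a ^ 2 + t * a + d) ≠ 0 ∧ (-(1 + a ^ 2 + t * a + d)) ^ 2 ≠ e := by
  have := Fintype.ofFinite F
  set P : F[X] := (-(1 + X ^ 2 + C t * X + C d)) * ((-(1 + X ^ 2 + C t * X + C d)) ^ 2 - C e) with hP
  have hdeg1 : (-(1 + X ^ 2 + C t * X + C d) : F[X]).natDegree = 2 := by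
    rw [natDegree_neg]
    compute_degree!
  have h00 : (-(1 + X ^ 2 + C t * X + C d) : F[X]) ≠ 0 := by
    intro h
    rw [h, natDegree_zero] at hdeg1
    omega
  have hdeg2 : ((-(1 + X ^ 2 + C t * X + C d) : F[X]) ^ 2 - C e).natDegree = 4 := by
    rw [natDegree_sub_C, natDegree_pow, hdeg1]
  have h01 : ((-(1 + X ^ 2 + C t * X + C d) : F[X]) ^ 2 - C e) ≠ 0 := by
    intro h
    rw [h, natDegree_zero] at hdeg2
    omega
  have hdeg : P.natDegree = 6 := by rw [hP, natDegree_mul h00 h01, hdeg1, hdeg2]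
  have h0 : P ≠ 0 := mul_ne_zero h00 h01
  obtain ⟨s, hs⟩ := Polynomial.exists_eval_ne_zero_of_natDegree_lt_card P h0 (by
    rw [hdeg, Cardinal.mk_fintype]
    rw [Nat.card_eq_fintype_card] at hF
    exact_mod_cast (by omega : 6 < Fintype.card F))
  rw [hP] at hs
  simp only [eval_mul, eval_X, eval_sub, eval_pow, eval_C, eval_neg, eval_add, eval_one] at hs
  refine ⟨s, fun h => hs (by rw [h, zero_mul]), fun h => hs (by rw [h, sub_self, mul_zero])⟩

/-- `q ≥ 4` -/
theorem four_le [Finite F] {A : GL (Fin 2) F} {p : ℕ} (hp : p.Prime) (h5 : 5 ≤ p)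
    (hA : A ^ p ∈ scZ F) (hA' : A ∉ scZ F) : 4 ≤ Nat.card F := by
  classical
  have := Fintype.ofFinite F
  by_contra hcon
  rw [Nat.card_eq_fintype_card] at hcon
  have h1 : 1 < Fintype.card F := Fintype.one_lt_card
  have hcard := Matrix.card_GL_field (𝔽 := F) 2
  rw [Fin.prod_univ_two] at hcard
  have h48 : orderOf A ∣ 48 := by
    have h2 : orderOf A ∣ Nat.card (GL (Fin 2) F) := _root_.orderOf_dvd_natCard A
    rw [hcard] at h2
    have h3 : Fintype.card F = 2 ∨ Fintype.card F = 3 := by omega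
    rcases h3 with h3 | h3
    · rw [h3] at h2
      exact h2.trans (by norm_num)
    · rw [h3] at h2
      exact h2.trans (by norm_num)
  have hcop : Nat.Coprime p (orderOf A) := by
    rw [Nat.Prime.coprime_iff_not_dvd hp]
    intro h2
    have h3 : p ∣ 2 ^ 4 * 3 := h2.trans h48
    rcases hp.dvd_mul.1 h3 with h4 | h4
    · have := Nat.le_of_dvd (by norm_num) (hp.dvd_of_dvd_pow h4)
      omega
    · have := Nat.le_of_dvd (by norm_num) h4
      omega
  obtain ⟨k, hk⟩ := exists_pow_eq_self_of_coprime hcop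
  apply hA'
  rw [← hk]
  exact pow_mem hA k

/-- the diagonal case -/
theorem base_diag' [Finite F] {A : GL (Fin 2) F} {p : ℕ} (hp : p.Prime) (h5 : 5 ≤ p)
    (hA : A ^ p ∈ scZ F) (hA' : A ∉ scZ F) : ∃ Y : GL (Fin 2) F, (Y : Matrix (Fin 2) (Fin 2) F) * Y = 1 ∧
      (Y : Matrix (Fin 2) (Fin 2) F).det = -1 ∧ (Y : Matrix (Fin 2) (Fin 2) F).trace = 0 ∧
      ((A : Matrix (Fin 2) (Fin 2) F) * Y).trace ≠ 0 ∧
      ((A : Matrix (Fin 2) (Fin 2) F) * Y - Y * A).det ≠ 0 := by
  set t := (A : Matrix (Fin 2) (Fin 2) F).trace with ht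
  set d := (A : Matrix (Fin 2) (Fin 2) F).det with hd
  obtain ⟨s, hs, hs2⟩ := exists_s (four_le hp h5 hA hA') (t ^ 2 - 4 * d)
  obtain ⟨Y, P, -, h1, h2, h3, h4⟩ := exists_of_comp hA' (Y₀ := !![1, s + t; 0, -1]) ht hd (by
    rw [Matrix.det_fin_two_of]
    simp)
  have h1' : (Y : Matrix (Fin 2) (Fin 2) F).trace = 0 := by rw [h1, Matrix.trace_fin_two]; simp
  have h2' : (Y : Matrix (Fin 2) (Fin 2) F).det = -1 := by rw [h2, Matrix.det_fin_two_of]; simp
  have h3' : ((A : Matrix (Fin 2) (Fin 2) F) * Y).trace = s := by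
    rw [h3, Matrix.trace_fin_two]
    simp [Matrix.mul_apply, Fin.sum_univ_two]
  refine ⟨Y, ?_, h2', h1', by rwa [h3'], ?_⟩
  · rw [h4 1, one_smul]
    ext i j
    (revert i j; simp only [Matrix.mul_apply, Fin.sum_univ_two, _root_.Fin.forall_fin_succ, _root_.Matrix.of_apply, _root_.Matrix.cons_val', _root_.Matrix.cons_val_fin_one, Fin.isValue, _root_.Matrix.cons_val_zero, _root_.Matrix.cons_val_one, _root_.Matrix.smul_apply, _root_.smul_eq_mul, _root_.one_mul, _root_.mul_one, _root_.MulZeroClass.mul_zero, _root_.add_zero, _root_.Matrix.cons_val_succ, _root_.mul_neg, _root_.IsEmpty.forall_iff, _root_.and_true, _root_.Matrix.one_apply_eq, _root_.neg_add_rev, _root_.add_add_neg_add_cancel, _root_.add_neg_cancel, Nat.reduceAdd, _root_.Fin.succ_zero_eq_one, _root_.ne_eq, _root_.zero_ne_one, _root_.not_false_eq_true, _root_.Matrix.one_apply_ne, _root_.and_self, _root_.Fin.succ_ne_zero, _root_.MulZeroClass.zero_mul, _root_.neg_neg, _root_.zero_add, _root_.true_and])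
  · rw [det_comm h1', h2', h3', ← ht, ← hd]
    intro h
    apply hs2
    linear_combination -h

/-- **q arbitrary, `Y ~ diag(1, -1)`** -/
theorem base_diag [Finite F] {A : GL (Fin 2) F} {p : ℕ} (hp : p.Prime) (h5 : 5 ≤ p)
    (hA : A ^ p ∈ scZ F) (hA' : A ∉ scZ F) : ∃ Y : GL (Fin 2) F, Y * Y = 1 ∧
      (Y : Matrix (Fin 2) (Fin 2) F).det = -1 ∧ (Y : Matrix (Fin 2) (Fin 2) F).trace = 0 ∧
      ¬ Group.IsSolvable ↥(_root_.Subgroup.closure ({A, Y} : Set (GL (Fin 2) F))) := by
  obtain ⟨Y, h1, h2, h3, h4, h6⟩ := base_diag' hp h5 hA hA'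
  refine ⟨Y, Units.ext ?_, h2, h3, not_solvable hp h5 hA hA' h3 h4 h6⟩
  rw [Units.val_mul, h1, Units.val_one]

/-- **q odd, `Y ^ 2 = -1`, `det Y = 1`** -/
theorem base_quat [Finite F] (h2 : (2 : F) ≠ 0) {A : GL (Fin 2) F} {p : ℕ} (hp : p.Prime) (h5 : 5 ≤ p)
    (hA : A ^ p ∈ scZ F) (hA' : A ∉ scZ F) : ∃ Y : GL (Fin 2) F, Y * Y = -1 ∧
      (Y : Matrix (Fin 2) (Fin 2) F).det = 1 ∧ (Y : Matrix (Fin 2) (Fin 2) F).trace = 0 ∧
      ¬ Group.IsSolvable ↥(_root_.Subgroup.closure ({A, Y} : Set (GL (Fin 2) F))) := by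
  by_cases hi : ∃ i : F, i * i = -1
  · obtain ⟨i, hi⟩ := hi
    obtain ⟨Y, h1, h3, h4, h6, h7⟩ := base_diag' hp h5 hA hA'
    have hi0 : i ≠ 0 := by
      rintro rfl
      rw [mul_zero] at hi
      exact one_ne_zero (neg_eq_zero.1 hi.symm)
    have hdet : (i • (Y : Matrix (Fin 2) (Fin 2) F)).det = 1 := by
      rw [Matrix.det_smul, h3, Fintype.card_fin]
      linear_combination -hi
    set Y' : GL (Fin 2) F := Matrix.GeneralLinearGroup.mkOfDetNeZero (i • (Y : Matrix (Fin 2) (Fin 2) F))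
      (by rw [hdet]; exact one_ne_zero) with hY'
    have hv : (Y' : Matrix (Fin 2) (Fin 2) F) = i • (Y : Matrix (Fin 2) (Fin 2) F) := rfl
    refine ⟨Y', Units.ext ?_, ?_, ?_, not_solvable hp h5 hA hA' ?_ ?_ ?_⟩
    · rw [Units.val_mul, hv, Matrix.smul_mul, Matrix.mul_smul, smul_smul, hi, h1, neg_smul, one_smul]
      rfl
    · rw [hv, hdet]
    · rw [hv, Matrix.trace_smul, h4, smul_zero]
    · rw [hv, Matrix.trace_smul, h4, smul_zero]
    · rw [hv, Matrix.mul_smul, Matrix.trace_smul, smul_eq_mul]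
      exact mul_ne_zero hi0 h6
    · rw [hv, Matrix.mul_smul, Matrix.smul_mul, ← smul_sub, Matrix.det_smul]
      exact mul_ne_zero (pow_ne_zero _ hi0) h7
  · have := Fintype.ofFinite F
    have h4 := four_le hp h5 hA hA'
    rw [Nat.card_eq_fintype_card] at h4
    have hodd : Odd (Fintype.card F) := by
      rw [← Nat.not_even_iff_odd]
      intro h
      have h3 := FiniteField.even_card_iff_char_two.2 (Nat.even_iff.1 h)
      have h4 := CharP.cast_eq_zero F (ringChar F)
      rw [h3] at h4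
      exact h2 (by exact_mod_cast h4)
    have h7 : 7 ≤ Fintype.card F := by
      by_contra hcon
      have h6 : Fintype.card F = 5 := by
        obtain ⟨k, hk⟩ := hodd
        omega
      apply hi
      have h8 : IsSquare (-1 : F) := by
        rw [FiniteField.isSquare_neg_one_iff, h6]
        norm_num
      obtain ⟨i, hi⟩ := h8
      exact ⟨i, hi.symm⟩
    set t := (A : Matrix (Fin 2) (Fin 2) F).trace with ht
    set d := (A : Matrix (Fin 2) (Fin 2) F).det with hd
    obtain ⟨a, ha, ha2⟩ := exists_a (F := F) (by rw [Nat.card_eq_fintype_card]; exact h7) t d (4 * d - t ^ 2)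
    set s := -(1 + a ^ 2 + t * a + d) with hs
    obtain ⟨Y, P, -, h1, h2, h3, h4⟩ := exists_of_comp hA' (Y₀ := !![a, s + d + t * a; 1, -a]) ht hd (by
      rw [Matrix.det_fin_two_of, hs]
      have h9 : a * -a - (-(1 + a ^ 2 + t * a + d) + d + t * a) * 1 = 1 := by ring
      rw [h9]
      exact one_ne_zero)
    have h1' : (Y : Matrix (Fin 2) (Fin 2) F).trace = 0 := by rw [h1, Matrix.trace_fin_two]; simp
    have h2' : (Y : Matrix (Fin 2) (Fin 2) F).det = 1 := by
      rw [h2, Matrix.det_fin_two_of, hs]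
      ring
    have h3' : ((A : Matrix (Fin 2) (Fin 2) F) * Y).trace = s := by
      rw [h3, Matrix.trace_fin_two]
      simp [Matrix.mul_apply, Fin.sum_univ_two]
    refine ⟨Y, Units.ext ?_, h2', h1', not_solvable hp h5 hA hA' h1' (by rwa [h3']) ?_⟩
    · have h9 : !![a, s + d + t * a; 1, -a] * !![a, s + d + t * a; 1, -a] =
          (-1 : F) • (1 : Matrix (Fin 2) (Fin 2) F) := by
        ext i j
        (revert i j; simp only [hs, _root_.Fin.forall_fin_succ, _root_.neg_add_rev, _root_.neg_add_cancel_comm, _root_.Matrix.cons_mul, _root_.Nat.succ_eq_add_one, Nat.reduceAdd, _root_.Matrix.vecMul_cons, _root_.Matrix.head_cons, _root_.Matrix.smul_cons, _root_.smul_eq_mul, _root_.Matrix.smul_empty, _root_.Matrix.tail_cons, _root_.mul_one, _root_.mul_neg, _root_.Matrix.empty_vecMul, _root_.add_zero, _root_.Matrix.add_cons, _root_.Matrix.empty_add_empty, _root_.one_smul, _root_.neg_smul, _root_.Matrix.neg_cons, _root_.neg_neg, _root_.Matrix.neg_empty, _root_.add_neg_cancel,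 _root_.Matrix.empty_mul, _root_.Equiv.symm_apply_apply, _root_.Matrix.of_apply, _root_.Matrix.cons_val', _root_.Matrix.cons_val_fin_one, _root_.Matrix.smul_apply, _root_.neg_mul, _root_.one_mul, Fin.isValue, _root_.Matrix.cons_val_zero, _root_.Matrix.cons_val_succ, _root_.IsEmpty.forall_iff, _root_.and_true, _root_.Matrix.one_apply_eq, _root_.Fin.succ_zero_eq_one, _root_.ne_eq, _root_.zero_ne_one, _root_.not_false_eq_true, _root_.Matrix.one_apply_ne, _root_.neg_zero, _root_.Fin.succ_ne_zero, _root_.true_and]) <;> (repeat' with_reducible apply And.intro) <;> ring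
      rw [Units.val_mul, h4 (-1) h9, neg_smul, one_smul]
      simp
    · rw [det_comm h1', h2', h3', ← ht, ← hd]
      intro h
      apply ha2
      linear_combination -h

/-! ### Two-dimensional spaces -/

section lin

variable {W : Type*} [AddCommGroup W] [Module F W]

/-- the matrix group of a basis -/
noncomputable def glEquiv (b : Module.Basis (Fin 2) F W) : (W ≃ₗ[F] W) ≃* GL (Fin 2) F :=
  (LinearMap.GeneralLinearGroup.generalLinearEquiv F W).symm.trans
    (Units.mapEquiv (LinearMap.toMatrixAlgEquiv b).toMulEquiv)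

theorem glEquiv_val (b : Module.Basis (Fin 2) F W) (A : W ≃ₗ[F] W) :
    ((glEquiv b A : GL (Fin 2) F) : Matrix (Fin 2) (Fin 2) F) = LinearMap.toMatrixAlgEquiv b (A : W →ₗ[F] W) := rfl

theorem glEquiv_mem (b : Module.Basis (Fin 2) F W) (A : W ≃ₗ[F] W) :
    glEquiv b A ∈ scZ F ↔ ∃ c : F, ∀ w, A w = c • w := by
  rw [mem_scZ]
  constructor
  · rintro ⟨c, hc⟩
    refine ⟨c, fun w => ?_⟩
    rw [glEquiv_val] at hc
    have h1 : (A : W →ₗ[F] W) = c • (1 : W →ₗ[F] W) := by
      apply (LinearMap.toMatrixAlgEquiv b).injective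
      rw [hc, map_smul, map_one]
    exact LinearMap.congr_fun h1 w
  · rintro ⟨c, hc⟩
    refine ⟨c, ?_⟩
    rw [glEquiv_val, ← map_one (LinearMap.toMatrixAlgEquiv b), ← map_smul]
    congr 1
    ext w
    exact hc w

theorem lin_of_mat {A : W ≃ₗ[F] W} (h2 : Module.finrank F W = 2) {p : ℕ}
    (hA : ∃ c : F, ∀ w, (A ^ p) w = c • w) (hA' : ¬ ∃ c : F, ∀ w, A w = c • w) {e δ : F}
    (H : ∀ B : GL (Fin 2) F, B ^ p ∈ scZ F → B ∉ scZ F → ∃ Y : GL (Fin 2) F,
      (Y : Matrix (Fin 2) (Fin 2) F) * Y = e • 1 ∧ (Y : Matrix (Fin 2) (Fin 2) F).det = δ ∧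
      (Y : Matrix (Fin 2) (Fin 2) F).trace = 0 ∧ ¬ Group.IsSolvable ↥(_root_.Subgroup.closure ({B, Y} : Set (GL (Fin 2) F)))) :
    ∃ Y : W ≃ₗ[F] W, (∀ w, Y (Y w) = e • w) ∧ LinearMap.det (Y : W →ₗ[F] W) = δ ∧
      LinearMap.trace F W (Y : W →ₗ[F] W) = 0 ∧ ¬ Group.IsSolvable ↥(_root_.Subgroup.closure ({A, Y} : Set (W ≃ₗ[F] W))) := by
  have hfd : FiniteDimensional F W := Module.finite_of_finrank_pos (by omega)
  set b := Module.finBasisOfFinrankEq F W h2 with hb
  obtain ⟨Y, h3, h4, h5, h6⟩ := H (glEquiv b A) (by rw [← map_pow, glEquiv_mem]; exact hA)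
    (by rw [glEquiv_mem]; exact hA')
  refine ⟨(glEquiv b).symm Y, ?_, ?_, ?_, ?_⟩
  · intro w
    have h7 : ((glEquiv b).symm Y : W →ₗ[F] W) * ((glEquiv b).symm Y : W →ₗ[F] W) = e • (1 : W →ₗ[F] W) := by
      apply (LinearMap.toMatrixAlgEquiv b).injective
      rw [map_mul, map_smul, map_one, ← glEquiv_val, MulEquiv.apply_symm_apply]
      exact h3
    exact LinearMap.congr_fun h7 w
  · rw [← h4, ← LinearMap.det_toMatrix b, ← (glEquiv b).apply_symm_apply Y, glEquiv_val, MulEquiv.apply_symm_apply]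
    rfl
  · rw [← h5, LinearMap.trace_eq_matrix_trace F b, ← (glEquiv b).apply_symm_apply Y, glEquiv_val,
      MulEquiv.apply_symm_apply]
    rfl
  · refine not_solvable_map (glEquiv b).toMonoidHom ?_
    have h7 : (glEquiv b).toMonoidHom ((glEquiv b).symm Y) = Y := (glEquiv b).apply_symm_apply Y
    rw [h7]
    exact h6

/-- **`Y ~ diag(1, -1)`**, `F` a finite field, `dim W = 2` -/
theorem lin_diag [Finite F] (h2 : Module.finrank F W = 2) {A : W ≃ₗ[F] W} {p : ℕ} (hp : p.Prime) (h5 : 5 ≤ p)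
    (hA : ∃ c : F, ∀ w, (A ^ p) w = c • w) (hA' : ¬ ∃ c : F, ∀ w, A w = c • w) :
    ∃ Y : W ≃ₗ[F] W, (∀ w, Y (Y w) = w) ∧ LinearMap.det (Y : W →ₗ[F] W) = -1 ∧
      LinearMap.trace F W (Y : W →ₗ[F] W) = 0 ∧ ¬ Group.IsSolvable ↥(_root_.Subgroup.closure ({A, Y} : Set (W ≃ₗ[F] W))) := by
  obtain ⟨Y, h3, h4⟩ := lin_of_mat (e := 1) (δ := -1) h2 hA hA' (fun B h1 h3 => by
    obtain ⟨Y, h4, h6, h7, h8⟩ := base_diag hp h5 h1 h3
    exact ⟨Y, by rw [← Units.val_mul, h4, one_smul, Units.val_one], h6, h7, h8⟩)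
  exact ⟨Y, fun w => by rw [h3, one_smul], h4⟩

/-- **`Y ^ 2 = -1`**, `q` odd -/
theorem lin_quat [Finite F] (h20 : (2 : F) ≠ 0) (h2 : Module.finrank F W = 2) {A : W ≃ₗ[F] W} {p : ℕ}
    (hp : p.Prime) (h5 : 5 ≤ p)
    (hA : ∃ c : F, ∀ w, (A ^ p) w = c • w) (hA' : ¬ ∃ c : F, ∀ w, A w = c • w) :
    ∃ Y : W ≃ₗ[F] W, (∀ w, Y (Y w) = -w) ∧ LinearMap.det (Y : W →ₗ[F] W) = 1 ∧
      LinearMap.trace F W (Y : W →ₗ[F] W) = 0 ∧ ¬ Group.IsSolvable ↥(_root_.Subgroup.closure ({A, Y} : Set (W ≃ₗ[F] W))) := by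
  obtain ⟨Y, h3, h4⟩ := lin_of_mat (e := -1) (δ := 1) h2 hA hA' (fun B h1 h3 => by
    obtain ⟨Y, h4, h6, h7, h8⟩ := base_quat h20 hp h5 h1 h3
    exact ⟨Y, by rw [← Units.val_mul, h4, neg_smul, one_smul, Units.val_neg, Units.val_one], h6, h7, h8⟩)
  exact ⟨Y, fun w => by rw [h3, neg_smul, one_smul], h4⟩

end lin

end

end Cfsg.Agent.H194.Inv
end
end

-- part: H775/Inv/Tools
section
set_option linter.all false
open scoped Cfsg.Agent.FastGrp

/-!
# S3830, tools for the rows of sporadic groups (helper775, for helper459)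

* `ns_of_sub`, `ns_conj`, `ns_pow` : inner automorphisms;
* `exists_conj_mem` : a subgroup of index prime to `p`;  `exists_pow_conj` : `p ^ 2 ∤ |K|`;
* `ns_of_mem` : an element of a proper simple subgroup;  `ns_of_act` : an automorphism of order `p` acting on a proper
  simple subgroup;  `irow_of_inner`, `ih_down`.
-/

set_option autoImplicit false
set_option linter.unusedSectionVars false

namespace Cfsg.Agent.H775.Inv

open Subgroup Cfsg Cfsg.Agent.H459.Inv Cfsg.Agent.H459.Rad Cfsg.Agent.SignalizersComponents.ComponentExists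
open scoped Pointwise

universe u

section

variable {K : Type*} [Group K]

/-- a subgroup containing `g` -/
theorem ns_of_sub {M : Subgroup K} {g : K} (hg : g ∈ M) (h : NS (MulAut.conj (⟨g, hg⟩ : M))) :
    NS (MulAut.conj g) := by
  obtain ⟨y, hy, hn⟩ := ns_inner_iff.1 h
  refine ns_of_inner (y := (y : K)) (by rw [Subgroup.orderOf_coe]; exact hy) fun hs => hn ?_
  have h1 : (closure ({⟨g, hg⟩, y} : Set M)).map M.subtype = closure ({g, (y : K)} : Set K) := by
    rw [MonoidHom.map_closure, Set.image_pair]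
    rfl
  rw [← h1] at hs
  have h3 : Function.Injective (M.subtype.subgroupMap (closure ({⟨g, hg⟩, y} : Set M))) := by
    intro a b hab
    have h4 := congrArg Subtype.val hab
    exact Subtype.ext (M.subtype_injective h4)
  exact Group.isSolvable_of_isSolvable_injective h3

theorem ns_conj {g : K} (c : K) (h : NS (MulAut.conj (c * g * c⁻¹))) : NS (MulAut.conj g) := by
  refine ns_of_conj (g := MulAut.conj c) ?_
  rwa [← map_mul, ← map_inv, ← map_mul]

theorem ns_pow {g : K} (k : ℕ) (h : NS (MulAut.conj (g ^ k))) : NS (MulAut.conj g) := by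
  refine ns_of_pow (k := k) ?_
  rwa [← map_pow]

theorem orderOf_conj (g c : K) : orderOf (c * g * c⁻¹) = orderOf g := by
  rw [← MulAut.conj_apply, MulEquiv.orderOf_eq]

end

section

variable {K : Type*} [Group K] [Finite K]

/-- a subgroup of index prime to `p` contains a conjugate -/
theorem exists_conj_mem {p : ℕ} (hp : p.Prime) {x : K} (ho : orderOf x = p) {M : Subgroup K} (hi : ¬ p ∣ M.index) :
    ∃ c : K, c * x * c⁻¹ ∈ M := by
  have : Fact p.Prime := ⟨hp⟩
  obtain ⟨S⟩ : Nonempty (Sylow p M) := inferInstance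
  have hS : IsPGroup p ↥((S : Subgroup M).map M.subtype) := S.isPGroup'.map _
  have hc : ¬ p ∣ ((S : Subgroup M).map M.subtype).index := by
    rw [← relIndex_mul_index (map_subtype_le (S : Subgroup M)), hp.dvd_mul, not_or]
    refine ⟨?_, hi⟩
    have h1 : ((S : Subgroup M).map M.subtype).relIndex M = (S : Subgroup M).index := by
      rw [relIndex, subgroupOf, comap_map_eq_self_of_injective M.subtype_injective]
    rw [h1]
    exact S.not_dvd_index
  let P : Sylow p K := hS.toSylow hc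
  have hx : IsPGroup p ↥(zpowers x) := IsPGroup.of_card (n := 1) (by rw [Nat.card_zpowers, ho, pow_one])
  obtain ⟨P', hP'⟩ := hx.exists_le_sylow
  obtain ⟨g, hg⟩ := MulAction.exists_smul_eq K P' P
  refine ⟨g, ?_⟩
  have h1 : g * x * g⁻¹ ∈ (P : Subgroup K) := by
    rw [← hg, Sylow.coe_subgroup_smul]
    exact smul_mem_pointwise_smul x (MulAut.conj g) _ (hP' (mem_zpowers x))
  exact map_subtype_le (S : Subgroup M) h1

/-- Sylow groups of order `p` -/
theorem exists_pow_conj {p : ℕ} (hp : p.Prime) (h2 : ¬ p ^ 2 ∣ Nat.card K) {g g₀ : K} (hg : orderOf g = p)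
    (h0 : orderOf g₀ = p) : ∃ (c : K) (k : ℕ), (c * g * c⁻¹) ^ k = g₀ := by
  obtain ⟨c, hc⟩ := exists_conj_mem hp hg (M := zpowers g₀) (by
    intro h1
    apply h2
    have h3 := (zpowers g₀).card_mul_index
    rw [Nat.card_zpowers, h0] at h3
    rw [← h3, pow_two]
    exact Nat.mul_dvd_mul_left p h1)
  have h3 : zpowers (c * g * c⁻¹) = zpowers g₀ := by
    apply Subgroup.eq_of_le_of_card_ge
    · rw [zpowers_le]; exact hc
    · rw [Nat.card_zpowers, Nat.card_zpowers, orderOf_conj, hg, h0]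
  have h4 : g₀ ∈ zpowers (c * g * c⁻¹) := by rw [h3]; exact mem_zpowers _
  rw [← mem_powers_iff_mem_zpowers] at h4
  obtain ⟨k, hk⟩ := h4
  exact ⟨c, k, hk⟩

/-- Sylow groups of order `p`: one element is enough. -/
theorem ns_of_cyc {p : ℕ} (hp : p.Prime) (h2 : ¬ p ^ 2 ∣ Nat.card K) {g₀ : K} (h0 : orderOf g₀ = p)
    (h : NS (MulAut.conj g₀)) {g : K} (hg : orderOf g = p) : NS (MulAut.conj g) := by
  obtain ⟨c, k, hk⟩ := exists_pow_conj hp h2 hg h0
  exact ns_conj c (ns_pow k (hk ▸ h))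

/-- all automorphisms are inner -/
theorem irow_of_inner {p : ℕ} (hinn : ∀ x : MulAut K, orderOf x = p → ∃ g : K, x = MulAut.conj g)
    (hc : center K = ⊥) (h : ∀ g : K, orderOf g = p → NS (MulAut.conj g)) : IRow p K := by
  intro x hx
  obtain ⟨g, rfl⟩ := hinn x hx
  apply h
  rw [← hx]
  have h1 : Function.Injective (MulAut.conj : K →* MulAut K) := by
    rw [injective_iff_map_eq_one]
    intro a ha
    rw [← mem_bot, ← hc, mem_center_iff]
    intro b
    have h2 : MulAut.conj a b = b := by rw [ha]; rfl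
    rw [MulAut.conj_apply, mul_inv_eq_iff_eq_mul] at h2
    exact h2.symm
  exact (orderOf_injective _ h1 g).symm

/-- the outer automorphism group has order at most 2, `p` odd -/
theorem inner_of_index {p : ℕ} (hp : p.Prime) (hp2 : p ≠ 2)
    (h : (MulAut.conj : K →* MulAut K).range.index = 1 ∨ (MulAut.conj : K →* MulAut K).range.index = 2) (x : MulAut K)
    (hx : orderOf x = p) : ∃ g : K, x = MulAut.conj g := by
  have hn : (MulAut.conj : K →* MulAut K).range.Normal := by
    constructor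
    rintro _ ⟨g, rfl⟩ α
    refine ⟨α g, ?_⟩
    ext k
    simp
  have h1 : x ^ 2 ∈ (MulAut.conj : K →* MulAut K).range := by
    rcases h with h | h
    · rw [index_eq_one] at h
      rw [h]; exact mem_top _
    · have h3 := Subgroup.pow_index_mem (MulAut.conj : K →* MulAut K).range x
      rwa [h] at h3
  have h4 : x ^ p = 1 := by rw [← hx, pow_orderOf_eq_one]
  obtain ⟨j, hj⟩ := hp.odd_of_ne_two hp2
  have h5 : x ∈ (MulAut.conj : K →* MulAut K).range := by
    have h6 : x = (x ^ 2) ^ (j + 1) := by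
      rw [← pow_mul, show 2 * (j + 1) = p + 1 by omega, pow_succ, h4, one_mul]
    rw [h6]
    exact pow_mem h1 _
  obtain ⟨g, hg⟩ := h5
  exact ⟨g, hg.symm⟩

end

theorem center_eq_bot {M : Type*} [Group M] [hs : IsSimpleGroup M] (hc : ¬ IsMulCommutative M) :
    center M = ⊥ := by
  rcases hs.eq_bot_or_eq_top_of_normal (center M) inferInstance with h | h
  · exact h
  · exfalso
    apply hc
    refine ⟨⟨fun a b => ?_⟩⟩
    exact ((mem_center_iff.1 (h ▸ mem_top b : b ∈ center M)) a)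

/-- universes -/
theorem ih_down {p n : ℕ} (h : IH.{u} p n) : IH.{0} p n := by
  intro L _ _ hs hc hn
  have e : ULift.{u} L ≃* L := MulEquiv.ulift
  have hs' : IsSimpleGroup (ULift.{u} L) := e.isSimpleGroup
  refine IRow.congr e.symm (h (ULift.{u} L) (fun hc' => hc ?_) (by rw [Nat.card_congr e.toEquiv]; exact hn))
  refine ⟨⟨fun a b => ?_⟩⟩
  have h1 := hc'.is_comm.comm (e.symm a) (e.symm b)
  apply e.symm.injective
  rw [map_mul, map_mul, h1]

section

variable {K : Type u} [Group K] [Finite K] {p : ℕ}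

theorem irow_sub (hI : IH.{u} p (Nat.card K)) {M : Subgroup K} (hs : IsSimpleGroup M) (hM : M ≠ ⊤)
    (hc : ¬ IsMulCommutative M) : IRow p M := by
  refine hI M hc ?_
  rcases (card_le_card_group M).lt_or_eq with h | h
  · exact h
  · exact absurd (Subgroup.eq_top_of_card_eq M h) hM

/-- **An element of a proper simple subgroup.** -/
theorem ns_of_mem (hI : IH.{u} p (Nat.card K)) {M : Subgroup K} (hs : IsSimpleGroup M) (hM : M ≠ ⊤)
    (hc : ¬ IsMulCommutative M) {g : K} (hg : orderOf g = p) (hgM : g ∈ M) : NS (MulAut.conj g) := by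
  refine ns_of_sub hgM (irow_sub hI hs hM hc _ ?_)
  have h1 : Function.Injective (MulAut.conj : M →* MulAut M) := by
    rw [injective_iff_map_eq_one]
    intro a ha
    rw [← mem_bot, ← center_eq_bot hc, mem_center_iff]
    intro b
    have h2 : MulAut.conj a b = b := by rw [ha]; rfl
    rw [MulAut.conj_apply, mul_inv_eq_iff_eq_mul] at h2
    exact h2.symm
  rw [orderOf_injective _ h1, Subgroup.orderOf_mk, hg]

/-- **A proper simple subgroup of index prime to `p`.** -/
theorem ns_of_sylow (hp : p.Prime) (hI : IH.{u} p (Nat.card K)) {M : Subgroup K} (hs : IsSimpleGroup M) (hM : M ≠ ⊤)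
    (hc : ¬ IsMulCommutative M) (hi : ¬ p ∣ M.index) {g : K} (hg : orderOf g = p) : NS (MulAut.conj g) := by
  obtain ⟨c, h⟩ := exists_conj_mem hp hg hi
  exact ns_conj c (ns_of_mem hI hs hM hc (by rw [orderOf_conj, hg]) h)

/-- **An automorphism acting on a proper simple subgroup.** -/
theorem ns_of_act (hp : p.Prime) (hI : IH.{u} p (Nat.card K)) {M : Subgroup K} (hs : IsSimpleGroup M) (hM : M ≠ ⊤)
    (hc : ¬ IsMulCommutative M) {x : MulAut K} (hx : orderOf x = p) (hxM : ∀ m ∈ M, x m ∈ M)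
    (hne : ∃ m ∈ M, x m ≠ m) : NS x := by
  have hmap : M.map x.toMonoidHom = M := by
    apply Subgroup.eq_of_le_of_card_ge
    · rintro _ ⟨n, hn, rfl⟩
      exact hxM n hn
    · rw [Subgroup.card_map_of_injective (f := x.toMonoidHom) x.injective]
  let x' : MulAut M := (x.subgroupMap M).trans (MulEquiv.subgroupCongr hmap)
  have hx' : ∀ m : M, ((x' m : M) : K) = x m := fun m => rfl
  have hpow : ∀ (n : ℕ) (m : M), (((x' ^ n) m : M) : K) = (x ^ n) m := by
    intro n
    induction n with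
    | zero => intro m; rfl
    | succ n ih =>
      intro m
      rw [pow_succ', pow_succ', MulAut.mul_apply, MulAut.mul_apply, hx', ih]
  have ho : orderOf x' = p := by
    have : Fact p.Prime := ⟨hp⟩
    apply orderOf_eq_prime
    · ext m
      rw [hpow]
      have : x ^ p = 1 := by rw [← hx, pow_orderOf_eq_one]
      rw [this]; rfl
    · intro h1
      obtain ⟨m, hm, hne⟩ := hne
      apply hne
      have h2 := hx' ⟨m, hm⟩
      rw [h1] at h2
      exact h2.symm
  obtain ⟨y, hy, hn⟩ := ns_iff.1 (irow_sub hI hs hM hc x' ho)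
  exact ns_of_hom hxM (MonoidHom.id M) x' (fun m => rfl) hy hn

end

end Cfsg.Agent.H775.Inv
end

-- part: H348/Inv/He
section
set_option linter.all false
open scoped Cfsg.Agent.FastGrp

/-!
# The Held group: elements of order 5, 7, 17 and involutions (S3830, helper348)
-/

set_option autoImplicit false
set_option maxRecDepth 100000

namespace Cfsg.Agent.H348.Inv.He

open Subgroup Cfsg
open Cfsg.Spor.He (Gen)
open Cfsg.Agent.SporadicB.HePerm (act wd phi phi_wd_apply)
open Cfsg.Agent.FixBN.HeStab Cfsg.Agent.KFacts.He.Lv Cfsg.Agent.CpAutHe.Cnt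
open Cfsg.Agent.H587.NR Cfsg.Agent.H587.NR.He

/-- the certificate: `Y` an involution, `X ^ m = 1`, `(X Y) ^ k = 1` -/
def triB (X Y : List Gen) (m k : ℕ) : Bool :=
  and (and (and (chkB (Y ++ Y) []) (chkB (pw X m) [])) (chkB (pw (X ++ Y) k) []))
    (and (and (Nat.beq (Nat.gcd m 2) 1) (Nat.beq (Nat.gcd 2 k) 1)) (and (Nat.beq (Nat.gcd m k) 1) (not (chkB X []))))

theorem not_si_of_triB {X Y : List Gen} {m k : ℕ} (h : triB X Y m k = true) : ¬ SI (wd X) := by
  unfold triB at h
  simp only [Bool.and_eq_true] at h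
  obtain ⟨⟨⟨h1, h2⟩, h3⟩, ⟨h4, h5⟩, h6, h7⟩ := h
  have e1 := eq_of_chkB h1
  have e2 := eq_of_chkB h2
  have e3 := eq_of_chkB h3
  rw [wd_append, wd_nil] at e1
  rw [wd_pw, wd_nil] at e2 e3
  rw [wd_append] at e3
  have e8 : wd X ≠ 1 := by
    rw [← wd_nil]
    refine ne_of_chkB ?_
    simpa using h7
  exact not_si_triangle e1 e8 e2 e3 (Nat.eq_of_beq_eq_true h4) (Nat.eq_of_beq_eq_true h5) (Nat.eq_of_beq_eq_true h6)

theorem seven : InRow 7 Cfsg.Spor.He := by
  intro x hx h
  have h7 : Fact (Nat.Prime 7) := ⟨by norm_num⟩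
  have r1 : wd B7 * wd A7 = wd W7 * (wd A7 * wd B7) := by
    have h1 := eq_of_chkB (show chkB (B7 ++ A7) (W7 ++ (A7 ++ B7)) = true by decide +kernel)
    rwa [wd_append, wd_append, wd_append] at h1
  have r2 : wd A7 * wd W7 = wd W7 * wd A7 := by
    have h1 := eq_of_chkB (show chkB (A7 ++ W7) (W7 ++ A7) = true by decide +kernel)
    rwa [wd_append, wd_append] at h1
  have r3 : wd B7 * wd W7 = wd W7 * wd B7 := by
    have h1 := eq_of_chkB (show chkB (B7 ++ W7) (W7 ++ B7) = true by decide +kernel)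
    rwa [wd_append, wd_append] at h1
  have r4 : wd A7 ^ 7 = 1 := by
    have h1 := eq_of_chkB (show chkB (pw A7 7) [] = true by decide +kernel)
    rwa [wd_pw, wd_nil] at h1
  have r5 : wd B7 ^ 7 = 1 := by
    have h1 := eq_of_chkB (show chkB (pw B7 7) [] = true by decide +kernel)
    rwa [wd_pw, wd_nil] at h1
  have r6 : wd W7 ^ 7 = 1 := by
    have h1 := eq_of_chkB (show chkB (pw W7 7) [] = true by decide +kernel)
    rwa [wd_pw, wd_nil] at h1
  have r7 : wd W7 ≠ 1 := by
    rw [← wd_nil]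
    exact ne_of_chkB (by decide +kernel)
  have key : ∀ (j : ℕ) (X : List Gen), chkB (A7 ++ pw B7 j) X = true → wd A7 * wd B7 ^ j = wd X := by
    intro j X hj
    have h1 := eq_of_chkB hj
    rwa [wd_append, wd_pw] at h1
  rcases exists_extra (p := 7) r1 r2 r3 r4 r5 r6 r7 (by rw [card_he]; norm_num) (S := SI) (fun x k h => h.pow k)
    (fun x u h => h.conj u) hx h with h | h | ⟨j, hj, h⟩
  · exact not_si_of_triB (show triB W7 [.d, .c, .d] 7 3 = true by delta triB chkB; rw [Cfsg.Agent.KFacts.He.Fast.act_fast]; decide +kernel) h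
  · exact not_si_of_triB (show triB B7 [.a] 7 17 = true by delta triB chkB; rw [Cfsg.Agent.KFacts.He.Fast.act_fast]; decide +kernel) h
  · interval_cases j
    · exact not_si_of_triB (show triB X7_0 [.d, .g, .f, .g, .d] 7 17 = true by delta triB chkB; rw [Cfsg.Agent.KFacts.He.Fast.act_fast]; decide +kernel) (key _ _ eq7_0 ▸ h)
    · exact not_si_of_triB (show triB X7_1 [.a] 7 15 = true by delta triB chkB; rw [Cfsg.Agent.KFacts.He.Fast.act_fast]; decide +kernel) (key _ _ eq7_1 ▸ h)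
    · exact not_si_of_triB (show triB X7_2 [.a] 7 17 = true by delta triB chkB; rw [Cfsg.Agent.KFacts.He.Fast.act_fast]; decide +kernel) (key _ _ eq7_2 ▸ h)
    · exact not_si_of_triB (show triB X7_3 [.c] 7 17 = true by delta triB chkB; rw [Cfsg.Agent.KFacts.He.Fast.act_fast]; decide +kernel) (key _ _ eq7_3 ▸ h)
    · exact not_si_of_triB (show triB X7_4 [.d] 7 17 = true by delta triB chkB; rw [Cfsg.Agent.KFacts.He.Fast.act_fast]; decide +kernel) (key _ _ eq7_4 ▸ h)
    · exact not_si_of_triB (show triB X7_5 [.f] 7 17 = true by delta triB chkB; rw [Cfsg.Agent.KFacts.He.Fast.act_fast]; decide +kernel) (key _ _ eq7_5 ▸ h)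
    · exact not_si_of_triB (show triB X7_6 [.f] 7 15 = true by delta triB chkB; rw [Cfsg.Agent.KFacts.He.Fast.act_fast]; decide +kernel) (key _ _ eq7_6 ▸ h)

theorem five : InRow 5 Cfsg.Spor.He := by
  intro x hx h
  have h5 : Fact (Nat.Prime 5) := ⟨by norm_num⟩
  have r1 : wd B5 * wd A5 = wd A5 * wd B5 := by
    have h1 := eq_of_chkB (show chkB (B5 ++ A5) (A5 ++ B5) = true by decide +kernel)
    rwa [wd_append, wd_append] at h1
  have r4 : wd A5 ^ 5 = 1 := by
    have h1 := eq_of_chkB (show chkB (pw A5 5) [] = true by decide +kernel)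
    rwa [wd_pw, wd_nil] at h1
  have r5 : wd B5 ^ 5 = 1 := by
    have h1 := eq_of_chkB (show chkB (pw B5 5) [] = true by decide +kernel)
    rwa [wd_pw, wd_nil] at h1
  have r6 : wd A5 ≠ 1 := by
    rw [← wd_nil]
    exact ne_of_chkB (by decide +kernel)
  have r7 : ∀ j < 5, wd B5 ≠ wd A5 ^ j := by
    intro j hj
    rw [← wd_pw]
    apply ne_of_chkB
    interval_cases j <;> decide +kernel
  have key : ∀ (j : ℕ) (X : List Gen), chkB (A5 ++ pw B5 j) X = true → wd A5 * wd B5 ^ j = wd X := by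
    intro j X hj
    have h1 := eq_of_chkB hj
    rwa [wd_append, wd_pw] at h1
  rcases exists_abel (p := 5) r1 r4 r5 r6 r7 (by rw [card_he]; norm_num) (S := SI) (fun x k h => h.pow k)
    (fun x u h => h.conj u) hx h with h | ⟨j, hj, h⟩
  · exact not_si_of_triB (show triB B5 [.b] 5 17 = true by delta triB chkB; rw [Cfsg.Agent.KFacts.He.Fast.act_fast]; decide +kernel) h
  · interval_cases j
    · exact not_si_of_triB (show triB X5_0 [.b] 5 21 = true by delta triB chkB; rw [Cfsg.Agent.KFacts.He.Fast.act_fast]; decide +kernel) (key _ _ eq5_0 ▸ h)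
    · exact not_si_of_triB (show triB X5_1 [.b] 5 17 = true by delta triB chkB; rw [Cfsg.Agent.KFacts.He.Fast.act_fast]; decide +kernel) (key _ _ eq5_1 ▸ h)
    · exact not_si_of_triB (show triB X5_2 [.g] 5 17 = true by delta triB chkB; rw [Cfsg.Agent.KFacts.He.Fast.act_fast]; decide +kernel) (key _ _ eq5_2 ▸ h)
    · exact not_si_of_triB (show triB X5_3 [.e] 5 3 = true by delta triB chkB; rw [Cfsg.Agent.KFacts.He.Fast.act_fast]; decide +kernel) (key _ _ eq5_3 ▸ h)
    · exact not_si_of_triB (show triB X5_4 [.b] 5 21 = true by delta triB chkB; rw [Cfsg.Agent.KFacts.He.Fast.act_fast]; decide +kernel) (key _ _ eq5_4 ▸ h)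

theorem seventeen : InRow 17 Cfsg.Spor.He := by
  refine inRow_of_not_sq (by norm_num) ?_ (x₀ := wd [.g, .d, .c, .b]) ?_
    (not_si_of_triB (show triB [.g, .d, .c, .b] [.a] 17 21 = true by delta triB chkB; rw [Cfsg.Agent.KFacts.He.Fast.act_fast]; decide +kernel))
  · rw [card_he]
    norm_num
  · have h17 : Fact (Nat.Prime 17) := ⟨by norm_num⟩
    refine orderOf_eq_prime ?_ ?_
    · have h1 := eq_of_chkB (show chkB (pw [.g, .d, .c, .b] 17) [] = true by decide +kernel)
      rwa [wd_pw, wd_nil] at h1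
    · rw [← wd_nil]
      exact ne_of_chkB (by decide +kernel)

/-- **all primes at least 5** -/
theorem inRow {p : ℕ} (hp : p.Prime) (hp5 : 5 ≤ p) : InRow p Cfsg.Spor.He := by
  intro x hx
  have h1 : p ∣ 4030387200 := by
    rw [← card_he, ← hx]
    exact orderOf_dvd_natCard x
  have h3 : (4030387200 : ℕ) = 2 ^ 10 * 3 ^ 3 * 5 ^ 2 * 7 ^ 3 * 17 := by norm_num
  have h4 : p = 5 ∨ p = 7 ∨ p = 17 := by
    rw [h3] at h1
    rcases (Nat.Prime.dvd_mul hp).1 h1 with h1 | h1
    · rcases (Nat.Prime.dvd_mul hp).1 h1 with h1 | h1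
      · rcases (Nat.Prime.dvd_mul hp).1 h1 with h1 | h1
        · rcases (Nat.Prime.dvd_mul hp).1 h1 with h1 | h1
          · have := (Nat.prime_dvd_prime_iff_eq hp Nat.prime_two).1 (hp.dvd_of_dvd_pow h1)
            omega
          · have := (Nat.prime_dvd_prime_iff_eq hp Nat.prime_three).1 (hp.dvd_of_dvd_pow h1)
            omega
        · exact Or.inl ((Nat.prime_dvd_prime_iff_eq hp (by norm_num)).1 (hp.dvd_of_dvd_pow h1))
      · exact Or.inr (Or.inl ((Nat.prime_dvd_prime_iff_eq hp (by norm_num)).1 (hp.dvd_of_dvd_pow h1)))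
    · exact Or.inr (Or.inr ((Nat.prime_dvd_prime_iff_eq hp (by norm_num)).1 h1))
  rcases h4 with rfl | rfl | rfl
  · exact five x hx
  · exact seven x hx
  · exact seventeen x hx

end Cfsg.Agent.H348.Inv.He
end

-- part: H459/Inv/Vfour
section
set_option linter.all false
open scoped Cfsg.Agent.FastGrp

/-!
# The four-group trick (helper459, S3830)

`ns_of_vfour` : `K` simple with cyclic Sylow `p`-subgroups, `g` of order `p ≥ 3` normalising no non-trivial `2`-subgroup:
some involution generates a non-solvable group with `g`.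
-/

set_option autoImplicit false
set_option linter.unusedSectionVars false

namespace Cfsg.Agent.H459.Inv.Vfour

open Cfsg Subgroup Cfsg.Agent.H459.Rad Cfsg.Agent.H459.Inv Cfsg.Agent.SignalizersComponents.ComponentExists

universe u

section Core

variable {H : Type*} [Group H] [Finite H] {p : ℕ} [hp : Fact p.Prime] {g : H}

/-- the invariant `p'`-subgroups have odd order -/
theorem odd_of_inv (hg : g ^ p = 1) (hfix : ∀ R : Subgroup H, IsPGroup 2 R → (∀ r ∈ R, g * r * g⁻¹ ∈ R) → R = ⊥)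
    {A : Subgroup H} (hA : ∀ a ∈ A, g * a * g⁻¹ ∈ A) (hAp : ¬ p ∣ Nat.card A) : Odd (Nat.card A) := by
  have : Fact (Nat.Prime 2) := ⟨Nat.prime_two⟩
  rw [← Nat.not_even_iff_odd]
  intro he
  have hA' : ∀ a ∈ A, MulAut.conj g a ∈ A := hA
  obtain ⟨R, hR, hR2, hx⟩ := Cfsg.Agent.H459.Iface.FixR.of_coprime (K := A) (r := 2) (p := p) (even_iff_two_dvd.1 he) hAp
    (x := res (MulAut.conj g) hA') ⟨1, by
      rw [pow_one]
      ext a
      rw [res_pow, ← map_pow, hg, map_one]
      rfl⟩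
  apply hR
  have h1 := hfix (R.map A.subtype) (hR2.map _) (by
    rintro _ ⟨a, ha, rfl⟩
    exact ⟨_, hx a ha, rfl⟩)
  rwa [Subgroup.map_eq_bot_iff_of_injective _ A.subtype_injective] at h1

variable (hg : orderOf g = p) (hfix : ∀ R : Subgroup H, IsPGroup 2 R → (∀ r ∈ R, g * r * g⁻¹ ∈ R) → R = ⊥)

include hg hfix

theorem odd_core : Odd (Nat.card (pPrimeCore p H)) := by
  have hn : (pPrimeCore p H).Normal := Lib.Cores.pPrimeCore_normal p
  refine odd_of_inv (p := p) (by rw [← hg]; exact pow_orderOf_eq_one g) hfix (fun a ha => hn.conj_mem a ha g) ?_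
  intro hd
  have h1 := Lib.Cores.pPrimeCore_coprime (G := H) p
  have h2 : p ∣ 1 := by
    rw [← Nat.Coprime.gcd_eq_one h1]
    exact Nat.dvd_gcd hd dvd_rfl
  exact hp.out.one_lt.ne' (Nat.dvd_one.1 h2)

/-- an element commuting with `g` of order two modulo the core lies in the core -/
theorem mem_of_comm {n : H} (hn : n * g = g * n) (hn2 : n ^ 2 ∈ pPrimeCore p H) : n ∈ pPrimeCore p H := by
  have : Fact (Nat.Prime 2) := ⟨Nat.prime_two⟩
  set m := orderOf (n ^ 2) with hm
  have hmo : Odd m := by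
    have h1 : orderOf (n ^ 2) ∣ Nat.card (pPrimeCore p H) := Subgroup.orderOf_dvd_natCard _ hn2
    exact Odd.of_dvd_nat (odd_core hg hfix) h1
  have hw : (n ^ m) ^ 2 = 1 := by rw [← pow_mul, mul_comm, pow_mul, hm, pow_orderOf_eq_one]
  have hwc : n ^ m * g = g * n ^ m := ((show Commute n g from hn).pow_left m).eq
  have h1 := hfix (zpowers (n ^ m)) (IsPGroup.of_card (n := (Nat.card (zpowers (n ^ m))).factorization 2) (by
    have h2 : Nat.card (zpowers (n ^ m)) ∣ 2 ^ 1 := by
      rw [Nat.card_zpowers, pow_one]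
      exact orderOf_dvd_of_pow_eq_one hw
    obtain ⟨j, -, hj⟩ := (Nat.dvd_prime_pow Nat.prime_two).1 h2
    rw [hj, Nat.prime_two.factorization_pow]
    simp)) (by
    rintro _ ⟨j, rfl⟩
    refine ⟨j, ?_⟩
    have h2 : g * (n ^ m) ^ j = (n ^ m) ^ j * g := ((show Commute (n ^ m) g from hwc).zpow_left j).eq.symm
    show (n ^ m) ^ j = g * (n ^ m) ^ j * g⁻¹
    rw [h2, mul_inv_cancel_right])
  have h2 : n ^ m = 1 := by
    have : n ^ m ∈ zpowers (n ^ m) := mem_zpowers _
    rwa [h1, mem_bot] at this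
  obtain ⟨j, hj⟩ := hmo
  have h3 : n = ((n ^ 2) ^ j)⁻¹ := by
    rw [eq_inv_iff_mul_eq_one, ← pow_mul, ← pow_succ', ← hj]
    exact h2
  rw [h3]
  exact inv_mem (pow_mem hn2 j)

/-- every involution inverts `g` modulo the core -/
theorem inverts (hc : Cfsg.Agent.H29.CyclicPairs.Cyc p H) (hs : Group.IsSolvable H) {y : H} (hy : orderOf y = 2) :
    ∃ k ∈ pPrimeCore p H, (k * y) * g * (k * y)⁻¹ = g⁻¹ := by
  have hKn : (pPrimeCore p H).Normal := Lib.Cores.pPrimeCore_normal p
  have hps : IsPSolvable p H := Lib.PSolvable.IsPSolvable_of_solvable p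
  obtain ⟨k, hk, i, hi⟩ := Cfsg.Agent.H509.CycBlock.exists_normalizing hc hps hg y
  have hyy : y * y = 1 := by rw [← pow_two, ← hy, pow_orderOf_eq_one]
  have hyi : y⁻¹ = y := inv_eq_of_mul_eq_one_left hyy
  set n := k * y with hn
  have hn2 : n ^ 2 ∈ pPrimeCore p H := by
    have h1 : n ^ 2 = k * (y * k * y⁻¹) := by
      rw [hn, pow_two, hyi]; group
    rw [h1]
    exact mul_mem hk (hKn.conj_mem k hk y)
  -- `n²` commutes with `g`
  have hni : ∀ j : ℤ, n * g ^ j * n⁻¹ = g ^ (i * j) := by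
    intro j
    rw [← conj_zpow, hi, ← zpow_mul]
  have hcomm : n ^ 2 * g * (n ^ 2)⁻¹ = g ^ (i * i) := by
    have h1 : n ^ 2 * g * (n ^ 2)⁻¹ = n * (n * g * n⁻¹) * n⁻¹ := by rw [pow_two]; group
    rw [h1, hi, hni]
  have hgA : ∀ j : ℤ, g ^ j ∈ pPrimeCore p H → g ^ j = 1 := by
    intro j hj
    have h1 : orderOf (g ^ j) ∣ Nat.card (pPrimeCore p H) := Subgroup.orderOf_dvd_natCard _ hj
    have h2 : orderOf (g ^ j) ∣ p := by
      have h3 : orderOf (g ^ j) ∣ orderOf g := orderOf_dvd_of_mem_zpowers ⟨j, rfl⟩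
      rwa [hg] at h3
    have h3 := Nat.dvd_gcd h1 h2
    rw [Lib.Cores.pPrimeCore_coprime (G := H) p] at h3
    exact orderOf_eq_one_iff.1 (Nat.dvd_one.1 h3)
  have h1 : g ^ (i * i - 1) = 1 := by
    apply hgA
    have h2 : g ^ (i * i - 1) = n ^ 2 * (g * (n ^ 2)⁻¹ * g⁻¹) := by
      rw [zpow_sub_one, ← hcomm]; group
    rw [h2]
    exact mul_mem hn2 (hKn.conj_mem _ (inv_mem hn2) g)
  have h2 : (p : ℤ) ∣ (i - 1) * (i + 1) := by
    have h3 : (i - 1) * (i + 1) = i * i - 1 := by ring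
    rw [h3, ← hg]
    exact orderOf_dvd_iff_zpow_eq_one.2 h1
  rcases (Nat.prime_iff_prime_int.1 hp.out).dvd_or_dvd h2 with h3 | h3
  · -- `n` commutes with `g`
    exfalso
    have h4 : g ^ i = g := by
      rw [← hg] at h3
      have h5 := orderOf_dvd_iff_zpow_eq_one.1 h3
      rw [zpow_sub_one, mul_inv_eq_one] at h5
      exact h5
    rw [h4] at hi
    have h5 : n * g = g * n := by
      have := congrArg (fun a => a * n) hi
      simpa only [_root_.inv_mul_cancel_right] using this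
    have h6 := mem_of_comm hg hfix h5 hn2
    have h7 : y ∈ pPrimeCore p H := by
      have h8 : y = k⁻¹ * n := by rw [hn]; group
      rw [h8]
      exact mul_mem (inv_mem hk) h6
    have h8 : orderOf y ∣ Nat.card (pPrimeCore p H) := Subgroup.orderOf_dvd_natCard _ h7
    rw [hy] at h8
    exact (Nat.not_even_iff_odd.2 (odd_core hg hfix)) (even_iff_two_dvd.2 h8)
  · refine ⟨k, hk, ?_⟩
    rw [hi]
    rw [← hg] at h3
    have h5 := orderOf_dvd_iff_zpow_eq_one.1 h3
    rw [zpow_add_one] at h5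
    exact eq_inv_of_mul_eq_one_left h5

end Core

/-- another involution commuting with a given one -/
theorem exists_involution {K : Type*} [Group K] [Finite K] [IsSimpleGroup K] (hna : ¬ IsMulCommutative K) {t : K}
    (ht : orderOf t = 2) : ∃ y : K, orderOf y = 2 ∧ y ≠ t ∧ y * t = t * y := by
  have : Fact (Nat.Prime 2) := ⟨Nat.prime_two⟩
  by_contra hcon
  push Not at hcon
  have hpt : IsPGroup 2 (zpowers t) := IsPGroup.of_card (n := 1) (by rw [Nat.card_zpowers, ht, pow_one])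
  obtain ⟨P, hP⟩ := hpt.exists_le_sylow
  have htP : t ∈ (P : Subgroup K) := hP (mem_zpowers t)
  -- `t` is central in `P`
  have hnt : Nontrivial (P : Subgroup K) := ⟨⟨⟨t, htP⟩, 1, fun h => by
    have h1 := congrArg Subtype.val h
    rw [Subgroup.coe_one] at h1
    change t = 1 at h1
    rw [h1, orderOf_one] at ht
    omega⟩⟩
  have hc := P.isPGroup'.center_nontrivial
  have h2 : 2 ∣ Nat.card (center (P : Subgroup K)) := by
    have h3 : IsPGroup 2 (center (P : Subgroup K)) := P.isPGroup'.to_subgroup _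
    obtain ⟨n, hn⟩ := IsPGroup.iff_card.1 h3
    rcases n with _ | n
    · rw [pow_zero] at hn
      have := Finite.one_lt_card_iff_nontrivial.2 hc
      omega
    · rw [hn]; exact dvd_pow_self 2 (by omega)
  obtain ⟨z, hz⟩ := exists_prime_orderOf_dvd_card' 2 h2
  have hzt : ((z : (P : Subgroup K)) : K) = t := by
    by_contra hne
    refine hcon _ (by rw [Subgroup.orderOf_coe, Subgroup.orderOf_coe]; exact hz) hne ?_
    have h3 := mem_center_iff.1 z.2 ⟨t, htP⟩
    exact (congrArg Subtype.val h3).symm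
  have hcen : ∀ s ∈ (P : Subgroup K), s * t = t * s := by
    intro s hs
    have h3 := mem_center_iff.1 z.2 ⟨s, hs⟩
    have h4 := congrArg Subtype.val h3
    rw [Subgroup.coe_mul, Subgroup.coe_mul, hzt] at h4
    exact h4
  obtain ⟨N, hN, hNo, hNc⟩ := Cfsg.Agent.S0215.result P t ht htP (fun g hg => by
    by_contra hne
    refine hcon _ ?_ hne (hcen _ hg)
    rw [← ht]
    exact orderOf_injective (MulAut.conj g).toMonoidHom (MulAut.conj g).injective t)
  rcases hN.eq_bot_or_eq_top with h3 | h3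
  · have h4 : t ∈ center K := by
      rw [mem_center_iff]
      intro g
      have h5 := hNc g
      rw [h3, mem_bot] at h5
      have h6 : t * g * t⁻¹ = g := mul_inv_eq_one.1 h5
      calc g * t = (t * g * t⁻¹) * t := by rw [h6]
        _ = t * g := by group
    rw [CycFalse.center_eq_bot hna, mem_bot] at h4
    rw [h4, orderOf_one] at ht
    omega
  · rw [h3, card_top] at hNo
    have h4 : orderOf t ∣ Nat.card K := _root_.orderOf_dvd_natCard t
    rw [ht] at h4
    exact (Nat.not_even_iff_odd.2 hNo) (even_iff_two_dvd.2 h4)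

/-- **The four-group trick.** -/
theorem ns_of_vfour {K : Type u} [Group K] [Finite K] [IsSimpleGroup K] (hna : ¬ IsMulCommutative K) {p : ℕ}
    [hp : Fact p.Prime] (hc : ∀ P : Sylow p K, IsCyclic (P : Subgroup K)) {g : K} (hg : orderOf g = p)
    (h2 : 2 ∣ Nat.card K) (hfix : ∀ R : Subgroup K, IsPGroup 2 R → (∀ r ∈ R, g * r * g⁻¹ ∈ R) → R = ⊥) :
    NS (MulAut.conj g) := by
  have : Fact (Nat.Prime 2) := ⟨Nat.prime_two⟩
  by_contra hcon
  have hsol : ∀ y : K, orderOf y = 2 → Group.IsSolvable ↥(_root_.Subgroup.closure ({g, y} : Set K)) := by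
    intro y hy
    by_contra hs
    exact hcon (ns_of_inner hy hs)
  have hgp : g ^ p = 1 := by rw [← hg]; exact pow_orderOf_eq_one g
  -- the hypotheses in a subgroup
  have hsub : ∀ {H : Subgroup K} (hgH : g ∈ H), (Cfsg.Agent.H29.CyclicPairs.Cyc p H) ∧
      orderOf (⟨g, hgH⟩ : H) = p ∧
      ∀ R : Subgroup H, IsPGroup 2 R → (∀ r ∈ R, (⟨g, hgH⟩ : H) * r * (⟨g, hgH⟩ : H)⁻¹ ∈ R) → R = ⊥ := by
    intro H hgH
    refine ⟨Cfsg.Agent.H29.CyclicPairs.Cyc.of_injective (G := K) hc H.subtype H.subtype_injective, ?_, ?_⟩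
    · rw [Subgroup.orderOf_mk, hg]
    · intro R hR hRg
      have h1 := hfix (R.map H.subtype) (hR.map _) (by
        rintro _ ⟨a, ha, rfl⟩
        exact ⟨_, hRg a ha, rfl⟩)
      rwa [Subgroup.map_eq_bot_iff_of_injective _ H.subtype_injective] at h1
  -- an involution inverting `g`
  obtain ⟨t, ht, htg⟩ : ∃ t : K, orderOf t = 2 ∧ t * g * t⁻¹ = g⁻¹ := by
    obtain ⟨y, hy⟩ := exists_prime_orderOf_dvd_card' 2 h2
    set H := _root_.Subgroup.closure ({g, y} : Set K) with hH
    have hgH : g ∈ H := Subgroup.subset_closure (Set.mem_insert _ _)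
    have hyH : y ∈ H := Subgroup.subset_closure (Set.mem_insert_of_mem _ rfl)
    obtain ⟨h3, h4, h5⟩ := hsub hgH
    have hKn : (pPrimeCore p H).Normal := Lib.Cores.pPrimeCore_normal p
    have hyo : orderOf (⟨y, hyH⟩ : H) = 2 := by rw [Subgroup.orderOf_mk, hy]
    obtain ⟨k, hk, hi⟩ := inverts h4 h5 h3 (hsol y hy) hyo
    set n : H := k * ⟨y, hyH⟩ with hn
    have hyy : (⟨y, hyH⟩ : H) * ⟨y, hyH⟩ = 1 := by rw [← pow_two, ← hyo, pow_orderOf_eq_one]
    have hyi : (⟨y, hyH⟩ : H)⁻¹ = ⟨y, hyH⟩ := inv_eq_of_mul_eq_one_left hyy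
    have hn2 : n ^ 2 ∈ pPrimeCore p H := by
      have h1 : n ^ 2 = k * ((⟨y, hyH⟩ : H) * k * (⟨y, hyH⟩ : H)⁻¹) := by
        rw [hn, pow_two, hyi]; group
      rw [h1]
      exact mul_mem hk (hKn.conj_mem k hk _)
    have hmo : Odd (orderOf (n ^ 2)) := by
      have h1 : orderOf (n ^ 2) ∣ Nat.card (pPrimeCore p H) := Subgroup.orderOf_dvd_natCard _ hn2
      exact Odd.of_dvd_nat (odd_core h4 h5) h1
    obtain ⟨j, hj⟩ := hmo
    set m := orderOf (n ^ 2) with hm
    have hw : (n ^ m) ^ 2 = 1 := by rw [← pow_mul, mul_comm, pow_mul, hm, pow_orderOf_eq_one]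
    have hinv : ∀ i : ℕ, n ^ (2 * i + 1) * ⟨g, hgH⟩ * (n ^ (2 * i + 1))⁻¹ = (⟨g, hgH⟩ : H)⁻¹ := by
      intro i
      induction i with
      | zero => simpa only [_root_.MulZeroClass.mul_zero, _root_.zero_add, _root_.pow_one] using hi
      | succ i ih =>
        have e : n ^ (2 * (i + 1) + 1) = n * (n * n ^ (2 * i + 1)) := by
          rw [← pow_succ', ← pow_succ']
          congr 1
        rw [e]
        have e2 : n * (n * n ^ (2 * i + 1)) * ⟨g, hgH⟩ * (n * (n * n ^ (2 * i + 1)))⁻¹ =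
            n * (n * (n ^ (2 * i + 1) * ⟨g, hgH⟩ * (n ^ (2 * i + 1))⁻¹) * n⁻¹) * n⁻¹ := by group
        have e3 : n * (⟨g, hgH⟩ : H)⁻¹ * n⁻¹ = ⟨g, hgH⟩ := by
          have := congrArg (fun a => a⁻¹) hi
          simpa only [mul_assoc, _root_.mul_inv_rev, _root_.inv_inv] using this
        rw [e2, ih, e3, hi]
    have hne : n ^ m ≠ 1 := by
      intro h6
      have h7 := hinv j
      rw [← hj, h6, one_mul, inv_one, mul_one] at h7
      have h8 : (⟨g, hgH⟩ : H) ^ 2 = 1 := by
        rw [pow_two]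
        nth_rewrite 2 [h7]
        exact mul_inv_cancel _
      -- `g` is an involution, normalising `⟨g⟩`
      have h9 := h5 (zpowers ⟨g, hgH⟩) (IsPGroup.of_card (n := 1) (by
        rw [Nat.card_zpowers, pow_one]
        have h10 := orderOf_dvd_of_pow_eq_one h8
        rw [h4] at h10 ⊢
        exact (Nat.prime_dvd_prime_iff_eq hp.out Nat.prime_two).1 h10)) (by
        rintro _ ⟨i, rfl⟩
        refine ⟨i, ?_⟩
        show (⟨g, hgH⟩ : H) ^ i = ⟨g, hgH⟩ * (⟨g, hgH⟩ : H) ^ i * (⟨g, hgH⟩ : H)⁻¹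
        rw [← zpow_one_add, add_comm, ← zpow_sub_one, add_sub_cancel_right])
      have h10 : (⟨g, hgH⟩ : H) = 1 := by
        have : (⟨g, hgH⟩ : H) ∈ zpowers (⟨g, hgH⟩ : H) := mem_zpowers _
        rwa [h9, mem_bot] at this
      rw [h10, orderOf_one] at h4
      exact hp.out.one_lt.ne h4
    refine ⟨((n ^ m : H) : K), ?_, ?_⟩
    · rw [Subgroup.orderOf_coe]
      exact orderOf_eq_prime hw hne
    · have h7 := hinv j
      rw [← hj] at h7
      exact congrArg Subtype.val h7
  -- another involution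
  obtain ⟨y, hy, hyt, hyc⟩ := exists_involution hna ht
  have htt : t * t = 1 := by rw [← pow_two, ← ht, pow_orderOf_eq_one]
  have hti : t⁻¹ = t := inv_eq_of_mul_eq_one_left htt
  have hyy : y * y = 1 := by rw [← pow_two, ← hy, pow_orderOf_eq_one]
  set A := _root_.Subgroup.closure ({g, y} : Set K) with hA
  have hgA : g ∈ A := Subgroup.subset_closure (Set.mem_insert _ _)
  have hyA : y ∈ A := Subgroup.subset_closure (Set.mem_insert_of_mem _ rfl)
  have hAt : ∀ a ∈ A, t * a * t⁻¹ ∈ A := by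
    intro a ha
    have h3 : A ≤ A.comap (MulAut.conj t).toMonoidHom := by
      rw [hA, closure_le]
      rintro z (rfl | rfl)
      · show t * z * t⁻¹ ∈ A
        rw [htg]; exact inv_mem hgA
      · show t * z * t⁻¹ ∈ A
        rw [← hyc, mul_assoc, mul_inv_cancel, mul_one]; exact hyA
    exact h3 ha
  set H := closure ({g, y, t} : Set K) with hH
  have hHs : Group.IsSolvable H := by
    refine solvable_closure (X := t) hAt (fun a ha => by
      have := hAt a ha
      rwa [hti] at this ⊢) (hsol y hy) ?_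
    rintro z (rfl | rfl | rfl)
    · exact (le_sup_left : A ≤ _) hgA
    · exact (le_sup_left : A ≤ _) hyA
    · exact (le_sup_right : zpowers z ≤ _) (mem_zpowers z)
  have hgH : g ∈ H := Subgroup.subset_closure (Set.mem_insert _ _)
  have hyH : y ∈ H := Subgroup.subset_closure (Set.mem_insert_of_mem _ (Set.mem_insert _ _))
  have htH : t ∈ H := Subgroup.subset_closure (Set.mem_insert_of_mem _ (Set.mem_insert_of_mem _ rfl))
  obtain ⟨h3, h4, h5⟩ := hsub hgH
  have hKn : (pPrimeCore p H).Normal := Lib.Cores.pPrimeCore_normal p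
  have hyo : orderOf (⟨y, hyH⟩ : H) = 2 := by rw [Subgroup.orderOf_mk, hy]
  obtain ⟨k, hk, hi⟩ := inverts h4 h5 h3 hHs hyo
  -- `t k y` commutes with `g`
  set T : H := ⟨t, htH⟩ with hT
  set Y : H := ⟨y, hyH⟩ with hY
  set g' : H := ⟨g, hgH⟩ with hg'
  have hTT : T * T = 1 := Subtype.ext htt
  have hYY : Y * Y = 1 := Subtype.ext hyy
  have hTY : Y * T = T * Y := Subtype.ext hyc
  have hTg : T * g' * T⁻¹ = g'⁻¹ := Subtype.ext htg
  set n : H := T * (k * Y) with hn
  have hng : n * g' = g' * n := by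
    have h6 : n * g' * n⁻¹ = g' := by
      have e : n * g' * n⁻¹ = T * ((k * Y) * g' * (k * Y)⁻¹) * T⁻¹ := by rw [hn]; group
      rw [e, hi]
      have := congrArg (fun a => a⁻¹) hTg
      simpa only [mul_assoc, _root_.mul_inv_rev, _root_.inv_inv] using this
    calc n * g' = (n * g' * n⁻¹) * n := by group
      _ = g' * n := by rw [h6]
  have hTi : T⁻¹ = T := inv_eq_of_mul_eq_one_left hTT
  have hYi : Y⁻¹ = Y := inv_eq_of_mul_eq_one_left hYY
  have hn2 : n ^ 2 ∈ pPrimeCore p H := by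
    have e : n ^ 2 = (T * k * T⁻¹) * (Y * k * Y⁻¹) := by
      have e1 : n = (T * k * T⁻¹) * (T * Y) := by rw [hn]; group
      have e2 : n = (T * Y) * ((Y⁻¹ * k * Y)) := by
        rw [hn]; group
      have e3 : (T * Y) * (T * Y) = 1 := by
        rw [← hTY]
        calc Y * T * (Y * T) = Y * T * (T * Y) := by rw [hTY]
          _ = Y * (T * T) * Y := by group
          _ = 1 := by rw [hTT, mul_one, hYY]
      rw [pow_two]
      nth_rewrite 1 [e1]
      nth_rewrite 1 [e2]
      calc T * k * T⁻¹ * (T * Y) * (T * Y * (Y⁻¹ * k * Y)) = T * k * T⁻¹ * ((T * Y) * (T * Y)) * (Y⁻¹ * k * Y) := by group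
        _ = T * k * T⁻¹ * (Y * k * Y⁻¹) := by rw [e3, mul_one, hYi]
    rw [e]
    exact mul_mem (hKn.conj_mem k hk T) (hKn.conj_mem k hk Y)
  have hnA := mem_of_comm h4 h5 hng hn2
  have hTYA : T * Y ∈ pPrimeCore p H := by
    have e : T * Y = (T * k * T⁻¹)⁻¹ * n := by rw [hn]; group
    rw [e]
    exact mul_mem (inv_mem (hKn.conj_mem k hk T)) hnA
  have hTY2 : orderOf (T * Y) = 2 := by
    apply orderOf_eq_prime
    · rw [pow_two, ← hTY]
      calc Y * T * (Y * T) = Y * T * (T * Y) := by rw [hTY]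
        _ = Y * (T * T) * Y := by group
        _ = 1 := by rw [hTT, mul_one, hYY]
    · intro h6
      apply hyt
      have h7 : T = Y := by
        rw [← hYi]
        exact eq_inv_of_mul_eq_one_left h6
      exact (congrArg Subtype.val h7).symm
  have h8 : orderOf (T * Y) ∣ Nat.card (pPrimeCore p H) := Subgroup.orderOf_dvd_natCard _ hTYA
  rw [hTY2] at h8
  exact (Nat.not_even_iff_odd.2 (odd_core h4 h5)) (even_iff_two_dvd.2 h8)

end Cfsg.Agent.H459.Inv.Vfour
end

-- part: H803/Inv/Key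
section
prune_inst 0x146001244ca2120000180516202004606a0004220040040064a10b420b09e862a8816001aca005175a1200c540010060011000100260000024200000411900a080035206a258a904660019000000000000000000000000000000000000000000000000000
set_option linter.all false
open scoped Cfsg.Agent.FastGrp

/-!
# Solvable linear groups containing an irreducible element of prime order (helper803, for S3830)

`W` a finite dimensional space over a finite field `F`, `g : W ≃ₗ[F] W` of prime order `p` acting irreducibly, `H` a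
solvable subgroup of `GL(W)` containing `g`. Unless `p = dim W + 1` and `dim W` is a power of two (and `F` is of odd
characteristic), `H` normalises `⟨g⟩`.

* `finrank_lt` : `dim W < p`;
* `zpowers_of_pgroup` : an element of order `p` of a `p`-group containing `g` lies in `⟨g⟩`;
* `normalises` : the key lemma;
* `eq_one_of_commute` : an element commuting with `g` with a nonzero fixed vector is trivial;
* `inverts` : an involution `y` with `⟨g, y⟩` solvable inverts `g`;
* `eq_of_solvable` : two such involutions with a common nonzero fixed vector are equal.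
-/

set_option autoImplicit false
set_option linter.unusedSectionVars false

namespace Cfsg.Agent.H803.Inv

open Cfsg Subgroup

universe u v

/-- elements of order dividing `n` in a cyclic group -/
theorem mem_zpowers_of_pow {G : Type*} [Group G] [Finite G] [IsCyclic G] {a b : G} {n : ℕ} (hn : 0 < n)
    (ha : orderOf a = n) (hb : b ^ n = 1) : b ∈ zpowers a := by
  classical
  have := Fintype.ofFinite G
  have h1 := IsCyclic.card_pow_eq_one_le (α := G) hn
  have h2 : (zpowers a : Set G).toFinset ⊆ Finset.univ.filter fun x : G => x ^ n = 1 := by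
    intro x hx
    rw [Set.mem_toFinset] at hx
    obtain ⟨k, rfl⟩ := hx
    rw [Finset.mem_filter]
    refine ⟨Finset.mem_univ _, ?_⟩
    show (a ^ k) ^ n = 1
    rw [← zpow_natCast, ← zpow_mul, mul_comm, zpow_mul, zpow_natCast, ← ha, pow_orderOf_eq_one, one_zpow]
  have h3 : (zpowers a : Set G).toFinset.card = n := by
    rw [Set.toFinset_card, ← Nat.card_eq_fintype_card]
    show Nat.card (zpowers a) = n
    rw [Nat.card_zpowers, ha]
  have h4 := Finset.eq_of_subset_of_card_le h2 (by rw [h3]; exact h1)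
  have h5 : b ∈ (zpowers a : Set G).toFinset := by
    rw [h4, Finset.mem_filter]
    exact ⟨Finset.mem_univ _, hb⟩
  exact Set.mem_toFinset.1 h5

section Key

variable {F : Type u} [Field F] {W : Type v} [AddCommGroup W] [Module F W]

/-- the matrices of `GL(W)` over the algebraic closure -/
theorem exists_rep [FiniteDimensional F W] : ∃ ρ : (W ≃ₗ[F] W) →* ((Fin (Module.finrank F W) → AlgebraicClosure F)
    →ₗ[AlgebraicClosure F] (Fin (Module.finrank F W) → AlgebraicClosure F)), Function.Injective ρ := by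
  let b := Module.finBasis F W
  let K := AlgebraicClosure F
  let n := Module.finrank F W
  let ρ0 : (W ≃ₗ[F] W) →* (W →ₗ[F] W) := LinearEquiv.automorphismGroup.toLinearMapMonoidHom
  let ρ := ((Matrix.toLinAlgEquiv' (R := K) (n := Fin n)).toMulEquiv.toMonoidHom).comp
    (((algebraMap F K).mapMatrix (m := Fin n)).toMonoidHom.comp
    ((LinearMap.toMatrixAlgEquiv b).toMulEquiv.toMonoidHom.comp ρ0))
  refine ⟨ρ, ?_⟩
  intro x y hxy
  have h1 := (Matrix.toLinAlgEquiv' (R := K) (n := Fin n)).injective hxy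
  have h2 := Matrix.map_injective (m := Fin n) (n := Fin n) (algebraMap F K).injective h1
  have h3 : ρ0 x = ρ0 y := (LinearMap.toMatrixAlgEquiv b).injective h2
  apply LinearEquiv.ext
  intro v
  exact LinearMap.congr_fun h3 v

variable [Finite F] [FiniteDimensional F W] [Nontrivial W] {p : ℕ} [hp : Fact p.Prime]

theorem lin_pow (g : W ≃ₗ[F] W) (n : ℕ) : (g : W →ₗ[F] W) ^ n = ((g ^ n : W ≃ₗ[F] W) : W →ₗ[F] W) := by
  induction n with
  | zero => rfl
  | succ n ih => rw [pow_succ', pow_succ', ih]; rfl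

theorem lin_ne_one {g : W ≃ₗ[F] W} (h : g ≠ 1) : (g : W →ₗ[F] W) ≠ 1 := by
  intro h1
  apply h
  apply LinearEquiv.ext
  intro v
  exact LinearMap.congr_fun h1 v

theorem lin_pow_one {g : W ≃ₗ[F] W} {n : ℕ} (h : g ^ n = 1) : (g : W →ₗ[F] W) ^ n = 1 := by
  rw [lin_pow, h]
  rfl

/-- `dim W < p` -/
theorem finrank_lt {g : W ≃ₗ[F] W} (hgp : g ^ p = 1) (hg1 : g ≠ 1)
    (hs : ∀ U : Submodule F W, (∀ w ∈ U, g w ∈ U) → U = ⊥ ∨ U = ⊤) : Module.finrank F W < p := by
  -- the fixed vectors of `g`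
  have hno : ∀ v, g v = v → v = 0 := by
    intro v hv
    by_contra hv0
    have h1 := hs (LinearMap.ker ((g : W →ₗ[F] W) - 1)) (by
      intro w hw
      rw [LinearMap.mem_ker, LinearMap.sub_apply, sub_eq_zero] at hw ⊢
      exact congrArg g hw)
    rcases h1 with h1 | h1
    · apply hv0
      have h2 : v ∈ LinearMap.ker ((g : W →ₗ[F] W) - 1) := by
        rw [LinearMap.mem_ker, LinearMap.sub_apply, sub_eq_zero]
        exact hv
      rw [h1] at h2
      exact (Submodule.mem_bot F).1 h2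
    · apply hg1
      apply LinearEquiv.ext
      intro w
      have h2 : w ∈ LinearMap.ker ((g : W →ₗ[F] W) - 1) := by rw [h1]; trivial
      rw [LinearMap.mem_ker, LinearMap.sub_apply, sub_eq_zero] at h2
      exact h2
  obtain ⟨w, hw⟩ := exists_ne (0 : W)
  -- the sum over the orbit is zero
  have hsum : ∀ v : W, ∑ i ∈ Finset.range p, (g ^ i) v = 0 := by
    intro v
    apply hno
    rw [map_sum]
    have h1 : ∀ i, g ((g ^ i) v) = (g ^ (i + 1)) v := by
      intro i
      rw [pow_succ']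
      rfl
    simp_rw [h1]
    have h2 := Finset.sum_range_succ (fun i => (g ^ i) v) p
    have h3 := Finset.sum_range_succ' (fun i => (g ^ i) v) p
    rw [h2] at h3
    rw [hgp, pow_zero] at h3
    exact (add_right_cancel h3).symm
  obtain ⟨m, hm⟩ : ∃ m, p = m + 1 := ⟨p - 1, by have := hp.out.pos; omega⟩
  let U : Submodule F W := Submodule.span F (Set.range fun i : Fin m => (g ^ (i : ℕ)) w)
  have hU : U = ⊤ := by
    refine (hs U ?_).resolve_left ?_
    · intro u hu
      induction hu using Submodule.span_induction with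
      | mem x hx =>
        obtain ⟨i, rfl⟩ := hx
        show g ((g ^ (i : ℕ)) w) ∈ U
        have h1 : g ((g ^ (i : ℕ)) w) = (g ^ ((i : ℕ) + 1)) w := by rw [pow_succ']; rfl
        rw [h1]
        rcases Nat.lt_or_ge ((i : ℕ) + 1) m with h2 | h2
        · exact Submodule.subset_span ⟨⟨(i : ℕ) + 1, h2⟩, rfl⟩
        · have h3 : (i : ℕ) + 1 = m := by have := i.2; omega
          have h4 := hsum w
          rw [hm, Finset.sum_range_succ, ← h3] at h4
          have h5 : (g ^ ((i : ℕ) + 1)) w = -∑ j ∈ Finset.range ((i : ℕ) + 1), (g ^ j) w :=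
            eq_neg_of_add_eq_zero_right h4
          rw [h5]
          refine U.neg_mem (U.sum_mem fun j hj => ?_)
          rw [Finset.mem_range] at hj
          exact Submodule.subset_span ⟨⟨j, by omega⟩, rfl⟩
      | zero => rw [map_zero]; exact U.zero_mem
      | add x y _ _ hx hy => rw [map_add]; exact U.add_mem hx hy
      | smul a x _ hx => rw [map_smul]; exact U.smul_mem a hx
    · intro h
      apply hw
      have hm0 : 0 < m := by have := hp.out.two_le; omega
      have h1 : w ∈ U := Submodule.subset_span ⟨⟨0, hm0⟩, by simp⟩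
      rw [h] at h1
      exact (Submodule.mem_bot F).1 h1
  have h1 : Module.finrank F W ≤ m := by
    have h2 := finrank_range_le_card (R := F) (fun i : Fin m => (g ^ (i : ℕ)) w)
    rw [Fintype.card_fin] at h2
    have h3 : (Set.range fun i : Fin m => (g ^ (i : ℕ)) w).finrank F = Module.finrank F W := by
      show Module.finrank F U = _
      rw [hU, finrank_top]
    rwa [h3] at h2
  omega

/-- `p`-elements of a `p`-group containing `g` -/
theorem zpowers_of_pgroup (hpF : (p : F) ≠ 0) {g : W ≃ₗ[F] W} (hgp : g ^ p = 1) (hg1 : g ≠ 1)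
    (hs : ∀ U : Submodule F W, (∀ w ∈ U, g w ∈ U) → U = ⊥ ∨ U = ⊤) {P : Subgroup (W ≃ₗ[F] W)} (hP : IsPGroup p P)
    {a b : W ≃ₗ[F] W} (ha : a ∈ P) (hb : b ∈ P) (hap : a ^ p = 1) (ha1 : a ≠ 1) (hbp : b ^ p = 1) :
    b ∈ zpowers a := by
  have hVf : Finite W := Module.finite_of_finite F
  have hf0 : Finite (W ≃ₗ[F] W) := Finite.of_injective (fun h : W ≃ₗ[F] W => (h : W → W)) DFunLike.coe_injective
  have hc : IsCyclic P := Cfsg.Agent.H952.Rc.isCyclic_of_isPGroup hpF (lin_pow_one hgp) (lin_ne_one hg1)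
    (fun U hU => hs U hU) hP
  have h1 : (⟨b, hb⟩ : P) ∈ zpowers (⟨a, ha⟩ : P) := by
    have hfa : orderOf (⟨a, ha⟩ : P) = p := by
      rw [← Subgroup.orderOf_coe]
      exact orderOf_eq_prime hap ha1
    exact mem_zpowers_of_pow hp.out.pos hfa (Subtype.ext hbp)
  obtain ⟨k, hk⟩ := h1
  exact ⟨k, congrArg Subtype.val hk⟩

/-- **The key lemma.** -/
theorem normalises (hpF : (p : F) ≠ 0) {g : W ≃ₗ[F] W} (hgp : g ^ p = 1) (hg1 : g ≠ 1)
    (hs : ∀ U : Submodule F W, (∀ w ∈ U, g w ∈ U) → U = ⊥ ∨ U = ⊤) {H : Subgroup (W ≃ₗ[F] W)}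
    (hH : Group.IsSolvable H) (hgH : g ∈ H)
    (hex : (2 : F) = 0 ∨ ¬ (p = Module.finrank F W + 1 ∧ ∃ m : ℕ, Module.finrank F W = 2 ^ m)) :
    ∀ h ∈ H, h * g * h⁻¹ ∈ zpowers g := by
  have hVf : Finite W := Module.finite_of_finite F
  have hf0 : Finite (W ≃ₗ[F] W) := Finite.of_injective (fun h : W ≃ₗ[F] W => (h : W → W)) DFunLike.coe_injective
  have hlt := finrank_lt hgp hg1 hs
  obtain ⟨ρ, hρ⟩ := exists_rep (F := F) (W := W)
  set K := AlgebraicClosure F with hK
  have hrk : Module.finrank K (Fin (Module.finrank F W) → K) = Module.finrank F W := by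
    rw [Module.finrank_pi, Fintype.card_fin]
  -- the characteristic
  obtain ⟨ℓ, hℓc⟩ := CharP.exists F
  have hℓ : Fact ℓ.Prime := ⟨CharP.char_is_prime F ℓ⟩
  have hcK : CharP K ℓ := charP_of_injective_algebraMap (algebraMap F K).injective ℓ
  set x : H := ⟨g, hgH⟩ with hx
  have hxp : x ^ p = 1 := Subtype.ext hgp
  have hx1 : x ≠ 1 := fun h => hg1 (congrArg Subtype.val h)
  -- `O_ℓ(H) = 1`
  have hcoreℓ : pCore ℓ H = ⊥ := by
    set R := pCore ℓ H with hR
    have hRn : R.Normal := Cfsg.Agent.Lib.Cores.pCore_normal ℓ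
    have hP : IsPGroup ℓ R := Cfsg.Agent.Lib.Cores.pCore_isPGroup ℓ
    let U : Submodule F W :=
      { carrier := {w | ∀ h ∈ R, (h : W ≃ₗ[F] W) w = w}
        add_mem' := by
          intro a b ha hb h hh
          rw [map_add, ha h hh, hb h hh]
        zero_mem' := by
          intro h _
          exact map_zero _
        smul_mem' := by
          intro c a ha h hh
          rw [map_smul, ha h hh] }
    have hU : U = ⊤ := by
      refine (hs U ?_).resolve_left ?_
      · intro w hw h hh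
        have h2 := hw (x⁻¹ * h * x) (by have := hRn.conj_mem h hh x⁻¹; simpa using this)
        have h3 : (h : W ≃ₗ[F] W) (g w) = g (((x⁻¹ * h * x : H) : W ≃ₗ[F] W) w) := by
          show (h : W ≃ₗ[F] W) (g w) = g (g.symm ((h : W ≃ₗ[F] W) (g w)))
          rw [g.apply_symm_apply]
        rw [h3, h2]
      · intro hbot
        let act : MulAction R W :=
          { smul := fun r w => ((r : H) : W ≃ₗ[F] W) w
            one_smul := fun w => rfl
            mul_smul := fun a b w => rfl }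
        have hℓd : ℓ ∣ Nat.card W := by
          have := Fintype.ofFinite F
          have h1 := Module.natCard_eq_pow_finrank (K := F) (V := W)
          have h2 : ℓ ∣ Nat.card F := by
            rw [Nat.card_eq_fintype_card, ← CharP.cast_eq_zero_iff F ℓ]
            exact FiniteField.cast_card_eq_zero F
          rw [h1]
          exact dvd_pow h2 Module.finrank_pos.ne'
        have h2 : (0 : W) ∈ MulAction.fixedPoints R W := by
          intro r
          exact map_zero ((r : H) : W ≃ₗ[F] W)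
        obtain ⟨w, hw, hw1⟩ := hP.exists_fixed_point_of_prime_dvd_card_of_fixed_point W hℓd h2
        have h3 : w ∈ U := fun h hh => hw ⟨h, hh⟩
        rw [hbot] at h3
        exact hw1 ((Submodule.mem_bot F).1 h3).symm
    rw [eq_bot_iff]
    intro h hh
    rw [Subgroup.mem_bot]
    apply Subtype.ext
    apply LinearEquiv.ext
    intro w
    have h1 : w ∈ U := by rw [hU]; trivial
    exact h1 h hh
  -- the other cores
  have hcores : ∀ s : ℕ, s.Prime → s ≠ p → ∀ a ∈ pCore s H, x * a * x⁻¹ = a := by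
    intro s hsp hne
    by_cases hsℓ : s = ℓ
    · intro a ha
      rw [hsℓ, hcoreℓ, Subgroup.mem_bot] at ha
      rw [ha]
      group
    by_contra hcon
    push Not at hcon
    obtain ⟨a, ha, hne'⟩ := hcon
    have h1 := Cfsg.Agent.H273.PalfyRep.pgroup_case (ρ.comp H.subtype) (hρ.comp H.subtype_injective) x hp.out hxp
      (by rw [hrk]; exact hlt) hsp hne (by
        rw [Ne, CharP.cast_eq_zero_iff K ℓ, Nat.prime_dvd_prime_iff_eq hℓ.out hsp]
        exact fun h => hsℓ h.symm) _ (pCore s H) rfl inferInstance (Cfsg.Agent.Lib.Cores.pCore_isPGroup s)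
      (fun b hb => (Cfsg.Agent.Lib.Cores.pCore_normal s).conj_mem b hb x) ⟨a, ha, hne'⟩
    rw [hrk] at h1
    obtain ⟨h2, h3, h4⟩ := h1
    rcases hex with h5 | h5
    · apply hsℓ
      have h6 : ((2 : ℕ) : F) = 0 := by exact_mod_cast h5
      rw [CharP.cast_eq_zero_iff F ℓ, Nat.prime_dvd_prime_iff_eq hℓ.out Nat.prime_two] at h6
      rw [h2, h6]
    · exact h5 ⟨h3, h4⟩
  -- `O_p(H) ≠ 1`
  have hPn : (pCore p H).Normal := Cfsg.Agent.Lib.Cores.pCore_normal p
  have hPp : IsPGroup p (pCore p H) := Cfsg.Agent.Lib.Cores.pCore_isPGroup p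
  have hPne : pCore p H ≠ ⊥ := by
    intro hbot
    obtain ⟨s, hsp, a, ha, hne⟩ := Cfsg.Agent.H273.PalfyKP.exists_not_central hH hbot x hxp hx1
    by_cases hsp' : s = p
    · rw [hsp', hbot, Subgroup.mem_bot] at ha
      apply hne
      rw [ha]
      group
    · exact hne (hcores s hsp hsp' a ha)
  -- an element of order `p` of `O_p(H)`
  obtain ⟨z, hz, hz1, hzp⟩ : ∃ z ∈ pCore p H, z ≠ 1 ∧ z ^ p = 1 := by
    have hnt : Nontrivial (pCore p H) := (Subgroup.nontrivial_iff_ne_bot _).2 hPne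
    obtain ⟨k, hk⟩ := hPp.exists_card_eq
    have hd : p ∣ Nat.card (pCore p H) := by
      rcases Nat.eq_zero_or_pos k with h0 | h0
      · rw [h0, pow_zero] at hk
        exact absurd hk (Finite.one_lt_card).ne'
      · rw [hk]; exact dvd_pow_self p h0.ne'
    obtain ⟨z, hz⟩ := exists_prime_orderOf_dvd_card' p hd
    refine ⟨z, z.2, ?_, ?_⟩
    · intro h
      have : z = 1 := Subtype.ext h
      rw [this, orderOf_one] at hz
      exact hp.out.one_lt.ne hz
    · have := pow_orderOf_eq_one z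
      rw [hz] at this
      exact congrArg Subtype.val this
  -- the `p`-group `O_p(H) ⟨g⟩`
  have hzg : IsPGroup p (zpowers x) := IsPGroup.of_card (n := 1) (by
    rw [Nat.card_zpowers, pow_one]
    exact orderOf_eq_prime hxp hx1)
  have hQ : IsPGroup p ↥(pCore p H ⊔ zpowers x) := IsPGroup.to_sup_of_normal_left hPp hzg
  have hQ' : IsPGroup p ↥((pCore p H ⊔ zpowers x).map H.subtype) := hQ.map _
  have hgz : g ∈ zpowers (z : W ≃ₗ[F] W) := zpowers_of_pgroup hpF hgp hg1 hs hQ'
    ⟨z, (le_sup_left : pCore p H ≤ _) hz, rfl⟩ ⟨x, (le_sup_right : zpowers x ≤ _) (mem_zpowers x), rfl⟩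
    (by exact_mod_cast congrArg Subtype.val hzp) (fun h => hz1 (Subtype.ext h)) hgp
  have hxP : x ∈ pCore p H := by
    obtain ⟨k, hk⟩ := hgz
    have : x = z ^ k := Subtype.ext hk.symm
    rw [this]
    exact zpow_mem hz k
  intro h hh
  refine zpowers_of_pgroup hpF hgp hg1 hs (hPp.map H.subtype) ⟨x, hxP, rfl⟩
    ⟨_, hPn.conj_mem x hxP ⟨h, hh⟩, rfl⟩ hgp hg1 ?_
  rw [conj_pow, hgp]
  group

/-- an element commuting with `g` with a nonzero fixed vector is trivial -/
theorem eq_one_of_commute {g : W ≃ₗ[F] W} (hs : ∀ U : Submodule F W, (∀ w ∈ U, g w ∈ U) → U = ⊥ ∨ U = ⊤)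
    {y : W ≃ₗ[F] W} (hy : y * g = g * y) {w : W} (hw : w ≠ 0) (hyw : y w = w) : y = 1 := by
  have h1 : LinearMap.ker ((y : W →ₗ[F] W) - 1) = ⊤ := by
    refine (hs _ ?_).resolve_left ?_
    · intro u hu
      rw [LinearMap.mem_ker, LinearMap.sub_apply, sub_eq_zero] at hu ⊢
      show y (g u) = g u
      have h2 : y (g u) = g (y u) := LinearEquiv.congr_fun hy u
      rw [h2]
      exact congrArg g hu
    · intro h
      apply hw
      have h2 : w ∈ LinearMap.ker ((y : W →ₗ[F] W) - 1) := by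
        rw [LinearMap.mem_ker, LinearMap.sub_apply, sub_eq_zero]
        exact hyw
      rw [h] at h2
      exact (Submodule.mem_bot F).1 h2
  apply LinearEquiv.ext
  intro u
  have h2 : u ∈ LinearMap.ker ((y : W →ₗ[F] W) - 1) := by rw [h1]; trivial
  rw [LinearMap.mem_ker, LinearMap.sub_apply, sub_eq_zero] at h2
  exact h2

/-- **An involution `y` with `⟨g, y⟩` solvable and a nonzero fixed vector inverts `g`.** -/
theorem inverts (hpF : (p : F) ≠ 0) {g : W ≃ₗ[F] W} (hgp : g ^ p = 1) (hg1 : g ≠ 1)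
    (hs : ∀ U : Submodule F W, (∀ w ∈ U, g w ∈ U) → U = ⊥ ∨ U = ⊤)
    (hex : (2 : F) = 0 ∨ ¬ (p = Module.finrank F W + 1 ∧ ∃ m : ℕ, Module.finrank F W = 2 ^ m))
    {y : W ≃ₗ[F] W} (hy2 : y * y = 1) (hy1 : y ≠ 1) {w : W} (hw : w ≠ 0) (hyw : y w = w)
    (h : Group.IsSolvable ↥(closure ({g, y} : Set (W ≃ₗ[F] W)))) : y * g * y⁻¹ = g⁻¹ := by
  have h1 := normalises hpF hgp hg1 hs h (Subgroup.subset_closure (Set.mem_insert _ _)) hex y
    (Subgroup.subset_closure (Set.mem_insert_of_mem _ rfl))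
  obtain ⟨k, hk⟩ := h1
  have hk' : y * g * y⁻¹ = g ^ k := hk.symm
  have ho : orderOf g = p := orderOf_eq_prime hgp hg1
  -- `k² = 1`
  have h2 : g = g ^ (k * k) := by
    have h3 : y * (y * g * y⁻¹) * y⁻¹ = g := by
      calc y * (y * g * y⁻¹) * y⁻¹ = (y * y) * g * (y * y)⁻¹ := by group
        _ = g := by rw [hy2, one_mul, inv_one, mul_one]
    rw [hk', ← conj_zpow, hk', ← zpow_mul] at h3
    exact h3.symm
  have h3 : (p : ℤ) ∣ (k - 1) * (k + 1) := by
    have h4 : g ^ ((k - 1) * (k + 1)) = 1 := by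
      have e : (k - 1) * (k + 1) = k * k - 1 := by ring
      rw [e, zpow_sub, zpow_one, ← h2, mul_inv_cancel]
    rw [← ho]
    exact orderOf_dvd_iff_zpow_eq_one.2 h4
  rcases (Nat.prime_iff_prime_int.1 hp.out).dvd_or_dvd h3 with h4 | h4
  · exfalso
    apply hy1
    refine eq_one_of_commute hs ?_ hw hyw
    have h5 : g ^ k = g := by
      have h6 : g ^ (k - 1) = 1 := by
        rw [← orderOf_dvd_iff_zpow_eq_one, ho]
        exact h4
      calc g ^ k = g ^ (k - 1) * g := by rw [← zpow_add_one]; congr 1; ring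
        _ = g := by rw [h6, one_mul]
    rw [h5] at hk'
    exact mul_inv_eq_iff_eq_mul.1 hk'
  · have h6 : g ^ (k + 1) = 1 := by
      rw [← orderOf_dvd_iff_zpow_eq_one, ho]
      exact h4
    rw [hk']
    rw [zpow_add_one] at h6
    exact eq_inv_of_mul_eq_one_left h6

/-- **Two involutions with solvable `⟨g, y⟩` and a common nonzero fixed vector are equal.** -/
theorem eq_of_solvable (hpF : (p : F) ≠ 0) {g : W ≃ₗ[F] W} (hgp : g ^ p = 1) (hg1 : g ≠ 1)
    (hs : ∀ U : Submodule F W, (∀ w ∈ U, g w ∈ U) → U = ⊥ ∨ U = ⊤)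
    (hex : (2 : F) = 0 ∨ ¬ (p = Module.finrank F W + 1 ∧ ∃ m : ℕ, Module.finrank F W = 2 ^ m))
    {y z : W ≃ₗ[F] W} (hy2 : y * y = 1) (hy1 : y ≠ 1) (hz2 : z * z = 1) (hz1 : z ≠ 1) {w : W} (hw : w ≠ 0)
    (hyw : y w = w) (hzw : z w = w)
    (hy : Group.IsSolvable ↥(closure ({g, y} : Set (W ≃ₗ[F] W))))
    (hz : Group.IsSolvable ↥(closure ({g, z} : Set (W ≃ₗ[F] W)))) : y = z := by
  have h1 := inverts hpF hgp hg1 hs hex hy2 hy1 hw hyw hy
  have h2 := inverts hpF hgp hg1 hs hex hz2 hz1 hw hzw hz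
  have hyi : y⁻¹ = y := inv_eq_of_mul_eq_one_left hy2
  have hzi : z⁻¹ = z := inv_eq_of_mul_eq_one_left hz2
  have h3 : (y⁻¹ * z) * g = g * (y⁻¹ * z) := by
    have h4 : z * g = g⁻¹ * z := mul_inv_eq_iff_eq_mul.1 h2
    have h5 : y⁻¹ * g⁻¹ * y = g := by
      rw [← h1]; group
    calc (y⁻¹ * z) * g = y⁻¹ * (z * g) := by group
      _ = (y⁻¹ * g⁻¹ * y) * (y⁻¹ * z) := by rw [h4]; group
      _ = g * (y⁻¹ * z) := by rw [h5]
  have h4 : y⁻¹ * z = 1 := by
    refine eq_one_of_commute hs h3 hw ?_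
    show y⁻¹ (z w) = w
    rw [hzw, hyi, hyw]
  exact inv_mul_eq_one.1 h4

end Key

end Cfsg.Agent.H803.Inv
end

-- part: H348/Inv/J3
section
set_option linter.all false
open scoped Cfsg.Agent.FastGrp

/-!
# The Janko group J₃: elements of order 5, 17, 19 and involutions (S3830, helper348)

Words in the model of `3·J₃`.
-/

set_option autoImplicit false
set_option maxRecDepth 100000

namespace Cfsg.Agent.H348.Inv.J3

open Subgroup Cfsg Cfsg.Spor Cfsg.Agent.J3.Core Cfsg.Agent.J3.Tab Cfsg.Agent.J3.Mono Cfsg.Agent.J3.Elts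
open Cfsg.Agent.KFacts.J3W Cfsg.Agent.J3.Simple Cfsg.Agent.J3.Nineteen Cfsg.Agent.Lib.BitSet

/-- the certificate: `v` an involution, `u ^ m = 1`, `(u v) ^ k = 1`, `u ≠ 1` (column `i`) -/
def triT (u v : List ℕ) (m k i : ℕ) : Bool :=
  and (and (and (okW u) (okW v)) (and (beqL (cols (compT (evT v) (evT v))) (cols (tS 0)))
    (and (beqL (cols (powT (evT u) m)) (cols (tS 0))) (beqL (cols (powT (compT (evT u) (evT v)) k)) (cols (tS 0))))))
    (and (and (Nat.beq (Nat.gcd m 2) 1) (Nat.beq (Nat.gcd 2 k) 1)) (and (Nat.beq (Nat.gcd m k) 1)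
      (and (Nat.beq (Nat.gcd m 3) 1) (and (Nat.blt i 9)
        (not (Nat.beq ((cols (evT u)).getD i 0) ((cols (tS 0)).getD i 0)))))))

section

variable {F : Type*} [Field F] {ω : F}

theorem tri [Fintype F] (hF : Fintype.card F = 4) (H : Good ω) (G : Gens F ω) {u v : List ℕ} {m k : ℕ}
    {z : F9} (h : triT u v m k (idx z) = true) :
    (QuotientGroup.mk (ev G u) : Cfsg.Spor.J3 F ω) ^ m = 1 ∧ (QuotientGroup.mk (ev G u) : Cfsg.Spor.J3 F ω) ≠ 1 ∧
      ¬ SI (QuotientGroup.mk (ev G u) : Cfsg.Spor.J3 F ω) := by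
  unfold triT at h
  simp only [Bool.and_eq_true] at h
  obtain ⟨⟨⟨h1, h2⟩, h3, h4, h5⟩, ⟨h6, h7⟩, h8, h9, h10, h11⟩ := h
  have ru := rep_ev G H u h1
  have rv := rep_ev G H v h2
  have e1 : ev G v * ev G v = 1 := RepG.ext (rv.mul rv) (repG_one H) (beqL_eq h3)
  have e2 : ev G u ^ m = 1 := RepG.ext (ru.pow H m) (repG_one H) (beqL_eq h4)
  have e3 : (ev G u * ev G v) ^ k = 1 := RepG.ext ((ru.mul rv).pow H k) (repG_one H) (beqL_eq h5)
  have e4 : ev G u ≠ 1 := by
    intro he
    rw [he] at ru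
    have h12 := RepG.cols_eq H ru (repG_one H) z
    rw [h12, Nat.beq_refl] at h11
    exact absurd h11 (by decide)
  set f : threeJ3 F ω →* Cfsg.Spor.J3 F ω := QuotientGroup.mk' (Subgroup.center (threeJ3 F ω)) with hf
  have e5 : f (ev G u) ≠ 1 := by
    intro he
    have hc : ev G u ∈ center (threeJ3 F ω) := (QuotientGroup.eq_one_iff _).1 he
    apply e4
    have h12 : (ev G u) ^ 3 = 1 := by
      have h13 := pow_card_eq_one' (x := (⟨ev G u, hc⟩ : center (threeJ3 F ω)))
      rw [card_center hF H] at h13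
      exact congrArg Subtype.val h13
    rw [← orderOf_eq_one_iff, ← Nat.dvd_one, ← Nat.eq_of_beq_eq_true h9]
    exact Nat.dvd_gcd (orderOf_dvd_of_pow_eq_one e2) (orderOf_dvd_of_pow_eq_one h12)
  have e6 : f (ev G u) ^ m = 1 := by rw [← map_pow, e2, map_one]
  refine ⟨e6, e5, ?_⟩
  exact not_si_triangle (x := f (ev G u)) (y := f (ev G v)) (by rw [← map_mul, e1, map_one]) e5 e6
    (by rw [← map_mul, ← map_pow, e3, map_one]) (Nat.eq_of_beq_eq_true h6) (Nat.eq_of_beq_eq_true h7)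
    (Nat.eq_of_beq_eq_true h8)

theorem row [Fintype F] (hF : Fintype.card F = 4) (H : Good ω) (G : Gens F ω) {u v : List ℕ} {p k : ℕ}
    (hp : p.Prime) (hp2 : ¬ p ^ 2 ∣ 50232960) {z : F9} (h : triT u v p k (idx z) = true) :
    InRow p (Cfsg.Spor.J3 F ω) := by
  have hfin : Finite (Cfsg.Spor.J3 F ω) := Nat.finite_of_card_ne_zero (by rw [card_J3 hF H]; norm_num)
  have : Fact p.Prime := ⟨hp⟩
  obtain ⟨h1, h2, h3⟩ := tri hF H G h
  exact inRow_of_not_sq hp (by rwa [card_J3 hF H]) (orderOf_eq_prime h1 h2) h3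

theorem cert5 : triT [4, 29] [29] 5 3 (idx ((1, 0) : F9)) = true := by decide +kernel

theorem cert17 : triT [10, 29] [29] 17 9 (idx ((1, 0) : F9)) = true := by decide +kernel

theorem cert19 : triT [27, 29, 4, 29, 12, 29] [13, 29, 17] 19 9 (idx ((1, 0) : F9)) = true := by decide +kernel

theorem inRow_model [Fintype F] (hF : Fintype.card F = 4) (H : Good ω) (G : Gens F ω) {p : ℕ} (hp : p.Prime)
    (hp5 : 5 ≤ p) : InRow p (Cfsg.Spor.J3 F ω) := by
  intro x hx
  have h1 : p ∣ (List.map (fun q : ℕ × ℕ => q.1 ^ q.2) [(2, 7), (3, 5), (5, 1), (17, 1), (19, 1)]).prod := by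
    have h2 : (List.map (fun q : ℕ × ℕ => q.1 ^ q.2) [(2, 7), (3, 5), (5, 1), (17, 1), (19, 1)]).prod = 50232960 := by
      norm_num
    rw [h2, ← card_J3 hF H, ← hx]
    exact orderOf_dvd_natCard x
  have h3 := PermW.prime_mem hp _ (by
    intro q hq
    simp only [List.mem_cons, List.not_mem_nil, or_false] at hq
    rcases hq with rfl | rfl | rfl | rfl | rfl <;> norm_num) h1
  simp only [List.map_cons, List.map_nil, List.mem_cons, List.not_mem_nil, or_false] at h3
  rcases h3 with rfl | rfl | rfl | rfl | rfl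
  · omega
  · omega
  · exact row hF H G hp (by norm_num) cert5 x hx
  · exact row hF H G hp (by norm_num) cert17 x hx
  · exact row hF H G hp (by norm_num) cert19 x hx

end

/-- **J₃** -/
theorem inRow {K : Type*} [Group K] (h : Cfsg.Spor.IsoJ3 K) {p : ℕ} (hp : p.Prime) (hp5 : 5 ≤ p) : InRow p K := by
  obtain ⟨F, _, _, ω, hF, hω, ⟨e⟩⟩ := h
  have H := good_of_card hF hω
  obtain ⟨G⟩ := exists_gens hF H
  exact (inRow_model hF H G hp hp5).congr e

end Cfsg.Agent.H348.Inv.J3
end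

-- part: H587/Inv/Alt
section
prune_inst 0x3570456468e2120000000596312024644e0005b000630401dde10e400a0ffb6308806700f6a01f175b0aa625600b0060010000d9425000000e200200411d00a0802b76c6b37ca10ce7009f80f887180c00000000000000000000000000041004000000000
set_option linter.all false
open scoped Cfsg.Agent.FastGrp

/-!
# S3830, row of the alternating groups

`x` of order `p ≥ 5` is conjugation by a permutation `g`; with `a_i = g^i a` (`a` moved by `g`) and
`y = (a_0 a_1)(a_2 a_3)` the product `g y` induces on the orbit `{a_i}` a cycle of length `p - 2`.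
-/

set_option autoImplicit false
set_option linter.unusedSectionVars false

namespace Cfsg.Agent.H587.InvAlt

open Cfsg Subgroup Cfsg.Agent.H459.Inv Cfsg.Agent.SignalizersComponents.ComponentExists

theorem inner_of_order {n p : ℕ} (hn : 5 ≤ n) (hp : p.Prime) (h5 : 5 ≤ p)
    (x : MulAut (alternatingGroup (Fin n))) (hx : orderOf x = p) :
    ∃ g : alternatingGroup (Fin n), x = MulAut.conj g := by
  have h1 : (QuotientGroup.mk x : Cfsg.Out (alternatingGroup (Fin n))) = 1 := by
    by_contra hne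
    have h2 : orderOf (QuotientGroup.mk x : Cfsg.Out (alternatingGroup (Fin n))) ∣ p := by
      apply orderOf_dvd_of_pow_eq_one
      have h3 : (QuotientGroup.mk x : Cfsg.Out (alternatingGroup (Fin n))) ^ p = QuotientGroup.mk (x ^ p) := rfl
      rw [h3, ← hx, pow_orderOf_eq_one]
      rfl
    have h3 : orderOf (QuotientGroup.mk x : Cfsg.Out (alternatingGroup (Fin n))) = p := by
      rcases (Nat.dvd_prime hp).1 h2 with h | h
      · exact absurd (orderOf_eq_one_iff.1 h) hne
      · exact h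
    have h4 : p ∣ Nat.card (Cfsg.Out (alternatingGroup (Fin n))) := by
      rw [← h3]
      exact _root_.orderOf_dvd_natCard _
    have := H171.AltGoal.prime_out hn hp h4
    omega
  obtain ⟨g, hg⟩ := (QuotientGroup.eq_one_iff x).1 h1
  exact ⟨g, hg.symm⟩

section

variable {α : Type*} [DecidableEq α]

/-- the points of the orbit -/
theorem pow_ne {p : ℕ} (hp : p.Prime) {σ : Equiv.Perm α} (h : σ ^ p = 1) {a : α} (ha : σ a ≠ a) {i j : ℕ}
    (hij : i < j) (hj : j < p) : (σ ^ i) a ≠ (σ ^ j) a := by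
  intro e
  have h1 : (σ ^ (j - i)) a = a := by
    apply (σ ^ i).injective
    rw [← Equiv.Perm.mul_apply, ← pow_add, show i + (j - i) = j by omega, e]
  have hc : Nat.Coprime (j - i) p := by
    refine (Nat.coprime_comm.1 ((Nat.Prime.coprime_iff_not_dvd hp).2 ?_))
    intro hd
    have := Nat.le_of_dvd (by omega) hd
    omega
  have h2 : σ a = a := by
    have h3 : (σ ^ Nat.gcd (j - i) p) a = a := by
      have h4 : Function.IsPeriodicPt (σ : α → α) (j - i) a := by
        show (σ : α → α)^[j - i] a = a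
        rw [← Equiv.Perm.coe_pow]
        exact h1
      have h5 : Function.IsPeriodicPt (σ : α → α) p a := by
        show (σ : α → α)^[p] a = a
        rw [← Equiv.Perm.coe_pow, h]
        rfl
      have h6 := h4.gcd h5
      have h7 : (σ : α → α)^[Nat.gcd (j - i) p] a = a := h6
      rw [← Equiv.Perm.coe_pow] at h7
      exact h7
    rw [hc, pow_one] at h3
    exact h3
  exact ha h2

/-- the double transposition -/
def dt (σ : Equiv.Perm α) (a : α) : Equiv.Perm α :=
  Equiv.swap a (σ a) * Equiv.swap ((σ ^ 2) a) ((σ ^ 3) a)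

variable {p : ℕ} {σ : Equiv.Perm α} {a : α}

theorem dt_zero (hp : p.Prime) (h5 : 5 ≤ p) (h : σ ^ p = 1) (ha : σ a ≠ a) : dt σ a a = σ a := by
  have h02 := pow_ne hp h ha (i := 0) (j := 2) (by norm_num) (by omega)
  have h03 := pow_ne hp h ha (i := 0) (j := 3) (by norm_num) (by omega)
  rw [pow_zero, Equiv.Perm.one_apply] at h02 h03
  rw [dt, Equiv.Perm.mul_apply, Equiv.swap_apply_of_ne_of_ne h02 h03, Equiv.swap_apply_left]

theorem dt_one (hp : p.Prime) (h5 : 5 ≤ p) (h : σ ^ p = 1) (ha : σ a ≠ a) : dt σ a (σ a) = a := by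
  have h02 := pow_ne hp h ha (i := 1) (j := 2) (by norm_num) (by omega)
  have h03 := pow_ne hp h ha (i := 1) (j := 3) (by norm_num) (by omega)
  rw [pow_one] at h02 h03
  rw [dt, Equiv.Perm.mul_apply, Equiv.swap_apply_of_ne_of_ne h02 h03, Equiv.swap_apply_right]

theorem dt_two (hp : p.Prime) (h5 : 5 ≤ p) (h : σ ^ p = 1) (ha : σ a ≠ a) : dt σ a ((σ ^ 2) a) = (σ ^ 3) a := by
  have h02 := pow_ne hp h ha (i := 0) (j := 3) (by norm_num) (by omega)
  have h03 := pow_ne hp h ha (i := 1) (j := 3) (by norm_num) (by omega)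
  rw [pow_zero, Equiv.Perm.one_apply] at h02
  rw [pow_one] at h03
  rw [dt, Equiv.Perm.mul_apply, Equiv.swap_apply_left, Equiv.swap_apply_of_ne_of_ne h02.symm h03.symm]

theorem dt_three (hp : p.Prime) (h5 : 5 ≤ p) (h : σ ^ p = 1) (ha : σ a ≠ a) : dt σ a ((σ ^ 3) a) = (σ ^ 2) a := by
  have h02 := pow_ne hp h ha (i := 0) (j := 2) (by norm_num) (by omega)
  have h03 := pow_ne hp h ha (i := 1) (j := 2) (by norm_num) (by omega)
  rw [pow_zero, Equiv.Perm.one_apply] at h02
  rw [pow_one] at h03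
  rw [dt, Equiv.Perm.mul_apply, Equiv.swap_apply_right, Equiv.swap_apply_of_ne_of_ne h02.symm h03.symm]

theorem dt_ge (hp : p.Prime) (h : σ ^ p = 1) (ha : σ a ≠ a) {i : ℕ} (h4 : 4 ≤ i) (hi : i < p) :
    dt σ a ((σ ^ i) a) = (σ ^ i) a := by
  have h0 := pow_ne hp h ha (i := 0) (j := i) (by omega) hi
  have h1 := pow_ne hp h ha (i := 1) (j := i) (by omega) hi
  have h2 := pow_ne hp h ha (i := 2) (j := i) (by omega) hi
  have h3 := pow_ne hp h ha (i := 3) (j := i) (by omega) hi
  rw [pow_zero, Equiv.Perm.one_apply] at h0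
  rw [pow_one] at h1
  rw [dt, Equiv.Perm.mul_apply, Equiv.swap_apply_of_ne_of_ne h2.symm h3.symm,
    Equiv.swap_apply_of_ne_of_ne h0.symm h1.symm]

theorem dt_mul_self (hp : p.Prime) (h5 : 5 ≤ p) (h : σ ^ p = 1) (ha : σ a ≠ a) : dt σ a * dt σ a = 1 := by
  have hd : Commute (Equiv.swap a (σ a)) (Equiv.swap ((σ ^ 2) a) ((σ ^ 3) a)) := by
    apply Equiv.Perm.Disjoint.commute
    intro x
    have h02 := pow_ne hp h ha (i := 0) (j := 2) (by norm_num) (by omega)
    have h03 := pow_ne hp h ha (i := 0) (j := 3) (by norm_num) (by omega)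
    have h12 := pow_ne hp h ha (i := 1) (j := 2) (by norm_num) (by omega)
    have h13 := pow_ne hp h ha (i := 1) (j := 3) (by norm_num) (by omega)
    rw [pow_zero, Equiv.Perm.one_apply] at h02 h03
    rw [pow_one] at h12 h13
    by_cases hx : x = a
    · right
      rw [hx]
      exact Equiv.swap_apply_of_ne_of_ne h02 h03
    · by_cases hx1 : x = σ a
      · right
        rw [hx1]
        exact Equiv.swap_apply_of_ne_of_ne h12 h13
      · left
        exact Equiv.swap_apply_of_ne_of_ne hx hx1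
  have h1 := hd.mul_pow 2
  rw [← pow_two, dt, h1, pow_two, pow_two, Equiv.swap_mul_self, Equiv.swap_mul_self, one_mul]

/-- the product -/
theorem prod_pow (hp : p.Prime) (h5 : 5 ≤ p) (h : σ ^ p = 1) (ha : σ a ≠ a) {k : ℕ} (hk : 1 ≤ k) (hkp : k + 3 ≤ p) :
    ((σ * dt σ a) ^ k) ((σ ^ 2) a) = (σ ^ (k + 3)) a := by
  induction k with
  | zero => omega
  | succ k ih =>
    rw [pow_succ', Equiv.Perm.mul_apply]
    by_cases hk0 : k = 0
    · subst hk0
      rw [pow_zero, Equiv.Perm.one_apply, Equiv.Perm.mul_apply, dt_two hp h5 h ha, ← Equiv.Perm.mul_apply, ← pow_succ']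
    · rw [ih (by omega) (by omega), Equiv.Perm.mul_apply, dt_ge hp h ha (by omega) (by omega),
        ← Equiv.Perm.mul_apply, ← pow_succ']

theorem prod_fix (hp : p.Prime) (h5 : 5 ≤ p) (h : σ ^ p = 1) (ha : σ a ≠ a) {i : ℕ} (hi : i < p) :
    ((σ * dt σ a) ^ (p - 2)) ((σ ^ i) a) = (σ ^ i) a := by
  set τ := σ * dt σ a with hτ
  have h0 : (τ ^ (p - 3)) ((σ ^ 2) a) = a := by
    rw [hτ, prod_pow hp h5 h ha (by omega) (by omega), show p - 3 + 3 = p by omega, h, Equiv.Perm.one_apply]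
  have hτ0 : τ a = (σ ^ 2) a := by
    rw [hτ, Equiv.Perm.mul_apply, dt_zero hp h5 h ha, pow_two, Equiv.Perm.mul_apply]
  have h2 : (τ ^ (p - 2)) ((σ ^ 2) a) = (σ ^ 2) a := by
    rw [show p - 2 = (p - 3) + 1 by omega, pow_succ', Equiv.Perm.mul_apply, h0, hτ0]
  have hgen : ∀ k : ℕ, (τ ^ (p - 2)) ((τ ^ k) ((σ ^ 2) a)) = (τ ^ k) ((σ ^ 2) a) := by
    intro k
    rw [← Equiv.Perm.mul_apply, ← pow_add, add_comm, pow_add, Equiv.Perm.mul_apply, h2]
  have hfix : ∀ b : α, τ b = b → (τ ^ (p - 2)) b = b := by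
    intro b hb
    exact Equiv.Perm.pow_apply_eq_self_of_apply_eq_self hb _
  by_cases hi0 : i = 0
  · subst hi0
    rw [pow_zero, Equiv.Perm.one_apply]
    have := hgen (p - 3)
    rwa [h0] at this
  by_cases hi1 : i = 1
  · subst hi1
    rw [pow_one]
    apply hfix
    rw [hτ, Equiv.Perm.mul_apply, dt_one hp h5 h ha]
  by_cases hi2 : i = 2
  · subst hi2
    exact h2
  by_cases hi3 : i = 3
  · subst hi3
    apply hfix
    rw [hτ, Equiv.Perm.mul_apply, dt_three hp h5 h ha, ← Equiv.Perm.mul_apply, ← pow_succ']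
  have := hgen (i - 3)
  rwa [hτ, prod_pow hp h5 h ha (by omega) (by omega), show i - 3 + 3 = i by omega] at this

/-- the double transposition preserves the orbit -/
theorem dt_mem (hp : p.Prime) (h5 : 5 ≤ p) (h : σ ^ p = 1) (ha : σ a ≠ a) {b : α} (hb : ∃ i < p, b = (σ ^ i) a) :
    ∃ i < p, dt σ a b = (σ ^ i) a := by
  obtain ⟨i, hi, rfl⟩ := hb
  by_cases hi0 : i = 0
  · subst hi0
    exact ⟨1, by omega, by rw [pow_zero, Equiv.Perm.one_apply, dt_zero hp h5 h ha, pow_one]⟩
  by_cases hi1 : i = 1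
  · subst hi1
    exact ⟨0, by omega, by rw [pow_one, dt_one hp h5 h ha, pow_zero, Equiv.Perm.one_apply]⟩
  by_cases hi2 : i = 2
  · subst hi2
    exact ⟨3, by omega, dt_two hp h5 h ha⟩
  by_cases hi3 : i = 3
  · subst hi3
    exact ⟨2, by omega, dt_three hp h5 h ha⟩
  exact ⟨i, hi, dt_ge hp h ha (by omega) hi⟩

theorem sigma_mem (hp : p.Prime) (h : σ ^ p = 1) {b : α} (hb : ∃ i < p, b = (σ ^ i) a) :
    ∃ i < p, σ b = (σ ^ i) a := by
  obtain ⟨i, hi, rfl⟩ := hb
  by_cases hi' : i + 1 < p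
  · exact ⟨i + 1, hi', by rw [← Equiv.Perm.mul_apply, ← pow_succ']⟩
  · refine ⟨0, hp.pos, ?_⟩
    rw [← Equiv.Perm.mul_apply, ← pow_succ', show i + 1 = p by omega, h, pow_zero]

end

theorem not_solvable {n p : ℕ} (hp : p.Prime) (h5 : 5 ≤ p) (g : alternatingGroup (Fin n)) (hg : orderOf g = p) :
    ∃ y : alternatingGroup (Fin n), orderOf y = 2 ∧ ¬ (Group.IsSolvable ↥(_root_.Subgroup.closure ({g, y} : Set _)) :) := by
  have hf : Fact (Nat.Prime 2) := ⟨Nat.prime_two⟩
  have hfp : Fact p.Prime := ⟨hp⟩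
  set σ : Equiv.Perm (Fin n) := (g : Equiv.Perm (Fin n)) with hσ
  have h : σ ^ p = 1 := by
    have h1 : g ^ p = 1 := by rw [← hg, pow_orderOf_eq_one]
    exact congrArg Subtype.val h1
  obtain ⟨a, ha⟩ : ∃ a, σ a ≠ a := by
    by_contra hcon
    push Not at hcon
    have h1 : σ = 1 := Equiv.ext hcon
    have h2 : g = 1 := Subtype.ext h1
    rw [h2, orderOf_one] at hg
    omega
  have hsign : dt σ a ∈ alternatingGroup (Fin n) := by
    rw [Equiv.Perm.mem_alternatingGroup, dt, Equiv.Perm.sign_mul, Equiv.Perm.sign_swap (Ne.symm ha),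
      Equiv.Perm.sign_swap (pow_ne hp h ha (i := 2) (j := 3) (by norm_num) (by omega))]
    decide
  let y : alternatingGroup (Fin n) := ⟨dt σ a, hsign⟩
  have hy2 : orderOf y = 2 := by
    apply orderOf_eq_prime
    · rw [pow_two]
      exact Subtype.ext (dt_mul_self hp h5 h ha)
    · intro h1
      have h2 : dt σ a a = a := by
        have h3 : dt σ a = 1 := congrArg Subtype.val h1
        rw [h3, Equiv.Perm.one_apply]
      rw [dt_zero hp h5 h ha] at h2
      exact ha h2
  refine ⟨y, hy2, fun hs => ?_⟩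
  set H := _root_.Subgroup.closure ({g, y} : Set (alternatingGroup (Fin n))) with hH
  have hgH : g ∈ H := Subgroup.subset_closure (Set.mem_insert _ _)
  have hyH : y ∈ H := Subgroup.subset_closure (Set.mem_insert_of_mem _ rfl)
  -- the orbit of `a`
  have horb : ∀ k ∈ H, ∀ b : Fin n, (∃ i < p, b = (σ ^ i) a) →
      ∃ i < p, (k : Equiv.Perm (Fin n)) b = (σ ^ i) a := by
    intro k hk
    induction hk using Subgroup.closure_induction with
    | mem z hz =>
      rcases hz with rfl | rfl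
      · exact fun b hb => sigma_mem hp h hb
      · exact fun b hb => dt_mem hp h5 h ha hb
    | one => exact fun b hb => hb
    | mul u v _ _ hu hv => exact fun b hb => hu _ (hv b hb)
    | inv u _ hu =>
      intro b hb
      -- a power of `u`
      have h1 : ∀ m : ℕ, ∃ i < p, ((u : Equiv.Perm (Fin n)) ^ m) b = (σ ^ i) a := by
        intro m
        induction m with
        | zero => simpa only [_root_.pow_zero, _root_.Equiv.Perm.coe_one, _root_.id_eq] using hb
        | succ m ih =>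
          rw [pow_succ', Equiv.Perm.mul_apply]
          exact hu _ ih
      have h2 := h1 (orderOf (u : Equiv.Perm (Fin n)) - 1)
      have h3 : (u : Equiv.Perm (Fin n)) ^ (orderOf (u : Equiv.Perm (Fin n)) - 1) = (u : Equiv.Perm (Fin n))⁻¹ := by
        rw [eq_inv_iff_mul_eq_one, ← pow_succ, Nat.sub_add_cancel (orderOf_pos _), pow_orderOf_eq_one]
      rw [h3] at h2
      exact h2
  have hpt : ∀ ω : MulAction.orbit H a, ∃ i < p, (ω : Fin n) = (σ ^ i) a := by
    rintro ⟨_, ⟨k, rfl⟩⟩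
    exact horb k k.2 a ⟨0, hp.pos, rfl⟩
  let φ : H →* Equiv.Perm (MulAction.orbit H a) := MulAction.toPermHom H (MulAction.orbit H a)
  have hφ : ∀ (k : H) (ω : MulAction.orbit H a), ((φ k ω : MulAction.orbit H a) : Fin n) =
      ((k : alternatingGroup (Fin n)) : Equiv.Perm (Fin n)) ω := fun k ω => rfl
  let ω₀ : MulAction.orbit H a := ⟨a, MulAction.mem_orbit_self a⟩
  let c : Equiv.Perm (MulAction.orbit H a) := φ ⟨g, hgH⟩
  let d : Equiv.Perm (MulAction.orbit H a) := φ ⟨y, hyH⟩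
  have hc : orderOf c = p := by
    apply orderOf_eq_prime
    · show φ ⟨g, hgH⟩ ^ p = 1
      rw [← map_pow]
      have h1 : (⟨g, hgH⟩ : H) ^ p = 1 := Subtype.ext (by
        show g ^ p = 1
        rw [← hg, pow_orderOf_eq_one])
      rw [h1, map_one]
    · intro h1
      have h2 : c ω₀ = ω₀ := by rw [h1]; rfl
      exact ha (congrArg Subtype.val h2)
  have hd1 : d ≠ 1 := by
    intro h1
    have h2 : d ω₀ = ω₀ := by rw [h1]; rfl
    have h3 : dt σ a a = a := congrArg Subtype.val h2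
    rw [dt_zero hp h5 h ha] at h3
    exact ha h3
  have hd : orderOf d = 2 := by
    apply orderOf_eq_prime
    · show φ ⟨y, hyH⟩ ^ 2 = 1
      rw [← map_pow]
      have h1 : (⟨y, hyH⟩ : H) ^ 2 = 1 := Subtype.ext (by
        show y ^ 2 = 1
        rw [← hy2, pow_orderOf_eq_one])
      rw [h1, map_one]
    · exact hd1
  have hcd : (c * d) ^ (p - 2) = 1 := by
    have h1 : c * d = φ (⟨g, hgH⟩ * ⟨y, hyH⟩) := (map_mul φ _ _).symm
    rw [h1, ← map_pow]
    ext ω
    obtain ⟨i, hi, hω⟩ := hpt ω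
    rw [hφ]
    have h2 : (((⟨g, hgH⟩ * ⟨y, hyH⟩ : H) ^ (p - 2) : H) : alternatingGroup (Fin n)) = (g * y) ^ (p - 2) := rfl
    have h3 : (((g * y) ^ (p - 2) : alternatingGroup (Fin n)) : Equiv.Perm (Fin n)) = (σ * dt σ a) ^ (p - 2) := rfl
    rw [h2, h3, hω, prod_fix hp h5 h ha hi, ← hω]
    rfl
  have hdv : orderOf (c * d) ∣ p - 2 := orderOf_dvd_of_pow_eq_one hcd
  have hodd : Odd p := hp.odd_of_ne_two (by omega)
  have hodd2 : Odd (p - 2) := by
    obtain ⟨m, hm⟩ := hodd
    exact ⟨m - 1, by (clear * - h5 hsign hgH hyH hm; omega)⟩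
  have hcop : Nat.Coprime (p - 2) p := by
    rw [Nat.coprime_comm, Nat.Prime.coprime_iff_not_dvd hp]
    intro h1
    have := Nat.le_of_dvd (by omega) h1
    omega
  have hns := not_solvable_of_triangle (a := c) (b := d) (by
      rw [hc, hd]
      exact Nat.coprime_two_right.2 hodd) (by
      rw [hc]
      exact Nat.Coprime.coprime_dvd_left hdv hcop) (by
      rw [hd]
      exact Nat.coprime_two_right.2 (Odd.of_dvd_nat hodd2 hdv)) hd1
  apply hns
  refine isSolvable_of_le ?_ (isSolvable_map (H := (⊤ : Subgroup H)) ?_ φ)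
  · rw [closure_le]
    rintro z (rfl | rfl)
    · exact ⟨⟨g, hgH⟩, trivial, rfl⟩
    · exact ⟨⟨y, hyH⟩, trivial, rfl⟩
  · exact Group.isSolvable_of_surjective (f := (Subgroup.topEquiv (G := H)).symm.toMonoidHom)
      (Subgroup.topEquiv (G := H)).symm.surjective

theorem irow_alt {K : Type*} [Group K] {n : ℕ} (hn : 5 ≤ n) (e : K ≃* alternatingGroup (Fin n)) {p : ℕ}
    [hp : Fact p.Prime] (h5 : 5 ≤ p) : IRow p K := by
  refine IRow.congr e ?_
  intro x hx
  obtain ⟨g, rfl⟩ := inner_of_order hn hp.out h5 x hx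
  refine ns_inner_iff.2 (not_solvable hp.out h5 g ?_)
  rw [← hx]
  have hc := H171.AltGoal.center_alt hn
  refine (orderOf_injective (MulAut.conj : alternatingGroup (Fin n) →* _) ?_ g).symm
  rw [injective_iff_map_eq_one]
  intro u hu
  have hu' : u ∈ center (alternatingGroup (Fin n)) := by
    rw [mem_center_iff]
    intro k
    have h1 : MulAut.conj u k = k := by rw [hu]; rfl
    rw [MulAut.conj_apply] at h1
    calc k * u = u * k * u⁻¹ * u := by rw [h1]
      _ = u * k := by group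
  rwa [hc, mem_bot] at hu'

end Cfsg.Agent.H587.InvAlt

private theorem dce_2eb4be9b3f65 : _root_.True := by
  try have : _root_.True := by simp only [_root_.Cfsg.Agent.H587.InvAlt.dt.eq_1]
  exact _root_.True.intro
end

-- part: H348/Inv/Ru
section
set_option linter.all false
open scoped Cfsg.Agent.FastGrp

/-!
# The Rudvalis group: elements of order 5, 7, 13, 29 and involutions (S3830, helper348)
-/

set_option autoImplicit false
set_option maxRecDepth 100000
set_option exponentiation.threshold 5000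

namespace Cfsg.Agent.H348.Inv.Ru

open Cfsg.Agent.SporadicB Cfsg.Agent.SporadicB.RuOrder Cfsg.Agent.SporRec.TCUpperCert Cfsg.Agent.SporRec.R3.Kernel
  Cfsg.Agent.RuD.Letters
open Cfsg.Agent.H978.RadRu Cfsg.Agent.H587.NR

section fast
open Cfsg.Agent.Lib.BitNet

private def trs (x : ℕ) (l : List (ℕ × ℕ)) : ℕ :=
  l.foldr (fun p y => dsw (Nat.pow 2 p.2 - Nat.pow 2 p.1) (trMask 16 p.1 p.2) y) x

private theorem testBit_trs (x : ℕ) : ∀ l : List (ℕ × ℕ), (∀ p ∈ l, p.1 < p.2 ∧ p.2 < 16) → ∀ I < 2 ^ 16, ∃ J < 2 ^ 16,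
    (trs x l).testBit I = x.testBit J ∧ ∀ j, J.testBit j = I.testBit (l.foldr (fun p i => swapIdx p.1 p.2 i) j)
  | [], _, I, hI => ⟨I, hI, rfl, fun _ => rfl⟩
  | p :: l, h, I, hI => by
    obtain ⟨h1, h2⟩ := h p List.mem_cons_self
    obtain ⟨h3, h4⟩ := sw_trMask h1 h2 hI
    obtain ⟨J, h5, h6, h7⟩ := testBit_trs x l (fun q hq => h q (List.mem_cons_of_mem _ hq)) _ h4
    exact ⟨J, h5, (testBit_dsw (trMask_valid h1 h2) _ I).trans h6, fun j => (h7 j).trans (h3 _)⟩

private def swL : List (ℕ × ℕ) :=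
  [(0, 12), (1, 13), (2, 14), (3, 15), (0, 8), (1, 9), (2, 10), (3, 11), (0, 4), (1, 5), (2, 6), (3, 7)]

/-- the table of a network -/
private def tabN (l : List (ℕ × ℕ)) : ℕ := trs (appMr 4096 4 l.reverse (pack (fun r => idxMask 16 r) 4096 4 0)) swL

private theorem tabN_eq {l : List (ℕ × ℕ)} (h : In 4096 l) {c : ℕ} (hc : c < 4096) :
    Nat.mod (Nat.shiftRight (tabN l) (Nat.mul 16 c)) 4096 = app l c := by
  have h0 := h.app_lt hc
  refine Nat.eq_of_testBit_eq fun r => ?_
  show (tabN l >>> (16 * c) % 2 ^ 12).testBit r = _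
  rw [Nat.testBit_mod_two_pow, Nat.testBit_shiftRight]
  rcases Nat.lt_or_ge r 12 with hr | hr
  · obtain ⟨J, h1, h2, h3⟩ := testBit_trs (appMr 4096 4 l.reverse (pack (fun r => idxMask 16 r) 4096 4 0)) swL
      (by decide) (16 * c + r) (by omega)
    have h4 : J = 2 ^ 12 * r + c := Nat.eq_of_testBit_eq fun j => by
      rcases Nat.lt_or_ge j 16 with hj | hj
      · have h5 : ∀ j < 16, swL.foldr (fun p i => swapIdx p.1 p.2 i) j = if j < 12 then j + 4 else j - 12 := by decide
        rw [h3, h5 j hj, Nat.testBit_two_pow_mul_add r (show c < 2 ^ 12 from hc),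
          show 16 * c + r = 2 ^ 4 * c + r from rfl, Nat.testBit_two_pow_mul_add c (show r < 2 ^ 4 by omega)]
        by_cases h6 : j < 12
        · rw [if_pos h6, if_pos h6, if_neg (by omega), Nat.add_sub_cancel]
        · rw [if_neg h6, if_neg h6, if_pos (by omega)]
      · have h6 : 2 ^ 16 ≤ 2 ^ j := Nat.pow_le_pow_right (by decide) hj
        rw [Nat.testBit_lt_two_pow (h1.trans_le h6), Nat.testBit_lt_two_pow (lt_of_lt_of_le (by omega) h6)]
    have h7 := testBit_appMr (k := 4) (l := l.reverse) (fun p hp => h p (List.mem_reverse.1 hp))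
      (pack (fun r => idxMask 16 r) 4096 4 0) (r := r) (by omega) h0
    rw [Cfsg.Agent.Lib.BitNetSimple.app_reverse, appInv_app h.valid, testBit_pack _ 4 0 (by omega) h0, Nat.zero_add,
      testBit_idxMask (by omega), decide_eq_true (show app l c < 2 ^ 16 by omega), Bool.true_and] at h7
    rw [decide_eq_true hr, Bool.true_and, ← h7]
    exact h2.trans (congrArg _ h4)
  · rw [decide_eq_false (by omega), Bool.false_and,
      Nat.testBit_lt_two_pow (h0.trans_le (Nat.pow_le_pow_right (by decide) hr : 2 ^ 12 ≤ 2 ^ r))]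

private noncomputable def nthT (l : List ℕ) : ℕ → ℕ :=
  List.rec (motive := fun _ => ℕ → ℕ) (fun _ => tabN [])
    (fun x _ ih a => Nat.rec (motive := fun _ => ℕ) x (fun b _ => ih b) a) l

private theorem nthT_map : ∀ (l : List (List (ℕ × ℕ))) (a : ℕ), nthT (l.map tabN) a = tabN (nthL l a)
  | [], _ => rfl
  | _ :: _, 0 => rfl
  | _ :: l, a + 1 => nthT_map l a

private theorem in_nthL : ∀ (l : List (List (ℕ × ℕ))), allL (inn 4096) l = true → ∀ a, In 4096 (nthL l a)
  | [], _, _ => fun _ hp => absurd hp List.not_mem_nil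
  | x :: _, h, 0 => inn_sound ((allL_iff _ _).1 h x List.mem_cons_self)
  | _ :: l, h, a + 1 => in_nthL l ((allL_iff _ _).2 fun y hy => (allL_iff _ _).1 h y (List.mem_cons_of_mem _ hy)) a

private theorem in_NL : allL (inn 4096) NL = true := by decide +kernel

private def TL : List ℕ := [
  0xfff0ffe0ffd0ffc0ffb0ffa0ff90ff80ff70ff60ff50ff40ff30ff20ff10ff00fef0fee0fed0fec0feb0fea0fe90fe80fe70fe60fe50fe40fe30fe20fe10fe00fdf0fde0fdd0fdc06860c90053a08b0046805170809080a019f0a670d3005ec09750b0505160f5d0112040a0b3d0106045c010e0e3f00bc097e09f603200f5105970f3e06c60f9d04160a8e028f0aab0f220e2405ed0d6300bf0802068d044b01a207f90fac0fad02ad05650a4a050c02b605a10cb10aba022303110ae500bb034e04af0fbc08e80f250f4701e90eac0e400d730a80008103ea06ef0b1b0ba60df00d97076105f20c29046107630aee045f00fb0cea09d405a6052701550305051808db09f209870c3f00160d5e06fc040105b20ab50a4d0b2104c908770dff0904096e0cd80f0d0d7608010b550be200a406b50aa80b6b0d540e5406e40d59029102eb0fcc060a0ea00e7a090201a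f0c30053c07030b3204c409be0fc00ea90b19042c0b480e360a8403100c5d01bb0f9a0a3808fc0243004f0b0c0ba0028406f20fbe0c4401d9056201be0f0f087c07950d1408d30ccc0621043d011709bb03630486032402330d6405d709520d4409f80d0b0f9b017b05fd0fb704600ee8072d06d30b08093401bd02bb02a303930242099a089f0cc103070a1a0cf705700f3905c60f6c043f056908e00c5a039e06a704a1085b0af4070a070b03440b9e02c40698003f00f407110cf90d9b05f4013004c805860715029c0e5b07810972028008c903810939090101f803300f200d0901770df70d8101c4008406a00c010df5019d00a208c30581038d076505cf03f40ad9009409eb0d8702e507b80a9d01080399080308200bf0008d0c180a170a6402e20b0704080c2409360aa50e4c0c7e0bef077f02be058001940a830bcb07ac041b07fa05a50b2a0b740c7706420c7101ce01460f9805c1026e0f500d0c04220afc007c03fe059b09aa01c70f5b02c80328055908a505470431005f0e8f0d740645062d01d00b35057305000a160e9809f404d205b90914021002280966066a02f60526010903f90d4e0b9a03180d9004340b4c000a09150f5a032708500054077c006a0d120d7a054d0a0502120ae102ef08a80d61027e00fa04050ce4095e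05140cdd054f0bdd07f707f602bc0cca001e03a9089d0ef2055f0172044e011104bd0d940f620a3a00100411064d06bf029e05310ec0078a0b340c48001c07fd0d3a02e7060506650ab80ba90f970fc50c45083d0b8206150ca30dec0473020c0f4c0bd105dc041803970a6a010a02ba087e01e40a3e0bf80d1c0b670cf80cab00b307b20fb607a3078b07a9063004940d6507d1066d06380e1700b200b80e1a09ff0ac108ce0d6e0640017f0d3100ee0d1d0a25079306c8075d0a1501b206dd01f409ea08c70599002b0c59029d0f7002700ca90b8f0b270625007b09540ee500d40edf018a04d7014707340f8f08680b2e09580e390c32099e043603df0bbd025508210c2a03690ce901d405de0070088d0da40d1608e50af6052f011c044802e40cb60d180c27095301050d49026c005d0d6d07aa0003087d0b0e06a90be40924014b02a602bd0d8305030d3b096b0c6d08060ab30c0a085503e401db045801ec07a007a20a52098c0d070433046e0071099409ed081004fa02d50c22084c02a5022b0ddd00db01280533017907b000af0af704aa0ef90729026208610f8e003c06590e5504b80b8809700e7f099c0d7007ff02aa0c3a0ab9002107ef0ed30a90033303060dc2067b0ee40cb30676006c063f09fe06840e730bb00ca00a2b0f6b0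4ef0e970f9600650c810d8e02510e130dcd0ba70aa60463089a011407bb0c0e0e1e0f2b0fb40afb0e6c059d01580f7906e50c5205ca09730f60063a061e02cd04300f630480042008ef046200c50e82051e0316093a04700dd00b3e05bd08e3092a0f280524042608f0073204b70c89033a0c1c0dc00e46056c07b3007d094606ae0c0d0be105570e100fd10542050803a104be032b06fd0a46034705ee013401f00175058f030b09a5068f049e0c2e0e0e0e2a049703cd0c930dd401ef0ddc088f0f36019e0e74022d01dd01a70ac606340ea80f260ab70ee703780db1098a04d509980a9c08ee00f804e703b0042f0b99019a01a906950efa0e280f11073c068806ac02f5097400d30c9c03d20a5c0ccd023c05c80f850de202db0b63067c0a4b0e68079f07e40651072b0657036c0e65096007350af008170f6d09a602ff019908b505c5032a030e01cc060805eb0ced0f3401780e5f00ec0744071d0a810c6301d30173004a0f14058402dc08f705e7008f009a055403150c99052d0dd5078d08a20d80083b0fa50838024b054c052c002e0e270a360dfd0beb02220837082a04e20e3a020706910d780543003809e70cf00abf0ab20cb808a00c410bac027d06070d19058d05d80fda0be800430c1e047a01cb08de0d3e020202390b6e019501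68065205e00d7102a905e30ebf0bb708bd0890013e04bc027f0eb1025b049a025002b701b80eaf0544008e07f80dbe085f0737027a0353099504ca09c60bfa01860cc5044504510a7c00b504fb0f490baf06fb0f090e010b180b20031903010b8c02e10d5c08490459064c0883061404b0071f00450c130e4901d1049c0e3e0f3d067408dc0c9701ed0f7b05e2033b026d09b70d8b064b0c00074f055c01a406e90c030deb02ce0f57001f0d1e0989003b00ca0de40f8b0a880dd30b09018c0ec3018b0da80197085e03870c8d0a920d3c062301a606530ec903ed00df09ba084d0c490a8a099603f5056e0d660d34093e057a0dbb03b7007907c90332040705090c33065f0ee00c38067f031b06a80558012d0c65080e0e2b0bd90a19047107c70167095d00080ecb0ebe026603ac0b940ca802d706f10c8f0a3d069706270dc703bc0f680d3308a406d207200e63084f090a01fe0bf708ae02d306ce04910a7a035807d40e35013b078f029000070a090eb8001305a800ba06800818053805a70a9604e400ea0882053d0a760de70a1e03c102c508af04bf0c7d048701d8028709470a3903f60d790c5c056005740c96032c074b0e41094f0d6c0f900121037f09680b5604f00f4108810f0008a605c700c20e810cfd04e3039a0a7507fe0bec06b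d018d082502fe0dfc0400011d0c54006306da00ab0d92000e057c01260ad302820e3c0967099f02810886087108aa07ca04da082603e10843099702f10eb206f609dc0ae7026009190c8609a409170f640135099203aa0e290753060f06890ce702ed09d10ac30b5a076406f7000f08230b5f021e0a4f07ab0ba20f6901ee08b6035e06d5023804f7042e05360e7d09a00862013f0f4d04a609820b4104400ae606600b45057805cd0d480fc90a0106f000b1063303dc014d040c0e930e4a05b70f5404a5001803d60dee047d043e07680eb306c70a020dfb00000a5b0b11003707740f730c57012c0215024e09ad0f91076e0f4f0c58042b066202850b1202130b140b2404ec08be0dc906470f42009c061f0c260f1d0ec500cf0fce059c017403b204d40074073601e303260ea60d620039005302690d9d0dda07880f040513007809fa0cda0aaa0f880965009d04560481098001100b710b430fa1045a083f06700e6f086e03c3060e03c70550016b02050ed603ff03d5044a090e073e0b840499016f015c063b004e069303d70a2803d906b00a3303db0d0e052504a40b6000ad0e1501de0c9b08d401c007480a9f0fa40d8a0e420d0a08880f75021d0dbc0c9a08b8098e03e5076b07ae04ab0fb80aef09050f6509c90d6b0ec10959027109ae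05fc08110abb05750ed00d03042d0a71067307df0a620bc309f107ec04c70c1d04dc0d86032f0fba07800062050f0c1203610c2804db014a04f80f4b0eb903700cc60f9502b8053402ac0c6002fa0bd405c400f300200bbe0b9607060371027c0a9a05fb08e709d5061308f600880e3101ff020e0fd2013206cc0ec7068c0a97036a008b055d04d304cf0cee0b2507050382023b07be065c057d02c706770db3006408870b5806ff0f7404820ce50fa9026f00d000ce0d290898078602de07ce059a091a007e0e2c0be705ad00850e530bb20f4606af0caa040601760ac808cc041e06d0014f06e102b502a70d7703c806f30acb0429082b0e0d00350297073008bb03de03fb0bbc089e095008f80f120bf609570ec80e900e0907cc008006ea012e0441074d05920738013c084406440bcc0339084008480e7109b306480b280b3c05df0e160d7c04f6086709310af100020f27041c0fc206c00e8e07270f7d0a95063e007f09b20dac04fd0ed40e05023d05880c9d038a055b027406b304bb0650079600d807a807a60b7200b4038506be06b10707028a0a6e0f840783049f0b6107af00b9087907da025f052901870aa7087b01610c66025208b9064100830051028802310f5204e5073b0f300c1501f906dc0c3b024f071a044f0a0409ee065a0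60301b10aa20b1c072406090ea20912099002990cd70d210b6d02a1029f050e0b4b0b800dea00950d8f01510f16086a0d040b760c110c680dad031f0b69002609a805550ab008930db206850d060c2d02fb0f7c072105ff065803e20b46075f0ae903e60fc3077d05bb0643031307bf022c080409100fcf0cf20d5a0ef000ff0d91023a0f6e01f603640dbf069f05d90ba30b810e880aed0267008c005900c60cdc045d0e670bf2029401df05530aa40ded0a1802b3000d0df80dd20f2909080a1c0ba80196081c0119035401b9041f01e20bb30d36091b03da0666028b07c2084707750c0c06c4004802650d4b0eec061902370ec2015a0f1c01cd05ef09fb0373045e0309085d010b00190d4503cf07a40709074005fa0dc6012f060d02cc0229064e06db08da02d109450a400b6f05f90b6c07790e7b0e8b052209a900c8097601220ad50760022504130bdb05be0951046408e40aa90f6f03e70f590eeb070d03d006cf07ba0f45086006ec00910a1b0cbe0a6c03b503600664040207390d410d510d020549086c0626085304570f9c0a6f05010ddb09060d4602c902b10f0a031c0c8a03a50c420f7e091d02a2050403b300bd06b40abe0f3507850546075503920e14020a0a32022a01250eee048a0e04050a01ab02c20edc047c086f034f02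780b0f0c7c049d0a21078909c40ab102e90b530cd4005a04c30234053e0fd80bb90bd8006d028607b60b7c08350e6d046f0b9d0e9c0be0059f0cb401bf0c980f150a1d0e5c05a301ba0d6908950a45068704c60899058e098d04e104eb0c7b0d1506bc0dde010206a502f9076a0ab60a500b7e048b01fd0c4e0bc00b9f05d3017c0e2e0dca0f3809c8038f09ce03950f71043c025e04f40203082f0b7d074c08c10ae0007a08ec00170999076d0def09fc04cc0583051f02950b4a0d9808fb0c6c0c20092d032e0f0506df04b603ae066307de0dba02bf08ea0246064a0e780bdc06750c140da7024c04850c510a060940034c07990a0b0b7704e605850a070ae3073a0e3d02540cb204b906b80cb00ca6038b08a904e807bc0506059e04e9087206f9001500c00a260ca5075e057703a60b790b9103ab0b5b07710de50ecc047907a7004d094d0050014200a70bc60cd9051d03b604880567055a0aa00dab05c00bf904d604b407570fd40fd5022e060b0dbd00de09770ecd0fb20f6a06220d8d0b950e47029a02ca0eb50fae0c6e0e620e6104240014040404ac037403450d88007307500a94015e048407e106b901a505e900a10ce20410008907e9024d0a980856037a01b503ad09cd016d02980489043500d60bd20624072f0e1d0366018e0a4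206e30a14072a0b7b0c0702140bf40004046700d705480941040b05d509790a57018008330d6708fd034b0ed1008708ab010f068e0d380e25038e0d9f09d00aad07460eb70b570dcc0e2109de081e09dd05e509280e230db4037e0db50ce3071206e6026404490368084506e8078209e00f3704c10e0c0139025603080bcf01650cb503430e220e4b08ba0af503140a4408d2035709d307970ef10a8d0ebd046c097d0e76026802ab091602cb06aa019c093f0b2205bc03770822070803b10b1a086901150aae088907470b2b03c601200ed90b5e0f8901c30f8d090d098108290e0a04de040f047703400276080b02b408d003750b660656054507ed0c3706a10a0f08700baa05d106720abc076907ad003e0cc8069e013102fc092605980ad4031a0cf609bc083e08f10a0d0c6b0aff0cdb0df104f30d4004dd0a2207d200a90f1f03ec0ce007cb0d9a015009f30148047e09ac035004ba09860bde0c4b065e0cc70384044709b504a206e0024901810ef4066703f2079e0efb01c9014305b6090005b30f020f030927077009d70a740a5a066e0f55023f04df06d10a4e05ac0d2a0f780c5b0057082e06eb0b5d0b7301b300560a290f3f0be90b3b0f920100003008fa06f80a120c340798057f079d0d5d0f6107cd00cd0a2e0718085a00f70e07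09b8091e0b8a05fe025304c004720b5103fc0f1e0bdf07000a3008fe0bd601e50a650321049601ea0e0b0b290fbd0671093d067d01e605da09f50e4f09d90b93088e00c4061807e80839005c00e70f6608d509e3061c09d80ac90a370d35025c0cf4011e07770dc80bfd0f070699088b034106120587074e0ee1096a0743058c0182020d005806a60efe0be602480cfa068b0acd050b0ca104a90d2007b40fb10a63069405f10b640cf508970fdb098b0d7b025a00b603c50bc70bff05c906c30ce60d820541017102240a530d7f084e0c430a99074906c50ae2032307040e1c059400060e8705790219071409430e4308f308570b1601c80b420c02071e02d90a56050209b10d9509840cdf0752024702d40c190c830ce109e1048e091f0e500c4f0c39085100ef0a030b0d05630e960a0a097b0eb009c30e120d7d09f003e905c30acf0d58045b0e1b02ae04f200600d0d0b39017a035c0e2002a404760e9503b80184016c04f102d00be508eb0dfa07d30c1b08000f33054b0b0a0d57044406b2046500aa093806ba0033042a0e3b0c4d0a6d06a3050503360b650ade0922002408070f5c09ab0ccf0c94048d0e4402cf09b0004b01e8015d098506d90f230aa10a7009250918002f0164020103a20ef803ca0f8c068a01ca09320d270fb50fd00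cce00f207e605190cbd055207a505b40c7f0c3e01a00c820a000de001230e34053f06c109690c910f2a00c307c001f1088001fc074a04a80ed802720b3f009300820d5b067e0ceb0b9c0f0e0cd30a79063c02060eab080f00e309090d470773097c02200e8c00be0b33070e036505e4070c0f76055e02b2039805390a3c06fe013601bc00520bc90bc40f830eb4030c089c041d0fa6001b08a308310d600b040ea30a410e03073f0fbf02320116066c058b0a0e0226011b0d2308940c92069d0593016e047409e806a20ef508410cc0086502e30edb0ebb06e7009f0a550b8602630c0b06690b400828021a0a9e0bad0e9200e2054e0f1002730c0f00d20d39023501370f0b00f50813012b0faa000106460f3b00a30bae0e5a05b10a5f0c3609e508120e9d0bfc0d3201e7098f0cba095a05e604550adc0e6405710e720cae0620052b08ed07c30e9b08d107510c700c9f0d2f067a041705db08b10bbf0f5603030fd905ae0bc504b50b4d044d0a7e0da103a30e4d01fa0dd904b10cb70cad054a008a09cb04b20f820e850ac50d4302dd091300e802e808640d4d0816047b002802af05e80f7f0fd60fcd03960e660af304fe042103a70a8b09a100eb0fa8069208c60c040d2e02d20832061108d80dc1065b08e60e9101f3051209ec01890c5e0d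aa01f20a850b4f09fd04cb08740733063606290ba10d7500fe03560b1008910041083008340d00084209bd0bc20b980ca4089201560701075c07310a910a870b7a040e034d0df3080d0d050b010a5e0e8d0124046a0a5d03420346086604f50c670f720ef60a930896032d0f5308b3009e079406d70bb80d2c0e560c7909e20722083a0d930d3f08590537080c01930528052e0c4c0f9e02f4007707f20aac0d9c069005d003f10b470b310ac402f707190f0603ba09d20d1f08bc0c4600f60c750ad200f10d1b06ca021b0e1f047501180bd502f30442064f06060098088508c807d708140bb60f2e084a07ea03380a4c0aea0d5303cc07250b2d08c2051c0c8c081f0230075a062e049305890e3806d60bf50d4a08a70daf03eb077e013a04d001910fd707c50044061b09070d6a0d500f8a0f210f87092f095f0fc706390ae40c500db708e90aeb055100e40427041a0c6101fb09b40e58053503590fb00ad6079b0dd7071b030a0c62061d0236048f0a100b440f0c0b2c0f32087603a8012a002701da004c0de907d60e7e0db001ad0e9a0d550cfe0b4e0a9b0f4e0b1706160a2700fc04530d4203e807f502b00ea705110d5209490a3105a209f70eb60452010d0e3305400fbb039100d1090b023e0e5107e3075b04d900e10b3607c10fca01c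50ec40c050a350e6907f3020008f20f770b8e0ad80ea403a006d40a1f00d90e83001103b40bb10c100ed70211071304a7030f03a402920c17072c046d0f93063d04250903097f0aaf0db9031209830b7800610de80a20026a0b380ac709440aca003a0acc0b2f0ad703bd03be0cef035d08ff092902750d1a047f02fd05f302ee0a2a0add0767068103bb0adf02450bbb029b013d03d303d40be303c404a00138062c0c09081508f503f708d70b02076f0cff0042085807db0bed08240b680e5d043b0510082708dd03ef053205f50d2d03fd03830f0801cf01c1006e0b970ece05af0e3205150878037c0f1808cf04150283087a07b10eda0049083609e6034802770c1f014409da071c039f0a590eed02170ba407a100cc0394001d07dd00460d08077201e0075407f10930005e0a730a8201d2036b01600cde036e0a610de3079a033e07d005b5096c0f2f017e0a8908f401b70b5203d1063103350104044c0bd3078404ed0133094b0c6901ac0090072308c00f9f04d8084607b90198015f03890d2804cd07f00f01078c04ce06a4075902e60367010c02960c3d0d3d0a08048302e00610035b01dc0d850c06021f0ee90a8f085c04c50bab0d2b0cd201660e9e0e790afd003d0f2d066f031d06cb0fc109930258032208df0bfe073d0c560e80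021c0d4c0cb90787097a03e30fa20f4a03f00cd1030405a40d220446092e07900f130d840f80030d053b00e90c5501d50cd60b9003cb074109880a7b088a000904a30e860cf304ae049002ea0b7501620e6e03c90b6200f90f5e02f208b705200e45033f0ed20dd605820ec60c53033701d60a4305230cbf0ce80216065d00b00bea009b0da906540bd70507091c062806040c310d560921077807fb08e20e9f0a5401570bba0eff015408c4011f01e108540ebc0dc30e600f1a0e2f02930a7f0c730fa70a2d0756095605b008e10423051a06370fab0a7d077a0d8c0c80025d0a2c0dc40da6062f0f1908d909a3015309a20e4e0e000ef303c007fc09a707d80a23033c0863095c02b903ee0f5f0bce0fb9016a005b006f094209d6008609c00bb408ac0b150f4003900b830b7f0eef0c780e6b0c950a72019b0c6a00ed08bf0388075803ce09e4056f05ce0aa30dfe0a490eaa0c3c0dcf025703dd0af8077b09640bee093b079c057b0d9900970b7009cc087502a806ad0c7606830107031e026b07910de6083c06d809c50d6f0c7409b60b1d07e0084b0caf0103071706960655085203c200b70f440f1701d701400702041209e90cec0a58096f0c870b5009370443056b08b20f2c059609bf0478006b08080d1109780da508cb09200e8902080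591090c06780fa30ca701a105ba03310b590ab4031704950576066800d5038002da0b1e07c80b130e7003f30e8a01270a68069b0e37002c08cd00a502270ca205c20ada018508730c8805f604030a690bda088405d20450053009b90eea01eb096d00750e0604ff04f905d40d250d170b540c400db601f706c90f990601055606c206cd0e2d0afe094802c00376095b0ac00d1003340db804380f3c0bb5024102df03000de10cc4036f0c470e94039d0eae09330cd00c8b05f0071006610ea1019204090ee3076200e5039c0abd08a10f3a0f1b05aa0f48089b094a0c72035f00da07dc00dd06f50e0809af00290f5801a80432035208c500a60cfb01ae0d0f0c1a07e70c3500550faf022105e10fd30d130ede0776027b0cfc0cd5034a0c21094e0c850eba04b301c60469014c007207cf0b920c250c230df404fc003209ca0c640204062b0068069c071607bd0e1103620092087f0f2406320da00ccb0ee60a340d240b030cc30e59067900dc0ad1058a07d9062a0adb028e00e00c840bf30329078e05f7010102f009c7036d034907eb06000ad000fd093501450d5f02c604e00f8102c302a000ac099b07280a2f00a00b3701900dc50a86000507260df20ead01590386070f081a011302400b490c7a03bf0a0c0bd0046b079203b9056a05ab0b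6a0d2603550a6607420ef709230a110bfb0b1f0566043a00230da2020f0b8508ca04d105dd090f0ba5076602c106ab0b8d0dd805900031094c04920f310595076c0d6801410fcb0e570ae807b50fc60419033d092c0e300e840ecf02590fc80dd1035a024a088c016306ee097104ee015b04280f860e6a02ec0d0106de049b05680efc0a7805ea0498000b06490e0f02790cc9050d0bc10302052106b6003601c2045405bf0572040d01690c16080501b401700da301b603fa09df07c407d502180df60cf1056d04140a480b060a4706e2037d00ae0c2b00c7091100c909610d4f06bb05d60b9b0067082c0fb305b808d60fc40fa00bc809cf0e18024406820c5f09db0e260e190b3a02d80d9e00cb0ac201520b89061a072e000c081901aa02090f6705610edd07e5014e057e04c20aec0b0b02d60cbb0047048c0261001a099d0ed505cc017d08f903510cbc0c6f0eca09630a60052a07e20a6b07b702890a3b0ee209c205cb0f940a1309ef0a3f0d370ea50df9086d0c080af204ad006601f50b0007ee018f0dae0ddf028c039b08ad0d7e022f0e750012018300c100760d720a510b8b0a8c03e006350e9903720dce06b7028d08b40962069a06fa06f401a30e770af905a909c1081b0f430ace081d043706020cc2038c093c009903790c4a04660c8e03af04ea00340efd074503250d960c2c03d80afa0c9e0b2300e60a24004006170188011a06ed05f80cac0025020b0e02002201b0051b04390991002d060c0129002a0d890a770c2f0e5e037b0e4805a00096092b0b30086b0f7a082d07f40bca006903f80e520b5c0b87095500a800f00e7c02f80bf10bcd066b014907c60dcb09f905640b26,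
  0xfff0ffe0ffd0ffc0ffb0ffa0ff90ff80ff70ff60ff50ff40ff30ff20ff10ff00fef0fee0fed0fec0feb0fea0fe90fe80fe70fe60fe50fe40fe30fe20fe10fe00fdf0fde0fdd0fdc088b0c220c0c0807082e0996056b07bd0203095c097d09e805e2043405380f5703f101e502050b2208920da10d1305ad0e1e0da60d3f0d000e6409e5037400e60c6504b90788099d09de0727048b0d4f0a170e470680021908760a610cba05540844093f0d8b0bb20a410751013605c8029200ff04980a6e001108780036030b085a0ac0023e03db064f01080bd0073700850899011c065d03d0022905040ef90dc9069d076e0710037a05a60a4d0d930f8b0e760771041002b30ecd0bf703f50c3f078500ce007001d30bec0bf40e59097206470423036600960f2500c804bd02dd01440f18082c06f2019f0b7f0b4700730adc049e00d50bbe06670c3009ed00a107440bcb01e7006f05de01bd0de60d4a024b04e70f2f0f4f0bd409bb04000d180679030803a101de065b043306cc0e6907dc0b5308a407f0055b03cc022d03570987072203c70671006a08d90a710740076707a10f80035c0d570b390e910de102720c14046d0a8503fc06df02ab063407a808130f39085c0ee50c9b0ba10ed20e9e0a84033502d50ccb004e04d704320b1e00720ba80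4ba0a800e5604f40eb20fac072b08e209ac0f89062b0d850e5306b301e10a01005908880a60012305e50b8b0d30068809660607094b0146097e0e3e0e2608190d0903e5036708bf05b80d5809390f0f04d2058606050f610e7200b60dc203c00afd07d30d5b0a4603b50c1600e4041c09140eac02d607b703fa05c405c203ce009d00f003cd06ec0efe0424013f05a906c60c640b4b08e3015b0acd090c08e0041f0a420ea1024c08180e8a04eb0af00e5207a002aa08360a4c0ed402e40cd3059b0254025c0ac705cb0b7a03630b77066d0e1101220edc0475037807ad07e50a9002860382089703ac0d5a05da044709aa074d0dcf0c6306a60d490a550754071b0ee0079100ef0bf50f810f130cd604360d250eee026006a90f580ad00cff0056006709c50fc104830cc80c7f096e0a1e04920d38045308600520078c0a100e7409ef0f6c044e0aa4077f096d0f6b010b0c5703bc0be20820083105070ef70cb90ad9075e0f010c45021a00b008ad08560cad0c43055005ee0c2e0dc40ece01cd083809f90f0a0848078d083b07070fb203d4028f06dc0fc00ded0b89048e019e0f7f0149057504810f1c093c0dca04310b8e058e0ac5078001d704220e7909be030007ab022004e6032c023d0e860e38089e079509f30081049c063509280f1908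c509f209b50f9909d00a7c016507af05ac0019011b022f0c6c005b07020de800e3063b04b5034e0b9f0aee04200d5c068a02830bb70d0f02980e000cd507d0009f01470f5d00970d4500690e390e4402d00326016d0c6a0f9a016208ff04140aa105e60048035103dd06780c0f0dff0bb307f206b5023606fb0d07059f007c07bb0239010903a30e140e2f038f09d30a5b005d0e1f0b41080d08140e8f0ea0044b06ea054a071c0c0500fb09a3093b0fb1021e0f7101cb06850f970e230df90a3301ce019a023701d904cc031807c10464097502e20191073a09db0b430df5043b08790f230d420f7509310b0c05ae0d2e0da50c87029906cb065a0b4c03120e0f090306ab0fd103ed0c390dee09200487079f06740e3d0f620aa806f40cf605d30d0601380fa102490aa9080400d9016302440a23098b002e06e40edd06c90ca40e5c01f80ebe08fb004c0c7e0b2f05230eb70ea20ecf08060e3208800089006b0a12056f043f04e0051e049f011f02db01ab01d400c5033b0e5802f5024e0a470e0a01a205c3096302180c7908470b540dad07ee0160088a0e2e01f2018701af0dc50133034a07320e9801390b510c9e0bd303eb015200d7048c0415041d0e3a02a4094a07a303bd07f901dc012b0ae90ebb001700830750023f077d06e703bb07f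606f801e80e8308340b2308c808f2090a00a007fa0ba7084e039a04b604ef05bf0bab0d1b0356041804940e0d0e840ec40e7507d20427028b080901b60c930f5c084306d40ee60e8d004a00b40d8d08ab0f960bf004a800620cd107e90e6c067d0fa40a620be1006302f6018f07ec06d103b40c4c072001880e66092405a509cf094e0dbc0f740c5b0e060ade0b2c0faa0d76031d06f60f6009f10d360b950be308c20c8e0b400a87091101a502bc0c8f060309f802b40e4305910ccf00d000b90a9a0524031503f4023b0a24010e072c02e30d3d0d740df300b20d8a0d9f040f06d70c1e0ec00760029a03480dce04580fb700a2080005ab04fc0dd9067008a806bf047303140df2000c045f074b02fc0d9a093405b40e810ebf0cdb088f09df05140cf406ae07fc0e8e0f8e06210bc400e80e330ba20a190da80e010b79032f05f3014206d80ca30c330fa60b55079b034905a30cf903970d0b07db09490b2b00e50dd7031b09fe07180dd607e6082105d106e803960ea30ad806720fd80ac802160dc00bc10b2106f104a90eb105e80a0903ec01e20b420abc0b360ad307900fab03cf0ce0029d02c30a110ce1024601950bfd0faf00aa0bad0b9d089f0b8302c70c5a0cf109c10cb207ef09e70518047f01030f1a0d9708d00f7b041b06b006b6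0b860ae50fb6089305530d6f08ae08fc0d4c00900451028c05290d75051c03010c620f660b0e092f0b45035a0ce500fd0aae0f420d920aa204f60a8f046e01b90f4104d30b760b49006c0c0a055d0955005107df0fca039d0d9e0ce8086b08d30b0b09370bc80ca801680e4e0e2707c90316050e029b098d09ff02a80c5305680091051906530842094107040cc90ba30f3108450f04069807ce0eab0dfb0b8500a801670b0a0c5908d5021701ae02650da200c009c2091307c5098e0ecc09830cf80cbe07c20f070bc00247012f0d530a5009ee08940af10b4e07be07c60db40cda0f54038e01fa0cef0c9a01920a8e093801580cc101ac02f207f30f700d200fa50e700e3506560768017407720b110bca0e990287043702ad0b140c180f3300db074300ab0df1027302d90f0602c60daa0cb80d3e08b600c90b3c08a90dc3098f015c06c3088e0e77047709bd0126034d03fd01a10b900fcc0e36001b0c8509dd07260c720e5404400071077e0b0f072d0a9e009e02fa028a08860ede02f702ac04030c9f0a15025f0092009a09eb0953079e0c280a9f09890f690b310fbc04a605720ec7053d09e90bac0a8a07a9060e0b5f0cae07b900c40ab4010f0bba064806bb0d690cbf0cf70c990393008f08cc0de707330c5f07b202cb059402520bd20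ef40c500f30013c03850029063d0c34067e01b00f59018507920ada0b1c05eb0cd9028501b20243059206990cb50a2102550c7c0e6305a805fc0ef6087208b404820143087102610ce90c6600400e5d00760ef0012e0f56041904d909810dd801210b19015408cb04090945074f01aa0c370034062600250f860f2101b500d2084a01040abf09a003a70e7e0bbb003e04ae0bcf02070b980b8d0c1d017f0c3d05640e4b050503e708ce03ab033307d70ccc05c605780e1a01c90e120d040d980921065e0e890a8806e900f104a40b0900200d120541072a042b0a960c210aa5002f0f980023015d068300780a1308be069a01d8065c02c203e60e2b071d0cc306da0794099f001e0d1907f70df0034b0846092b0ca906ac058b03410cc00d160ceb0717095801770d0307c70d5e0cfc0d35040d01bc03040ccd01da099c00950e170ac1028103d10f0c02250d26018a0c200aeb0a310ddc002b02750ecb0045090e05af00f204460619071f0aac064c0daf0828010102f1083a0ac6081f0dc70a980d94045e01ca03b206420dd408910c410fc6013b0f320773019b07480c6d04800f5508a70b610404075a0f5a07d506970ad509300830044a0296091206390ea706f30f4002940a6607790fbd089b030a059804f208f60e710a5d0eb409c605b90e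480a7404bf069103650d6006c8046900e00dfa02dc0c5c01720ed305650c3a0a6b080b0b5e04e8059908ed055f05fe0d8e05df0cd705ba06b40468048d0d27005f0502050a07870a630ce60b80062305ed051f026704440ee3004403d60ee80a30017301000e3f0acf0a0a02df0762007509780a7f068f090604c5024d0215066e0288005203750f8805cd070e038a0cf00b5c0a18023801ec018306ff03d707a206590afe062a034302950ed90b7d09ad0c0d06fe0eea06860472076c0f0e00fc04f803a502a50bd50c0102620bd90c4b0dab08a50ec505fd0b13008703900808022300d8012a07470da7049006e6022204af0e22006105e007120d640827004f09190e9d0d910ad604b803f0095b054c0495018b03af01c009b40a1b00cc035d0f7a086a0c7706640c3601dd08840af30e9608fd0caf058a03d903050a5f026e0f1e057c01b40e310d0c08630b070cc600f70deb085e075f01a408250d0809ba0fcd0d1c07e7067504a506fd053b07c807d40a7b026a0f49073c038101780f5e0d73017d040a0be909ce03590a6408b10516049605aa01d2083e06a107ff047b02910c10047a0c4809320efc09da0b9e071e08830d6505f207cd09760afa0c7a0140090009180c3e0bde008c00a70b160f650e680f9b06be093d007b0dcc0b1b04f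a04c202ff06400f2a020c01270c71047c0ba4092c0799027f03d30bae0134055209c00e5b00eb0dec04d6084d0e46032d073409ea00cb09270ab7095e020b060c00130980032404be062e085507d100c30c250f350e20017a030c019802780f380eda069308e504f0067b0aad01150aa706c2070806090d3c0d8903580000096c0868075300bf068d006e073d049b0a820c3c00150c2702a00f2d0a000c2d03f20f9d014d03380471020e0c150abe05f906fc0af20102021f02740e2809e00d3a07a707810e15001a06760eb800be0c47045a054e09600db0042a0b30012d07e007b009a9001d0a5a0da00e6b04d10098087e05d00dea01a30a6f005c07eb0d2204e903b605320ef10038000708c10fad0fbe0253062902bb08030dd3053a0761002a05db04dc059302a205950f820ac20ea605900c8a0c1b0b630d710aaf070a0c7d02a7029c0d170d2902310b920dc107fb002d01c2066a01f508ea055c00e10c700a3209b008c7086c0b1801cc060b0bd106a7042f08dc0ad204a304c70f0d0ed50835068705220b1f0f2204fd09f40ace08e40344026801f10d4d06040e0302ef07ca02cf064a036f0c6f082a0448040802010d670e5f0c1f0b38013d0a9c06250b7e0aa00cfa0f15035200c702b608d601d504070add001605d9004205be02b0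06dd083f08410c2a0a34019d0986018d067a0ad40055091a02eb010600d106d6008d06ce0a69090107150b2e061602da09ae09ab061401840e780ee402bf03100e570f3c055706b704b10bb90f6e03e20209000d05390e2c0995061a016c05d60c4002500a4e09cc09360d6b01e30c260a7e0005006506220c9503da01890baa04ee0a9303fe02c80bfc05dc04ec01760fc40fd405970fc5074103470a3d02e60543022102e70a03019404ac08fa01c807380e7300ae0b870b9c0c690ab204db058100d40a7304c901d0041e04260bff0c190ce20c670b3b01800235008a04ad0eae09af070d0d1a07fd03860985098a04e50802058d03300d8c036a08b0059e02d203e40d8402fb00dc0b6906370977092203ae04ab00030f5001db017502930a510e950b730f4d08b90db80c2f05ea011106500fda0e300abd01130b820c4909cd0dd109b20a02082b0f7d0b520a4906d90c730b3f05610a7d0c8405350968039e02d4063e070b0e1d0e4a047e013e0bb806db0e9f02c10cdc04a202060f0b04990701068e03340f370d7703e3021b043800fa00100f11052b006003e00a0d0c82031f03640f940ec602d70fcf0322076a02690b62004101310c7405bb0b000f9e06c50d6205370d2b0eef0aab042e02700db701a60c460a0608530824069205490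1160112030f007400b30d0e01c70f760f8c0118020d06ba0b3704d40ab80a43018c0066098c033d0eba01f702480ba50fc80f170ced03bf031c005a0a1f00300454021d0b1a061c08d8088c0f000d28088103c50ec30d4404250c0806f00d9000ad029f0c9602900da40858095a0ee109570721069e0bf2045c058408df0e6a003c0a58069c08670a830b660d3900800d540a940aca053401240db60d3b04e3004302f001c10391036201c30a26048f032e08120a9500a30c17064e0d9909bc05d50c35026603c80c8c0ab00f0906570035045705730a6a04500a670a4f04c30ead09c70643088907a50b7801e0086d01d10e6f09e30a3a0def01eb05590e7a0e8c01930f1b0340013a01370baf080f03f90ddf092902a900bc083907b50dd206f5032a06d00345061f0cce0895090406cf001806b809e60f45097c0b060af8075d0d1f02b7057a061d0fd2085005b10c5206d3082d01480684000602cd036804f300570df70467056a0864057106550fd609160cdd00330af70f9f070f07f104f7063003b10b71050c049109330f4304d805f6026402ee0d24094405f701500fd30a9102f300470b6f04c108c605800b4a03f70d9c0e4202a102e10724007d038707d60e1b004b06a00d8307aa018206e1083706520d050d370ab603800b990d3306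d20bf805cc0b9a03790b9707b40bc701ba0bdf0c0e0e2107000e6e06a5074e0bef00bb02d1019003d20e1602ce076f043e0cac0a9d039f08bc0e0b01ea00a5024a03980fc70b4f0a77066f04b3071a0b7c020a0de90b930cb6016104760f5101790f4a01c50d0105c909a10cdf085b0ca10c510a810ce305ef09460bce027706940997089c0d590ca708c0026d039908a60e2408af08f40765046003ea0a0f0acc091005c50d10085f089d081000500cb308c404bc07cf01e900a402110257060a0b150954048407a40a2804dd026c06c70ba600530ed8050101a808e7092a0b280ba005ff09260f92048509400f8a009909080a38087c03c90b9b081d0aea0282033c063804bb0b330c120b17031a00ca00770dac0b9106080521056309b8062006de06730d4803d50e490d7b0d0d045603730fb3071303cb078907360fbb0cf5074c0d9b0d6600b107ae048a088505880a48060f006405f5075b06aa0993079703ad0eb60a200efa0d3408a3084f052504390fa80f910bf605ce0f2e072504060fa708b2095d008609f70a2f02040a360350063c0c310ab302bd0f950f2707030d80081c0082067f0b81079606d50db206e30ebc06490a0408bb007a023307820ae10b940cd4096a06a204130fd705c0059c0974092507b10fba0c29038b050f077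b000a05450840012c0e340cf303c104930d7001a7056c054f0627087b08aa0f6d0b500026016a0eb508510b560a2e0cd80cde0e7b0fa3060203540aa60e190bd600ed08f50bc600cf00b805b50dae03aa009c06bd09020be707760e020ec90dd00e130120094f0f9c00af06e20fae09c305f40b7405110f720e93077502e00f93078403420b12057608b50a6c025107690e940a5900f507ed039406ca0e4c056007770d0201970f68076602e80ae206ef05b0099e0f020bed05270ddd03ff0735057f0ed0053100270cd002ea0de00a16093e090b01c60463066c065f05bc09b102ec000204b202ba003b03890e6d02b20e2908f80c09077c08c90e6200ac023a0a680b2d0a2d01ff014b0edb09d806b908d703a209560c110bc50ba90b2004890d21083205420be4021409520a3900930a2c0c0703c40f48055809e20f8d0e4008490815057d064d09a5021303320b840ab50ab10eb00e250fdb045d0585039c03f305cf0c8907ac0a5c0f7e08eb0ca50c540b100ea4030e0ec2016e0d5f06bc0729008e0e0c046b0681017e057705f002000bc20329027a07e407b6078f0a050256072e0cfb04cf0adf02af0eca095f06900b0d0c940c4f0b7b08f0047008ec0e0e0afb0d56075206eb052c0d7c079d0a2a027d083d05a20d810d6a04ca0c9103b7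0c2c0a540395036b0c6e01700d8f011e0046028905620a0c08bd0f8f0b4d01fb07630a1a01df08590e870c9d06150de500580fa9049706170aef02a300c608d1092307c308f1034f0646095008110f030c1303710b03061e0c680ea903720d8702cc036d061307c004c809bf06b103ca066109170f28073109610915087d079a00ec0d4000940edf0b9605b20b5d01a90a5206f9065406af0951081e015604f9058c056707dd01e6037f04e1018e0ac40574040b015e086108ee0b5b070c02d306600ac30ea8006d0c0207110668025a04ea07830e92046a0948046103690739000f03e90874082f03c60e0709b70d6d087f06580d4b022407da00c10ae60ae8097309940d6107780c4a0a7a022a004d06ee054005b307c40d310db90e510e1c050602f9002c0fb50e7c08dd0db50bd703ba0a8d0e4d0bfa04c4011909e4061202a60b480c2404e404620a0e0b3406cd03110d460cab068c01f6098801f9027e0cc40f4c012908c308e106fa02b80eb30dc806770b080bb401cf0e8b0efd097b0f3b0c7b0c000fd00d7e055a0a750a3b081b0e100d7f0c4e030d086601fe00f40e0908a2056e022c0a440e080e5e0d2c0b8a0dbf0cc70bc90600046501140dc60a700ae40b260ae004ed0a6d0fc908700f240f200bc303fb014c09f607cb027c0cb10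c980b720d68061b01280fc20f12058f0b2900ba0df6037b0f1d002202f4069607e104300854010a0b270e450bbf08290c3b0d2f033f04f10c3800f904160e6102b1066302c90f3a05bd09f50054000b058702410e4109090d4e035b0afc0f530cec09690a2b00df023200fe043a052d058309fd080103a608e90857001c033e024501570bea0fb40e82051d09e104b40cc2010c03b809a2099209c9058900d60c9703a40a86042c07fe014a073f044307420145035e0f2c06c4063106660e55070502c40bbd05fb07ea0c8608750efb08870fcb08db02020d0a0f73045208050bee050303f8016601ed07190bb00c040cb70037051a02ae02c00c1a03c3043503e80b460159016f0c440ac9062f0d95005e031305b70b6e0f3600b7029e0adb0eec0b750c4d0d410da306010756057908ac05e30a9207cc0633032303390e6504b7044c0dde0a080f3e025d0f63065103b00d510355090d050b00390bda09710171089006650e850a8b0d6c04d007700fb801ad029707e305260e900b05085203170e6002fe0b3d0eb90f5f0dbe03dc092e053601f004b0036e0548057b0cbb0570007f017b0b5a093507140263054402b50fb909820a790b250279018606a8097a07f40e5a096f0ab901f409650f050f850bf30a7809fb068b088201bb015308e605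4b0c6101ee00f60b010ee90bcd0d86059d04cb0212096201fc01ef031e063f0d32084b0c8b013003280f520a3f043d0798059a01c40e7f0ef2069f086f041103b30f670a0b027b061803b90f2607bf0466087705080acb0f4b0fd90d2a0ee203030cb001990fc308a00c920e2a0e3c01d60f3d0eeb0c78007e05ec0a760a570af50dda03920dfc0dba0970055106450b240c42091b0be0023c0f1f09d60ee706e0095905a70be604c600ea040102ca08650079086e084c08e8014f0df4057e008804da00e70f5b0b6407860611069b05d705c105a402ed0b68064b0e9b0abb044f0ae30979086205e90fa00107088d0689028009470d72066b08f307e2074a00dd040e001f0a3e052f0a890b580cfd0388052e0a720bf10a650da9012501a0075906a3022e019607060ce405a100b5038d0de306410c5805000be507ba0b6c0b6a052a09420240022b0ce703700307022709910331049d03ee0f87085d02be016b089a0f7908ef0aaa019c0dd5031903c20aed010d044d00a60441003f015501b702840c830e9a0d7808de0512020805e4094d05f8003d0de40c030aff09b90a2908f7069502340b6005280eaa063a000909d9033605f10e5008b80a350bdb0a250cbc0755090702f80d9d04120b3e037c0ae705170b57011d00240d7d062c03be0df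d0fd50d140e8009840d11037708ca0014021c0db1058203ef0d880cc501be083c0d820226081a0b3a03e100f8074609a80fa2054d06b209a40d4706a409ec0f7c02e50cf20d2d05d40e6705150eff08980c9009b601b30d520c3208da0556038c0110041a0ef301bf0a97004900da0a5e02b90bd80716043c092d03de0873072f062402de08960aba0be80d790b880e050449021005d809900db3003101e4026f03a00a4b076b07d90c06042d037d0bcc03250f900b6b0ca608b3091e028d09430bf900bd077a0df80e7d0d430ef5067c014e0745033a02d803830c750bb5036c01410af90ec10af6025b015f011706690dfe08ba08330f1009990f4e05090dcb0ad70a5605e70ddb099b0b1d04f50793082205d20084099a0eed091f096400280f44011a0b590b020f84073b0f4706ad01510f6a037605c7027105e104590bfe09dc006809fa06f7032b0d230ef80b0400e204020c88013209fc0e88039b0c9c08f9053c0b350dcd02e90321035f046c0c8100a90bdc0f7804a106ed025804aa05a0087a028e075c07090546037e09c8024209d20aa304a707de022804df053304a00ad10c1c03270b700aec025907740488025e03610cca07bc0f6f06620cee0cbd04170f830ebd015a0a8c055e0e3b042105dd046f0b650a4a01f3036003df0f77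0ed70f290f140fce047d072802300b6d082309670d6e0d500c760dbb01b1024f049a09a70a450b2a078b09f001050c560628003200cd094c0757051007640c0b0d6307b804450d5d08d406e50eaf09ca079c0486055500e90fbf0ec809b3053f0a3c09d505300c23078e0008091c040c0f2b0a1d0c6008170cea00ee0ed1034c0f1601b80f4604420276035308a104fe0f3f04ce05ca062d051b0e180d1d0998056d00f30c8d0a220a1c05470a270c5d009b0caa080e0bfb00de04c0074907f50e3706360b6709c4045b056904550606068201fd07230c6b05b60e9c09a60566090f0012073e0beb0f3407f8076d06100ca2060d0e2d03a80ea50b8f06c00cfe04e2013507b303d80f64030208690dbd016907a604790cb4026b06c104740fb0016408cf0e04020f04d50c800cd201810bbc078a05fa0513000e0405097f0d7a093a0a990e97059606320730080c00d30a3708260d550b8c0bb1008b0d960a140bb60c55096b00010d1503a90478064403f600c20a9b04de08fe02fd0e4f0c5e0ca007d80346091d07e8017c053e04fb0c2b08b704cd090509d109cb0ed6081609d70a07042900210bdd0a4008d2080a03060b32003a0a530d1e02c50b44050d075804ff032003090af4000408cd09d40f080384042803370de2,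
  0xfff0ffe0ffd0ffc0ffb0ffa0ff90ff80ff70ff60ff50ff40ff30ff20ff10ff00fef0fee0fed0fec0feb0fea0fe90fe80fe70fe60fe50fe40fe30fe20fe10fe00fdf0fde0fdd0fdc0cd107140180091d081d0d3a0da609b704f60f7e094f031a00ce043a044e077603a2061d05860fc800fb088d051f016005ba0a980a4d02030c92074f0ea307510b830b48014b0954057802ec07bc09230d400d7d0ce70a0b0921020e0478023008cd0eb609a4086b0cb80f0a0cd307fc0bee0455055d0b5a026d0a5b054508230c2e00ea0850005d097c071606f40f6900f70869018509f50b6e0bdf0b22018f018c0a3000e40c2409a8045c0267087a0c3e0bba08b4025700860fd20c5f03de03cc08d20ce5016a03e6074705b303200dd6063a090205900d61019806430961040d02cb0f9405c80e960049032104d402d60e72049e02870cf6045a019c0ed806a80510087706cf0e710ec80ad707960b0a0d2c0873017d046402470a8e03020cf8077b01e308970bc10bbe0a8d0c1b0dd704a40e2b0a2300fe0c370f3d0a960579045901bf0228030b0575057c098e080603bf011400e003dc02ae0a8302c80d0805a20db80f1f018e09450d1e0685009c0b4004f903d60f28054a035f0c8508f4089d09bf07dc0387043c003f001102cd0bd105700cf70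8a10aaa00c6065d08ad0fa60d150414022606710bcc03f5034b014208dc086308bc00c8089f0a3405f00b3b070d0b5301bc085f0b3d009902f50db909cc090907600e2001ee05540ee5046202390b2f0a9b09650eeb04cf066c0cc60757005903f4060501720a8b007d0a5103090f5c0df50ac100820bc5020806490b5702480b590ece00da01f6023f01c501890f5608a804f402dc086f0aee06cc09a100a50ebf07290ebd017e0abb0c4b032400270bb00faa0c58074d03fa0ca702550041075e0be406c20dce0d820813009200cd0b4b0275036601d50fbd076203480bfd02330e9e092c08a4026406330c070bca08620f6709fc062a02690353005102e8001303f70549015d0e8b0d46087c0ce808a00dab019106d9017103cd03c20b2900c709e60e18040e040703a700e301e90dcb0bbc016706740a570f620f57039a07a501d60a64090408e7080d01ba0b0d0aa4047e04d306bc0c7b01b905220ad409890253007502bb03e4012800a205160acb0b230daa054d0467063809de002c029205e101680209093c091e084a0d2608ac05170dbe019d01ae0b880b8905bb08640463078209d20bd704f8081209e20c8000e90a1a04ec0c83080700fd09b60929025407ef0df90f410e2a0cc40a84012b063401eb00f90161062c0c760eee087006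2e054207100010075605840e7d02b4000f0ad902c20601002f08d703d90d9e0c7f014e086601de09d00bd20887073a0078098402b1029407a105d5012e011b0da7015003bc06950b760e2c0aab090107ea0ed7021b0ba4045d05c20c860792055702b5055a077a051c0abf0de806b90c77009a0da90dc10cc70b710cb2051b010e04fe04e206d50d2403d705e40f430f7308de00d70125052d09e90c660dcf0eac0dcd0b7d0e7708f50b5e0db001ce01d8028f04a9082f07a60de308ff07310e4506210a410c9501100ef20f290c0c0db608920d4f096c0481061c0dc80d9c047902f109b40e860e550de40c6b0dfe0fd50bab05120299055f0bb902740cbe0e0f07410daf09000bef0d960ca806d20d9906df04fa0c550ab8006f00c9046a04e30cec00a606b409b5000601e402270489033203a109dd0eab0a5d0a2f06fa0c910fb204da019307be07ac04ff05d200e1031d0b4a01810d290ae20b9808f101e80d6d076e01870c450ac80117058e086d04760378012f00330f6f066605ce0a4b0af1041a024e06c90bb404c9095703070cd4009b0616080e0bac01f80db40d1a04c302fe0a08062209c606730c390e8a0631072d049b047c05b50fb305c30bbb0373083003d00fd6007f01df0581056b07ce0c0409d50b2e0aca0ba807d1065e030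60f5200070ac60d720b6902930e4808fd0dda07b1079508bf0bff06e40f2505e30d1c01fe0d4e085707c4035e0ca40f090a9e0c110c43099b076b054e06fd00b306e2091b0b2d042d0f2b06b2043809910af5097604e008d901150979037a028d020104040b2706f00f4b0f100f5f02ac0263029c05f1088c0cf00c70053003c40d8d0be20964071d0e880fb10c9f0f79064706120746025203fd0c2307870a5e072106b303790968097b06540a710b200d550fa502710fdb06970c0f01b103bb0ab005bc0c2d0afd0bf70de20ee200950e2909c9045e03f800b20b070d9f09b20add0821093907860fa709530c8a0661053f014f0de005c501cf03c3097a0b330a78056607c807280d980eb2032303fc0d160a85024608b101f30ce60c7d09550c9c0436070402b6066a007e08ef0dbb025e06630fbf0d7e06670c8f012309b0063e0bdc0cb603c1013303300df00f1c05310e33061806700e370e0e0c7e0c9e036e0e6300d802dd00300de60e210a3b021f02360c7208290cef0ab4002002e704c80da806b60573012c017c0dd00a75039b099d094104c10c600f7d060e0afe0ac704ce088f07c00eb50199090b0d93059c0131045207ec01be01070808034d024c0eba026a032d048502f007e90d6a0c440d1203440a3f07d6047f0f830341034e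080a08d50d470b620f3e02760380039f0c3302ab01c00a0501c10f9b0cca0a140b5002d50c25073008ca02da0c290f880cdf07370b7c0949024206030c1d04e90f4402de062804fc0bc6041001c201e004c509800d130af40ccf007a05090db70629027d034500a90e99033309150d340c030845096202ed0d20070f0ea000020a7f0b9604200ba00cc80b70011e0359006a05cc0b4907020d9a0fa3036f0b5d0861063d09250be803b201cc09310eae0b8f0ceb0a6e08a50f8e008008900c8b05f304970744065c0e3b08600585029005010e090f1207d901830a7a032b0f0504390e980b13084708be0c170ed4006001d900b00f47053406780f4607e80e760d3e0f820da10277003804f309240d5900a700f505390eb703db046b02400d510da5074300ab0d300b1a06c007700df3081707360a490bf8011302950835082607da0245005b0d7002120bfa0adb06f7075a07710a6303160be30a1208480b0403510ab60e410e42029808d306b70ad10fbb049f0b8101a3034309c80dcc0c21077909fe05c70b58041c0dfa099402220b730b720de10bf607910f8f0a4a07fb0b0107c60d28029b01d3083400b90237068d0c380b4107e700bb0dc90bec09ff08e80fa00ecf0b780ed10aff008103810ef801ef08e50c2b0a030b4e030300b80ea70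d740bf10fba0b4704ab09d103be05a3098f0b610f2201490a990ef509b80efa045304310363056a07060af806db0cad09e0057705d40ee80d320d0a054809f100d90e8000be0cfa083904af057e0e560f8d02e40cd50995031e05ca096a02040ba7090707fa0772095603e7077e0bc9046c009f05dc068007640e680ac405fd0f53021601b70cbf01e2012a0b8c08f80a3d0b6b003d0b560c5d0cc903ce0617024107900b3502fc01750d040c10041e01f40d5d004605c60ec3017702fa08b9098c0a8a085501d4089c0a5f02eb0ada0d7105e504cd024b04fb0cbc09a20b950ae30e15033d0f55089305b60e60016f09ac0b8408ab090f0814019b052f0e570d310ac20d690c5c0d2a09d70b0c01a50ac90ed606c80de909bc02ce01320ebb029a071a0d92047d0b8a070c0c6f059a066e04030ccc06c401dd0aad09820df80f0e0a4e06cb017309ca050e0e67032a000b04420a1c05800d14069609100ee702ff0b3e0fc203850f3c076808490a930a92091207d7048d0f4d0f4500150edc0ae9031f0a22024a08f60ca30e280f2d0450008400560bfb088206880a7c009d0bce0a790cac07f80a380c65040c058200580cd607de027e0be1033c014a0136015b06cd07f908db074809360e6d0b9109da001407d50ae50cdd0d8101fa0f9e0a5a06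26060c0e7308ae088503d804f503640eda01b203e10aa90fc10a4c0d5e0b6d0ba102ee0975006501e7031501a606ae0dbc08320c41007b0b0208650c7507c505680a760466021407830efc089a04c605130f8a0d800908095807b401fc013804650111065003bd00a007cb0f400a8807f109870a1f077c08dd0aa001740e350260061e053c052007d40c2c07200b8e029d08e905a5057f07a701440fb00944085b0d4b017a011d0c3005b00b4f05b806dc04170b5c0b7a019f0e95062706e5055807cf084307df0f9003b409cb00b50b2b047a056c05e7044f02c3053806580dd108a7000d0e7e0853017907350e3804290b32013e0e510d8309dc06ad0a6201a100320ac505760d33038f04060e3c0b450e0a060f00dc00c20ef109f30aa60cc30b7e07a30d490651045600f203ef050005280f1904be044d0abe016900e5023a0b3c0fd40e300d8a0dac02b20cbd04190c8d05eb00f0069f0ad208fa01c304dc0f8700db02d402780fa9020d0adc0ec104220055047b0c6304d00d110876035b07880625019e0b1f0b75036103470d05045f0b420f34044a0aea017b01da0e5f02e60a20096000520e0502f30aac07d30c120401022000cb0f970cd80cae0cff00b7094d0d030a47068a01ea05be04b5028c01f9034a08200db304dd0b1c04b10cd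9096702db0ee60cea04eb0c010f6c0986014709590093059907b305f7095e0a2d0d570b160c9d0fb80cb701db06e108110fd105ef09770398010407f70c2000cf081902350f260a0a059d06d70c6200ba0749045803e50e4b021c03390cba033e06890a6507e00195007301960be5033a004a0765030f0e9d0668035c0e2f09280572030c0be90bb50fb403500faf048a02c60e4a0fd803ba0d0b0506025603e802ca07ca0c05091407f60a9106980a9c0acf070e0280050b0c5603ca0ef00a2e0b1900d206ff0e6c02850f710df70d9b0dc001af0d25078006ce09ab07120b0307b00a860dca0f1b004008310d6f03650c96015604d203ab0382055b0a100b5b0e6b03580b51056d0210004b08c705a104df0dd50a1d0f010a6708b00d0106200e1102b00c3a073b0b860f7a038406ca011a08c40fab089608b70c270630022908e108c6001208ce050f0426040808c00d210bc7036b0eff037407b50aeb020008cb05f404300f81051e04ba0ca108da05330a560f0b0e470ad0019708a60ec709e808a90be00e9c039105db0f0f0e870efd03a50f1a0ae604050a33006605560f4808cc007607bb0ad60db5008c0bdd0c5a054f0fc60cf10232081503c606da0e08087b0a5506bb022e0a7e0141082c04ca083c03b50e8908860f84017004470f59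099a060702e20f5102bd07aa0e1f0ec403460d6608240fa803350f920139062d0e0c0a3c0e3f0f000e970beb0bd60ef6041f03f003f10a090659085900a80d1905fb0ae807e209e5020701530f9901cb00e60376027004b00e490a940b8d0bc805c90c02044b09f706d104910632020506dd0797087e05de05e90b26039d066f05d60b9d0b6605ed0a4008f20d3c0dc307520062088003d406d40c7104a5061a0b9c068c086c0f9c018d0cbb096d007107380fd708040334070b094703ed0ba306e6088a0ace0eaa0e39095002f607eb0d520e6a006106a00c3b02a50c4e0e320f3306a1081c01b6063f07780470023c016b02860fa40b6c0b180a680a77094a091304a8036a01a9055e0a2103b70e2d01cd01240c51080f0df60c460bbd0b6004b9047207ad00df0854049c093509f60a70042f0f1807db0b9b0bd0000e0a900c400a600a150981069d0d2f007c09f80d3507cd003b0a240916005f0caa044c0b6a0a3a0d18043e044503a80c5903b00d7a053a0fb5089401f0070a07ab0100015c08ba0a2c095b01f70d2308f7075d07ae07e40d7907b80871025b04110a0d0dc20e6f07a409c700c50e0204e106a30091051d05470639079a065f048e083d0f540d22045104cc0def0b6f0af9006800d501c8028103b80048010f09980cde0cb90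01603eb0a350e3d025f08fc077f0b1400ae0a1e0f4a0deb0b7b080103750fcc0672076101780b170b920ba500220d6c06ef04e70d10076705b20a95076a0356092e0b0e04540ea207740eef06240eaf07af067a07170b930593055c0ee10e1a049606aa04e8082e0fbc04d10fbe00de0eb40494069e058a093f0a660f760ce203a30bd90baa02e10d9d05a4050702bc05ec029108d40e070251081e0c220ba209e30206048700bf0dbf0c28058c00790d44001b03a000350ebe0ca9052903f205140499060d02340cdc0a13019405080ce9054603950ab906940394075b0f9600470fda014808f901ca0e1c0bfe090e0ef90ab5081a07b900e2012105250b3607050c9a03d50bf0031c04e6090504920d0e028e03420d7f065600a30b9406f605150f95061b04ee05fa0cf9076d0087027f0609056104000383064f0592081609fa0d1f06e30d0c0951037c0d9503ea083e0a010b3408880e84001e094200a10ddb082a052b0d97084204610f5808fb0a690ec20aa808d00d5a0ac00318059b04a10aaf03c50ead04280ba603ee022104770e64088405e00de700000b850c6a038c0d8b0cdb0d07018800ad00440a4209db057b0471075404330f5b059104830596033b079f006b0805080b09ad074b07d2069c02a1027c033809110cd00a9d0dfb07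19027b0225053e02a6067f02a70b63082504a2097409370a7d01bb030e0f2404b30097011f067d0b0f068f034c0681054305c1075c03f90bbf04cb005700360e740d4807750f060c8108370ab201c90ee300210c980562092b0c900d6001a800340c9302b30cb5055507990d2e0f0c0bd80446010d085a09ea018b06f9042c0cd702d0041809c50a2706e80157020b025905bd02a00ed204f70ce4004200a403da0f6d04ea05ea05f808020c8c0bea04b701220f72079b0e520486052a05a70e260e9a08400d4508c9062f0e1e08670e22037d0e940c0b0c1909fb0a590997075f02430d4a0dbd08d804c40a180fca0db106f3082703670c820afb0d5302d304d802960ce30589049309cf0c5e07230a58039705cf06ec056e0875032f0ede06040c1e02c90e1305b905a901090b0b048f085606f104250640095a019a011208b60bdb00720cf20efb094e02b90833073d09af0641083a016609ee04a30ae10dd80d1d05a60e4e06ba0540083b00430b1008a200fc052e006c041d08360e010b3000c00d77016e0424060a0d5f00050bf200940b1d08460f680b790aef0cb105c40d3f0df1067b015e03270972064b0ccb0e400fc306000a02052c0ad50d41011c0f75076904ac0a04011903f6058301180088013005ff0213063505e20a0f07400b4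30f2a08e003ec0415040209430c5406c60ab3095c02d2058d06a5059501c4075906e706a70f70038e0d670597072f0340074a0611046f022f0fc90bd50e1905ad0a730d370a9f0a0e0b24048b0f3506ac04f10f3b0fb70b3109d60f3601400c69092701a70f110009060808e409ef0d360b37006d0a39026e0cab041b01b003af066906eb013a0da207f20fa1075808ea0dec010b09f90dee089806600eec016402f70311029f088e0d0f0e54031305040f1e0e8d0b2c079c071c0f9d03d2067c0e1d04de05df0cb4069102240a17053607bd0bb109eb00ff053b04e50bc008af003e0c840cee0acc05d90dd205b706d30636072709c002c50469070700f604bc0e6103cb0a160fc508b3079d0dea0ddf014c032902890e460e5806f507250a310da403490f5a08c30aa5025d0017090c050a0c0d071e073f091a0474054b0369030a0bd309c10d780ddd01540c180ade0d940f210e3a06480fd30a530ec60bb6008a057a026f032206f201200e34096306420c1c0753076c0700053502d80d8e0ddc07a00d0208df0541096b09a901030d7c000a0614037f00fa00260f640e6508ed0750099c0ee40c5b0ae007930677087f0d580c6c04c70a320c13061f0d4d01b40c61028b038809be00370523047308b207e60301063c04b6097103e006840288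0969084b0b250498033705b10b46046e0dc407f5032e04a608280f4205e6068b06c502d10b820f6102c407e10d430085072404ae0bda0755018a074c061006fe084103e205fc07980a8f0101057d09200d86004e073306370c4800d406a604820db2042a0c3f0e660ab70d42099e09f00dae0fad06bd0d650336050504bb07e506ab0800058804aa03570b120bae0d8f0526004d0e530a370a290f4f0e3e0eea06d001f209900cc20df20f8604490f5e0f3a093e044109c40fa207630b3a0c5207940a8209ed0fcd09bd07c70844098d045b004f0878065b07c2040a02b70aa1045703d302d907c3013d0f16040b0fce0bcb0d0604120c9b01ed038a06a901450b3908b507dd042e0d0906550377048009e106c100b108c205f905d000bd09a0015f0bf9085e0af305d70b7705650d5c09b106520a000282059f0f080319043707a80c1602490e7c0f6b0a74043b0444008d08c10e7b09d3089b0cfb0ab1059e097f06ea010c03000ce00ca503fb0eb306790cc10e8e05ae0f040edf00ed0726085c085d09c206bf081805a0078406de02d709180b150f77093d0e5b03e304900a4f04b403df0f7c00450f2f0baf06440e100a540dd90f200703082b0440054403d10d3b02ba0afc0e820f7b0521090a00d003b9008f088906c30ced0caf0e810c890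3aa0f320b440a260dfc0ccd091c03c8078b07f002f9087d09f4017f0be7002a07bf0563000c03ad01d208ec03c001f507c10e7a00aa089e008307450fcb0d84072b0c3400d10838001f0c640e700399094c060b01b3071b071801b5003108a3039009d4058f006406b500c3043401c704bf0f17013c0a9708d106e908eb0b540c3504d7002b062b06e003720cfe0cda0d64042b084d077708bb0d3d037b02e301fb0bed0c7c00bc031408bd07f40503036806190ea508f00a520b3802be099301bd0f1d0d17035d092a099903540bf408e6046d07660202035a0e9201520b8b0922034f0c3c0c4d067e0f03096e05110ea10992086e0c090c420b7f06fb0c3d058b02fb09380ad80a6d06a40930093a069904ad0475086a081b0c060d8502500c87060604a70c49022b0bcd0aa30519032805bf00ec00740eb90ca604ef0f650f740a890b1e0d75070101430fd0041306c702650b900a44036c054c031205510268092d0686030d09260f3705020ed900530d560d2d026b03040b4d0f4c04b803fe0a9a0d4c00e80af7033f0aec03b60273055208100ef300f10983020f0dad0c4702df0a480c000fb60ae40127022a0e900c6d098800ef0b21037108740742007702ef0c1a0c790ec509660c26043f04e403e90f630c2a09a60615059804a0065302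cf0abd0f1301a20f6a091706020f2c003a091f0527049d09ec0e1400b602c0008903620872073e0e5c03cf05ee012d04430c990ded0e17066209b30e0408d601900f2e020a0cf50c3201aa020c00eb068e0690080902a4023100f8069b064a055001a00a110cf30b680aba0da30b87028406130b9e0e030d270e4f073c0bd40dc506fc0cfd097004c0021a051804b20f6007fd0903029702830416078c090d06ed0a6f0c0a069a069300e7021109a50bb80c360ea60da002f801580cd2084c04f005670f9f026c03050c4a0e9303100f85022303170e9b0cf4003c025a0a1907810c94050d00b407a90261064c02150f8009190eb10e2e0e5e0ce107390331010a0d5b015a0c4c0adf0a87040f0ed00f4e0ca20b9a022c06230c1f0afa0bad0ecb004c010507ff002409b90ee900ca0b640c73094607220e9f088b02a30fac0587088301510244032c02e908c80f380d870f070692053d02660b7406be097e0c740108008e093b0df4028a0019016501a40b0902580a3605a80b97027908e302f20fae09a302a9064d02ad0e4c0ed308520734083f0b1b0fc003550cfc08b801e50d1b00c40a2b03700a5c096f0d5007b20ecc03a90af20ca00460001807ba0b520eed043501ec0e2509730e780d6e0a45014601ff0d880f490b0601e10c140d380e0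b0aae00500952098a0bc30dc600390e6e0ea40ae70b6703ac0162016c0cb00dc707ee0be6084f0711066d078d0389001a0eca059409aa0c150c2f0c310f390c5003600ef706870e690e6201b80b080803039304c203960a500cce056408fe0e43015900ac006902aa07f3066505710a430ac302170b8002cc09d9029e09fd09960e440f5d0acd05f60c570f6e08aa09320934071f0d7b00960e8502af0f8c0f2708220f8b065704950ec906b10d6b006e0f9100cc0bcf01820d730fd903b30ebc0f500c67098b0a0709e407730aed00f40af60a1b0aa70edd0e8308790ad305d1013b01d007fe0f7809bb0e4d0e7505e802180553009801d10e230fc4042105c00e8c07b60a6a024d01ad0272064e08ee005a04fd08510352022d0dfd0cb30e0d0137051a0fb90a6c0b3f0713095f01e604320a0c031b0f0208810574000809df043d0386016d056008680a2a014d0a6b0004001c0c880abc0c5305aa0d630e0002b80c680e270b0500250e5a02ea005c0dd307ed0c8e063b070804ed06820bf50a0605b40dff08cf05af05ac0d6801160d000f310b9f05f50a280dba07890dde065a03ff0559024f05fe021e0c4f0106023d094b04db00d3048c07b705370f3f0e3105da0fc704d60e2402a20f9305240bb20176002e09c302f409ae02e500af03f3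032602a80f9a0e3602fd027a084e09ba0f890e7907090d760f3007e3074e009e09ce09a70ecd0b2a0c7a0dd4008b078e048401020906039e03c909480fcf0ea80184097d02380d900efe0e7f0f0d07a201fd038b09cd00c105d307320b280423036d0b5f09400b650b4c097802c109f2025c0d0d0cc004270bc200ee077d06b001ac0ba903a60c0808580bb30d8c0ec0064506f80e5906d60a250b1100dd0a7b0f230d540de50ef40163068301920cc505cb095d0ea9079e006303c7021d0409089100d604f202bf05ab06ee0f7f049a0a8103a40ed50b550bde0d390c970edb07d00a3e0c0e072e0e0602e008950e5d0325093305f2081f00280d910186056905d806a20bf301ab078f006708990a46038d0090082d080c0bc407c9001d0f9801260b9901550ee00a7206760a80099f0003030809850e9101dc044804880468023e08e2092f0f66078a07150af003dd06af05dd06460eb008f30f1505320b00026207cc02c701d70bb704bd0675072a06640d6209d803920c780e1200f300230e50037e03b1000100700eb804d50129023b002d076f066b0c6e039c06d8005e0134072c01c6021901f1050c07850a8c0a610e8f08c50f140e1b0e1607d809e703ae0aa204d9056f013f0d2b0d8905cd013500540bfc002906b8,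
  0xfff0ffe0ffd0ffc0ffb0ffa0ff90ff80ff70ff60ff50ff40ff30ff20ff10ff00fef0fee0fed0fec0feb0fea0fe90fe80fe70fe60fe50fe40fe30fe20fe10fe00fdf0fde0fdd0fdc0ad404920a130d1d0bbc09430cf6076c0b0806f807240780079b0eef0ca00d7a0417055e04bf00e70e5f04040efd099205ba0adf004402330da4001b09e104c90bcd0d3e0f1b0bed065902ec078c09c901d209a50ba00215061e00de0c5a0f0902d700670d8504f90e5107f6049e000208ab0bb609880a4503d80f120f7206ad0ec406a009260a050072085b03ca018500d305ab0f690e2700e50cb003e005bb0a95030c00990e3e017402bb02ed07f10b2f06af03280b8c0c56033708b9000f046907d7077a065c0fcf09b80f2d01c904b206210b4e0425030a0959058907170cd5040501000b2b07eb0b260cd7064e018a0d910cd303040da600b80e730275040c00910a230d4a0dce0b700b9b003c0b650dc30f2c07d802fc0f9e052a067506b206c904a00bbb0ee1084f073d0c1b02ca01e00d9d087709e505a002e80b890cc10e9b08590ac6008202620de0036304ea089a061a02b604df073705030a710b5302f70c5c0677015501730408029c03610d95086b05e2015f04750efc080b0d1103570691090b0d2e0d47086406a300cf00c40f4f02140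4b6012102490cac043607b10c07041409240671055505e6048c059f082508e50d97043d02c9090401ec0801092f0d080e3d005c0fb000e40fad0eb101eb057e05190b7c086104e301ac02f10f010c3e0f4007730e030d6503c00a3d01950e6503d20a5507e00a8b033d06df0870067900ee0440030b0be30c4004070d180bd806c2048b07bf0bab06e5083f09fb0242011c0a280c0c070708480b170b7208ac080f045704dd07860c550c4b070c0775024c09e90ab303a802a107c10e5d0dbd0b6105a80b590e710ae000660298058b0c390ed80c800e8a0d660eed0d6d0b360203005a092c08ef03b2039f0d150bca0a92081208c2033400940c9b0c150f3d00130cad08c307b80aec0cf009f2076b08510c61047f01df060a04b30d0c0c710ad80d130ae4032d064908f900430ab106fb081d0d27096805770394080907200b430fbc05e10a34045b0efa0a750306034a03510e5b0aba0c290a000f770cd10c820b0906f2045c0c770cff07040e8008740288062b0970050a0dc40514003e060e0a640a2a02860e7d0fb3084a0b6b00a501ab036704d006100c2f0a96018f003f0cc70e770d0f02ea0deb0f670d4d0366084e0b2507530ae8080708f80bda080a02790ccf054f0b63082c01e80f190a030ad009cc00f901610d5f04ef0332030904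230ab60fc103d4097d00df093c077d03de07e108fd01d306530a7f081e014507d4099f0e3c0672066305e30e230bfe012c00a70f92049006570fce014703e805ce0150053809ff0d1401e50a6d059901170cef07d6018804650e9701c20fcb0cdc09f300a40ce5009a0c6903f2022303e4051c09470eb9046304de0fd3005803d00c5909df056905c608af0f980ee40e1c00970f26081f0e7e0faa0f91075805b40389021a078203c505da06d10f1c094800b30c7900f60a6903680fc6077f062f063a0c6a0ca306520a5e0d3602dc01ca0d8e076f032308d50e2804c107e508ca0462006e07da09220b0c06370ec50c3001f60e010dea0ae50acc0df60fda0edf09070841045e0a1409e00f7008380a9e0a5101840abb02520d9303ff0ede05540c200e040aea03e3000e088101ed07850eee095e01ff08cb0e1e07cb00d2065a0dbf0c7d0d1a082807ac04c408a501990e4c0c1d0f050fa80e5e0cba0fb10cc40348068001870ec303c707ea0622086d02b008b60aa7048e01760e460da702ab0af101e70b1c077b030d075108840e250eb80df4015a0be10e6204d70bf401930d7f03ea0ecc058e0b1b0d7c0b4b01d502630a530872086702f9091e098c089700f30951010e08c5007f06d90fd108ba037508800c8b0b9907a709ac028d0a010b0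d054c028202280d72036d0534048d02c20a790fa608ce08bf01d706b10c0a0bd200c0024f0d4e07af0d0b0d0500d802300d9908fa0ba30bbd0ce80c410cf5028f05930cc30192028409100cf809ae06da03380d64095505610c3b01b603e907d10917088d09720f6a02a30b190e4e01080631068505180db50d460bdb06f10d49010a03170b620d6a02d008f106410ac50d8403f803f00ab80ce409280aa10ef20d1709a2037906740474044702c807830da507c607ed02fd020d002a00fc0dd00f2f0aed05e0081606ab0e7506ae05d70f24092309000612015702700fc206070a330eaa0a39017e016904210261022c0477072a057c0d1f0e8407df010105a9093006480f1107280b540019096c06bf0f5e0c32008306a60f530b1204da04e008e308ad00a200e0066a0e4308a40f9b028a09d005e903250118083107b30ce20ac20a76084d0687026f080c07b501ce0200090f0e36001e00ec08da05c00563064d0f800ca403f10d1003a9085d008b0e6f062d0a1d09d10ed7017c05e702a404c80b490106035800780ab403bb01ba044f0f2a0d310dc805a60f38029203ba0e91077e07c90b050eb500e107dc006f02650bf205560f500c09087b04e80cfc0bb007d50060040e04850db10ed6071d0520017f0c870665021b01910a7c08c00bfa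09290481043c09640529026c0ef4063302d20a4b0225005d06680dbb0f860bef0f780bb309f103a5047905d00c7b0a06037e02ae0e2007b40f5607e40b4a090809380839096609310574094c0c8604a404d9089309e6041907ef007a05d3081504320e3a06aa03590d6e0b6d00cb0e9d050707030cdd02670ec90224043f07fc08d7089b02c10ce70cde0ec80bd900a90ce901cd0da80d5d08e907e80732073301ee07dd08f6059e02640ef904fc0934082d076801cb05d2049d07bd0f8b09d500560526036c016a0149033c046e0356095a031e0a5b0fd00e6e0f1802aa0181093f0aa90a480bd608be0b680a10026a0ad2009606a2029301430d280fa30cf40b480e560c9a08b0064606f7022602a009840d4c05320eb70500000a0c380be00d5501790bc30edb0bc70cab07700eea0ac9073603550af700790ddb045000080e860ea80e1d04e10b32034e091604f305db0eb0040a05680bc50cb40aee093b047e05420d9009c50092065b0c6c031f081401a70d0201a30833025908bb08df016b0a990bbf00f10535053a0b6a040b0f2109a10de1091208b2010f0f340448091f0fa50f4605940601022e0b4104610739024000b9084909990e3f0a0406950759086a0a7d002906000aff06ee01c308e4098608630660012b090201a2045a06270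2060b79008a049a0311082900e8048f0a09075e054b0e3b09fe0bb80747080d0bd50e40098e0ed90cd20ed500bf03f70d960a5702c30af00960093d01820c2509a305160ada0e1602de065509090f8207f20528040d0b600e09044a08780b550a7b074107fa0d5405ef0d4204ce0dc7034205be0709076e06c103a0037605fd01f304a800f4093e0bb50280025700fd0cc60d26006c022105ac020c05cf064f067f092007fe04640f0e0c47055204b50021070200460d240c450e4b0d6c0c5f05c30aa80cd801d4044202fb0ddc00be0f510ae602b702d10afb0b4f06b30e9304090b44007d07990980098309da09930ba807050bee0e330fbb06e906320f8c0941063e013d0db8068808c10de40c51081707e9093a006d0a8801b302be0b1609f90312001f01c60026032409bb027a0edd0e4d0fa90ab706ed04290b9d03ac0175043e09a6094509ca09dc0d2d0a740b7e089c010406620b7608ae0f2b0ee70424072f0d9f02bc04990ceb07e70f6608620bf608d20e480c8900b10dfc08ed098d0ad108dd03ab09250c95061c05b308350d3505f3060c0b8d0d2a0f83091404ed0dda065d0f8403470f9f06a802cf051b07f50c3d058f080e086004ad076d0a1b0a3e0da306eb0506014c0dd80c420e600cce0eba055f0962004f0be902470ad30f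0f0bfb019c06960399026d09ab066f00690e9001b00e98071003ae052503330722022f097f0065041a056201a60ee20b180abc054e0e64079c033f04a608c603160bdc0f740cf70b20035f03bf04c60e1209370b2404e9056409490e9c0b64045d05f2059b0e520b800a2f0a9b09bc087a0a24094d06ac0a2209f409a806bb0a1709210f170c440c7f0218039a0b8e02020d9a065107810aca0dc20b3d0bae07160e0b0dd90bc00fd503700cbc0205076903a20a200bb7083b04430ea7023f0a0c0f81000c03c30698052c0fbe09c405c80a580a590020039b05d403bc0819039e0b9a0156052d0ee0074309850d030aad02120ccb0cb80386050e0823049c0ba2037f0f7908710bf903740c4e086609cf0505061f040203d506e702b50a70091b000b0a5003c405a50146013007db03db02e40a8402bd09f70abe0fa70b6e0045071e03cf07ff0d7b09aa0a820a770af40e4707f40886039501d90c11038105b2068b0fae071b02780ccc069703540bf00be500550cbb0b00019d08f405bd0c2704830fd9038a0af20d50009c0a38035e069400ca0a4a05ca06b40b670aa200fb05830b5c0d3205b70683095c0fa20c520f650913022009150e9a085509be012800b70a1f0e3804490f7f0268009f041e04b801bb0aa403390c4f0ebd024e052406b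008ee0aae078a0546039608ea00eb01ef012e01980933090101230f0003a1072702cc0ebb0c48061304340baf069d0e8e058109560a25032f0a1c0c960cec02cd0658078900d70d6708d80f4a0ed20b340ac003b60d0001770f6808200b980c6d03b9042b0172075703d106e0042204d103c6013707ad0d3401c1057b0bc20c230d760a3001fa01e2058a0692053b0ced0e190bc803880afe07c407480234011b0dd701f000ef009d0f0a0f760f9004730c9303e2012a0723008606f40dfb058c0f1006fa0b2c044608b7029703520cd007190c490b7b031a094004f5082a099009f6007707cd014b0a3c0c8f0caa088a07f7000d0a73024a0d3904ee0ed4025c0d2305730f0b005703000a6101aa038e03dc0c140c72023902e002770a5c0fb70e74047602830c2805de090e01c4014809db07ba023208960285035b08aa030806ef07c5038d0795050f09030d1e0341063f0b1a0e500327038f0df00ead05310eab0906022b07cf04bb04f002310e0e0ab2028e0b510c8d0634031c0b4601a008cf01fb0d5101fc0b31075a06260e87051f07300fc705e502cb0add0813045209b908d0056706440d5b088c037d030504780df908ff06de0fab0db7004a09910a16010706050e35083402b90c080e2a0b8b00ed06810d0e00f007f808f20654042e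0afa09b20acd0d7104be0a2103f90c2e0c730fbd01030d290dd302b1011202360f1e00400dc905f705c20dff08470ef6068e074602dd098f057801bf0b77063b0d6b0c83086c00fe0fb60f6008b80a6e046d0ac40b07073f09e70ea908820e4a0df104e60fc9044d0db00427052f05b804860054032e0b860fbf004901090364012009820b100827079f017003af0d2c011601650c0400100e4f0b2904150114053d0fca07e203400bcf047b032c075f0e1a02a80e0d062a01d00da903aa0c430c3503650a6b08210e39035a09cd0e96011f0a54077400ea0115073c04060e020d58089503fb09790d210e6908fe085e07790209088e05f60dbc08050cbd05df0401021606020a6a061d07aa0f3a0b9f05cc0d3d01a50ebf02740a97099b09950166013b030f058409730a62042a07b00aa60eca0a7a03ef0ad706d6000600ac0208008502580dae06e108880f89023e00840dca00d509870adb0e130d6f072e0994078d0b570a4e02e5074d04fe0da207760dfa03a6080007ca09690dd40f940d0d056b0c3f05fe025f0e6b0c9006110a270603084b015d05760d750c990e170144021f018b09c703b10e320d700011051003260c500a6f03690842003305aa0e7005cb08100b820d7706f3008702ef003b0978074b01580b4c0f8f01d10cc80f3b0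ad50036088301bc01f70b3a0731067c0e7b004d06d704f80d250b3b07ce081b01de04ac0c7a06cc078f0aef056e02fa08e10aaf00300cc204dc018c00250290074c0fc5004709ed0061043a0d5c06c708570711096101e106e200700bc107380726034508080b8501d6033a09cb020e0ce10e830da00fb404390ebc0a9109b005ae011e0b7f02e10e2b06d00c030385016d029e08d40f2e0a3603d9013f01a1029f0d74055106db0fb2073b0a2e01130349074f0e680f7c07cc0ea40f3e0de809de0f3c0d9402560557018000d60c1f006a0cea069f0684045f0f620d450a9d04540cbe06ca03a70db60f73073a0f7a01cc0ab508a300980f6b0aaa0d5e0bfd0b840da100c20ec101970c020e8f07140e890a56046c04c3059502a209b3046008910c0b095f055b0a6c04d601360af9097104cb08d904000b3906170f070afd09fa05c5087d03c208300e540b4002fe031b065e00ba0d2f01cf0670000904aa02950712049308bc065f02370c13029607a601900a8a08cc02bf07490fcd0650067d04e708f50aeb09af0efe0ade0b56053f007b09570c2d0151038c082e0a410000039005ff01620ba409f00a4d0754011a035c02500a4207000f0c0dc6078802ad08560a4003c90a680c850b1d02810d4807c303fa027c0af50f320d9b0f960ef00d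c00c3401c006990e1b02410f7b0f4108dc0d3b08360f8a0ecf01f9073e0e2903cd08de0d5204a10b0f0c18034c03b509c3022a0ae70e1f05c70609056d03eb0e1107d2002706c30fc000dd05330320071c01f4064a03150b7408f70504033605ad0acf09320e530bcc0f5503870f5b02480e6c0f040064025a07a401260b4d03210e8801220e4207ae0f5a00b2074509c808760d590c62008f03fd0c1c055a05600dba08060ef70c19096b023b020a04b70418054500ce03bd06dd0a8e04f20fb90f970d53075b0c060e450a5d047c08f0008c0f020f9505f80189056c0f360071061906cf0041059d04ff01fd068c02f00b6f05ed0dbe098904fb084002f2019a08fb091a0643052b0b450d62050b047a002b03ce0996002209d60398046a02e307fd089f005f074a0b33039d0a8905a3033b053005900af3050104d8013903780c70097c038b054107180a7e03430a8d04280c9f032904b90c94041d03310e6d091d0c600f5f0f4c05f5019f00e30b6606ea01b10d43003d04a3097405120ce00d1c0def0d6302ff0171062c06150131026909ad0846021c0bf10ba500040af60d3f05c9086e06450eff0b2709a0013e043108790ed106a503b40016078b08a80f7506dc07610bec07e3020f02e60667004e00f20cdb00d003dd03d6043b0e7807a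5099d0e6104ae04a500dc0d3a026b0c0e0c5802f30c330ddd0a020656038408e80ef10a0e0ca805a10a0a07e60b3e0f9c05b9075d0e8102ee044b045302c6003404d2010c030106a70d800ece0502077c01ad0cb906200391087509970c000abf0e34049f07c809420d880ef809ef0f29001d0de909390de506c000c103e10d3c0f1408db0e7c03b00f8d0e5a0dcf0c010dec010b029a0cfd0b5f0c2b0bb20b9e05a204ab09e30fa409d2037c01630d600e0c037106ff0b020ee302df03f40b14005b0b71094a0a1209bf070f02600f4e0080012704410c780faf04e5011d03d7002c03c800f80bb90f030511005207930bc40a2d00370a3703cc086f082f069008e006860e080b0e067601a402990c360936083a031906660d780c31009005370c920d4406e805490ecb046801f20abd046705590b3c04b00ce3097b0f22079a0d610e9209ba0e58058d01f1068f03ee060d0b73027d05660cb2072d069304550fba0a8001330ec0007505d6092700cc0822004204ec09b70433041c001a089202eb01020b810c210efb08020a1908240673046b00bd003202c70b8a013400590edc0aa3099c0f4300030d8206d30f1f021d0f3306b706b507550f58060f09e20ca60dab02f80fd80cae09c004a70a9c079105970a9f0db208a1027f0b220ab90b23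070a0d790a1a0a4f0fd2044408a6058506380cd6087e0c7507be0c2a03f50f8706c5024b04cc09d80e790ad9052e0a60094f03ec09b60a3202d6092e01ae0f490daf070e03140e7a05af097a0e440790015200880b5d0c6b0c9d09e408b10858063c09350a2c07a806c403e709a700ad098102f502c004cf01a80e0a051e0d9c0bf70894039200a1089d0ce609440d8f04970a1e0cb502c5091905700c240df305a400170b0307670a110cca0a470d1603b70cbf09eb00b50aac0ea508fc07d306a902b20ea2031809bd07a20b1e0ae908e70d81096a08d30e100a6304cd078707290521002e069c0d690039022205d508b504c20f2703530227019e07940d9e03830bcb063d0f590d0904af0f630a070ea307640f4509fc018602da0614064b0f280d33023c0640009500a8023d062405d8011001b9000701420105028904370e660cc000c6013a00e2032a0a0f05b10cfe09d700ae0c570b960e3101e90be8097508a20d3702100b30079e081c00230f5c0579081103a3010d0e0f083c04960e2e0e21085203fc0bad0c370e5c0cf108cd0c6402e905220d0a04d309b5029404980ee907130035023a0ab001db07bb07c20e6a017a0cda084503f30ac1090a007304a204e403720e8202a703d305440213068904f7002d0f06048a091c046f0f4d0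3ed09110e150211001508c80caf0c840d41077705b506e30aa00d120a810c0f00da0c9e084303a40d400089066c0f3f0ca707980d6801b80246020b079206470018027b00d106d20d9209180f5408850410060b02ce02d4094e041300b4081a0d8b0c6e027e085a04c707660cb706be0586053c0bfc0c460f85019b0f390d9806e601f803970daa01960afc008d0f2009760a650cb607f00dcc0124014d060408a9095405cd068205fc0b3f05eb0a830de3024307630e22064c07010132016f0dc509fd072107ee040f00bb0adc0db4055300e600c3029d09500bd30d8604ca0e5506a4003a08d6073405d904fd0dd209d90160067b01be0b910baa0dcb07de00cd0a5f0f4400c70aab034f0a7806c8053e014a054a0fa00fcc08c909a404710344001c052301af04300b830750076008b40c8e0e370cc50dc101b40c760c1204660b0b0844025b0b38067807d901b50eaf059c0f93036207440f52071a048701ea07a903cb0bb408500e140f35056a07b70b060e670c540287042c06ba028c0dfd0e9f00f503be0bf808650e8b045804db0c100451098b0b5805b603f601350d040f9d0b13014002070e180bb105c101b2033e055d0c05066d0e8d0acb095d0a8600680c1a04a90dfe062806d80ea002ba037a03770f4206cb00050c4c01e3002f05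82090c07b2030306f00201036a08730c3c0b0104bd0f8e0f6e0f370fc406bd08ec0a44049b030e07840fd40bf300240e95041100010a0d05800b9400a60c4d0ec20e070bea06fd0a8508c70cc90f6c041f04bc0f5702e70ca10cee0be60c98094b0ec70df20fac0c1706bc07f9066b042d0fb801640eeb016706d402a5039301bd02380dee054d03100b7d05f10dd601530c1e04260f710c3a048807bc05e801dd06390f2500280ec60fc80a260d7d0ef50ddf005e069e028b03b80706027204ba00760c6502760bdd096f0b9504c008d106b90be204590e76079609ea09a9057f09ee0f0d0031092d0c8a0a520a0b0e630a290db9085c0ae20eb4068d0ae10d8d0ad6061605980a98056f092a0d7305360e2408a7066106230508099a08180aa5004c0f080e30012d0f4804b40b420138034609520ba10a9a0b280f4b0cf30f9a0a350de70244096d0b150ccd0f7d051a059203500b9c07b6092b01c709ce0bf502ac0f300b04009b025e0eb20062079d02530a1502510be40bde02540c9c02d300db00d907d0036e0596031d02af09c2067e01c509c60c810a49034d0f990e2c0e850bd1086805b00d010c4a0b750f130a080de60b1f044e06f6072b08c404d50762049505f00307085407400e990b5a045609dd060806fe0d560b930dd505dd0d4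b02db0f5d0946009e00ab05910f1601830ca9075c017b0df80d0701dc0bdf0bc9035d069b0bbe067a0b210a3a0dcd02d8042f029b0dac00510b8806f508eb0547022d05ea03c107780bac089e04f606640bd40d0604eb07a3001409580470007e00af0a900eda032b0dde0a3f0c9706b80c68071500a00d570ea102910f1d06ec057d005002e20b6c09d309ec063002b30eae071f0d8a00b00d1b0ed30e5704120642089007a104350d2006e405fb09b40c660963018d05480ed0062502b80a6607ec00630ef3048000d4096505bc01b705c4015b012f066e04940fc30a5a0e8c0472070b0b350b500c6f04030de2090d0c2c08e607b90998088700b609530c7e05d1026601a90e5904f1084c04d409670e9e096e08a00df7036003fe0b11080407650d870e2605fa08bd03df061b021e06290558083e0e9401e40bc6082604e200c80d8305ec03da0a2b0168037b0ace0cb106060e0008320c53083d016e0c8803b30ac309f507c0076a0fa10bd7085f0335027105bf0d1907080bce00bc0c740f880eac0beb09e80a8f0c5d00aa075203e504840e2d054004f40f6d023507f30c9100c90c0d01fe095b01e60db306b605650550027300f7034b00530a3101f50cfb0b5e0f1a0cf90ca200a30b9004b10eec0f6f02d90543072c043804450159082b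051d0fd7058706180fdb059a00e909c1007c02c405dc0572008e01190899098a097e099e08f30129017807ab0a3b0a8c0f3107a005f40dd1006b01d803e6024504fa075606fc0e410ba60ba9050d07c70a180cf202f6041b0509036f088b062e0b69089806ce0b0a004801c80420087c0b5b015c0c1604910e2f0df502b40cd90ee50e7f0fb50141048202d50d2b0322015e0f7e024d0bd009770cb308370ba70f230772026e038003130e050b2d00740d2207420a940ca50c670ac8087f0ae30515019405a70d5a08690081068a0b470be703ad0af802040b97038205710d3002a906cd06c6044c0d890a6706a102550d7e009301110125069a0e7205f906d509b10f4705ee05170b920eb6074e050c001207250b8f03300636088f0b3705e406f90b2e018e08530a7208b3057a014e0c5b022907350ac7016c07fb0416025d09f80f15070d0a930ee602170ee806350bba0d38003807710ecd08e205390c6305750ebe00fa0bff0b7a05270302014f08030c5e0f61058800ff051303730eb3036b0cdf00c50ded055c0cd40b520b2a0c8c08890d4f0b8709d402190c260ea60f6402f4047d039c01540a460489078e004b09050fd6066902a60cfa017d0e490a4c01da04c50a870c220d8c0e060c7c0dad0797013c0b780a43,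
  0xfff0ffe0ffd0ffc0ffb0ffa0ff90ff80ff70ff60ff50ff40ff30ff20ff10ff00fef0fee0fed0fec0feb0fea0fe90fe80fe70fe60fe50fe40fe30fe20fe10fe00fdf0fde0fdd0fdc08360833059f0de40c4600e00c190bb6074d00f406b1089b011a080d07010a100b3008fc025a0c1d051103bc067900d8087700d406d20d570a540ec8085f0b8302a900cf0ea505ae0c9909e102d1073d0e5802e103ea06e00b4907220ed504a7025506c30b34023e0e2c05f507240c610c800bd70458052c07ab05c70266072b07640c4709c406ed089d0211091f036504950c5705ce02820c1301e004aa0cd207c90d0e08220ddc08ba086e0c410f850c04095b051b00ca05240176072109d50aa20e0e005b07950f9c0be906a40388012301510ab30b5b07c108610ef103cb00410f8d08f0098f0e320e44010102e501f604b20e41083901dd0e1609c105250953040a031f070b0b5c08f605140f020b6d09da052b030802fe031b06a0023604180f2409e4025f05630da60e7a055c00cc0d860c080b0b0e8e01c10399013508200e5b0a880d0507680fcc001f037008e10f92078c060c0fb80ae20d6b0b8205f90bd40080085d039e0da40b2e082b08620e6f07cf0ae703f007f80387053e00ec0e7e0bc4009808630ada092605700a990da8088c08810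38208be0c100f2808d3011200ed01f206a6015505cb089300740bef06d60f1d0f6206340309026008d000d702b40d98048003ef066201d6016b0f1606b20aee026d06130def066908da0fa5031a0e9d0b840b2708b003960a180999095109a20b010397048a02fa0bc30bd9086f070703c603950bdd0fd909070ed7013b07ca0d170304067c0cba0f230d5c008d0a860a20035700060efd0eac07390dbc0a7807a401af01e10bcb0dd60d2408bf0d7005a603c50b4a03370a0d02a20b4b07b603330c7d0888090904310ba1033f0e670fab0f9b04f70b800ef60be00d7d02b70a1a00670726090603a900e60e1b0b2c023f080705bb0218028b0a340a9e0ede0ab9037507280e0104a600a0004b02930f6609bb047f00a70f7d07c304bb0bc20ad8097c02d0069401ad07c409840f79053303d30ae4001201db028809ff0334007b01aa05f8076908a40aa70d63079b0e610a7f09500d600a090d840ea80a7a0a530571018908670cad05b505830c3b0bfd039d0c310eeb0ca20c290fa40aaf091b09710f2507840d10061f08d507f906a805a3023d0e870f2e0b9e06e4037306890ccb01720576047d0026018b045b0ba6052d021a06980757038c0ebe01da0aab09f10cb9065f00a90de8083c0f4d00880047078806b4015e0e06040c02960c9502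b006d005fe00890147029906530cef00b604ed03170b350463085a08b20e190196070807f100f70bc10cb60dec0b0908c80785080807d40a43077804d40bac017d00850c49088201a9079909cf049d01e308890b630994090006e5021206470afc0b3c0bb4098603d20a2d0a7c0b6606b30f9509c00802093c07130eb20d720df003ee0c78049803000790096601840c8e095c083a05500a280f0602dc06e30ef008c0067008af018e0c8400900d040646088305c80ad90e46063f0457095d0105028f097e09af0f07043c0bde0c680c330a40009b0f7b0c6c01bb0063071205bd0032025c016901c0052805460f5006280b900c650d9e005401280adf074305840db408f9047b07960f8703920d9309a8048f0e1e0a4d05300f820ba40c2302be07b40e340cb501930dd0021b0bab01df036f09ed0e860b390ee405ee0f0a0878074208550d4e0a1400a803e5095e0cbc0f86028408c408b401ae01ed0bb204bc077f071f01cd0ec70bbd0fda0f5d06f9090c07f60329074a03a8036c0ac304280c6a01040f0302300887013600200ca100d3074109790cf60ce00a960d5409b5097f0abc07a00b310ce605050cfe0a250a97063303f5025b0da10516046705910e95097b0e910f3008dd04a40cb10dfa0c770a3207730168057a0e7f04940501038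e0a620d7607d10f810e4e09df0a68030503fe07f7086c075a03e9049e0d3206580c030d1b0d8a06e70a8d092e097203f303d0039f079401a40cc709b20cce05dc0f2b049103ac00e704250643068e037b06360d23059b09f308470158055b014d02ce00d509920fca065201410aae0b5e06860690004d0f140a1f070d0b0806fb0a2c0ef30247073c0d2706de066e0b9901ee0749033a06f8011b0a5008170d2001710d350711059d021305d9007e078f0102049908b705d60eaa0a660f8a088a06ce002f022a0183063e0e4b035b0980087e07e5020e0430081e07040baa0c170d2b091902d606c80df90e470b2100f90b560fc40ca70b6a00970c5d04a30f3a0609099b04e30977003100f80bda033005be060205c3061106300ab20acf0c0e0b4709fd01b606b00a16070f0d4d05eb05d000d003d804470118042e0ebb032a06a90ca402e4058700b205e80b97069102ac0ee10c11030306c00932030d090f04df085b014f0b040f880cdb0a7404d2029a028604b60b2d0ef90bfc020300280156071c09ce03e10100054f0ec50f260fcb03190bdb0e510db60cdc0ed107df0b320a940e14079e0d740f320d2c0fc1060103690c1803bb0b5f041f0a03096303790dda00ea088d0650026a05ca08a80c7e04510b050f8402140c200d340cb407f2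0fb30b85037a09210c2f0fa80d580c820c60051f02250af305690b0e02e90a1301f00df70a9d073b093106bb069604e201b202c800ba01910a5c0c2d0b4e0f480758048b0bbe079c054e07c2053a05b601dc09be0c34051807480a3a0d79012c0d260e1d0c27019000100311026f04c6048205e50627047502d70cd60443084208d8068c078a08920c8c08db0a0c07d60e7105b30c3807fa0f540e3702d30b0a0a00086a00f10b720853040703450c9e039a02f50a6402c30c1404a20fad0d16069b08370a690e930ab70b290bfa025d04460c8a0c6b0c3c076d04b108160094044c05480db10b4508040d0f01800a480ad2086003af0177066c0fd50454044006a707b30e5a0301008a08bd01620e0802f306a303cf05e20f5808a300c403fd0316074b0ba900c700550bee02100b7509cd0dbf0cd00db50cc10564002c0e5e0c670e6801e90435010e082504db05320eb90de704fe02270e70038902a50a5609f00a2a0d1f02950da20a17084a0170020c073707ae037107bc01b40c8109400f8b0d3e08180b70010b07f30d9005530328010601480a67015704c50b5d0c4d08950d3705e106650f370b920363077a01e40faf08aa03b0087605310f53006a051e05b7035e0bf6016d0c3d0e770e810ca807400e6c07ba0e040fc80dcc072a08cd0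2970b6209480a790b6501150f1807a60dc4019707a504e4023a02b302e00dd402c7043f04ab0a4b08c2059c03a304590a6a010f0c64092c0e4d01d204b306fc09a700b00c010347099c09ee0ce90838046e0e0900680a5f0b0c081d097a0ef7099f060804020cf70b2302090b1f061c07e0042002ef0c7502750639052708f20a4a04cc0ab80c9a0f4b06e808ae05380dae007605f1034109f60bcf0688006106aa06410c5405540ba7052a0289011f086506b608800dfd0dce0537008b028d02440d4506a20598023b077e05130db90e430ac9019b061a05b1000703b701030ef201200d3007250d430f8e0bce05c20edb0879079d0be400e4012409880ea004f1084507e809e00d2f0ab602c501850c02071b07ef095808a100bd04640f7301ab0aa90cee0fa2013804dd0002067e09c604f808fb08350d5205950bb1060f0bc70e8f0e76043a04770361052206770db3017f0bea02940d3b0e520dac0ad1065509b904840ae9000401d300400ece09dc0d010215051c080b03a708000aec06310fc3056c0cf30fbe02c90a8e018701490e65002d062001a005570e2a014e09690c9c06ec059400b809450996076e0f210c970a12058b0e6d04ff0f3503800c5c0eda0c0b0b78022b077506400ddd0c5603c807700b140bff04cf00010b790a920d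390fd6095202dd002b016e007201070744046a092b00130d9701ec06c10bec06970f1905400dbe07350fb107eb055602200ba0087a0b400479079708ed0c9d0a650b4c05e30bf405450a1904880c3e016706fd02b90fba0a0f010a0d6409d709a300e9078d0257050f084805fd09ef05740d6a060409b10626063d0c15028a0e92067808ad00a40a9f072007be01c707670f360de9072f00ee054b037c016c03f104e103c40e18041e0b4102b101250c9b01980bf30bbb0a010e4000be0ad306df00580b7103c3041605960a910864028e006401bf06d80e62076205600a37067101f1063c0f9705a907ea02ad0449005c015b0ce807fc0dab0a5a0d2d090b027803ff0b8a08d101780a9a0f9009d60d000f4709290d5d07870d07091206bd047204c208850c9f08e605da00920fbd0d670fd80060009505f00f0f0d830bae0f13007704f3098a0d7b00b401270bc603930aa3087004690cf4007d04f40759095a07b5020202a8093306db00de07f00a4106ae01750df204130287021701be067f063b062a0c760ae500c9084609650372001504a901fb0961022c0d25088604f502700c45023707dd00160e8405390afa04be0c960ec10b6f0f1a05a805e6027204e0054907b105df07b90f050bdc0d280a900c8500ce00c503cc08a20cae0e60094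30283036d0cfa0f4e0b6c09fb05210b64032f09180ba205dd0d9105de03e805a50c6e0e56007a03f608ac000a0c830a81018800440e8d0c0501c509760e850908066d0944051201d0087f0d6e05f302f203b1024d0a6d076b0f9600790f63069a09f2067206ee067301a108d20c09038a0aca0ecf067503f205730c630df80f3d0e27021e02f401d105ec08910bf10e3d0de504c40da906670841093a01290d77072307e204f003fb01fc08d900a609b40eae02770ade019a0f5207e30ec30b48056e08e703cd05b202e2059a02c4099e044100fd026b0cf905cd0ec6060009eb08f7074f0f27032604ce0f4000f5000e04c3048106800cc40abe0c39057508b30e9c05a0090401c30a6008b807d008a700bf05990a5900a10b580e5409cb047e065904fa06b7089e053c0c7f09d2044d096e02730eb1000c018f0be508a60e22007c0b81041102f80e8a03830b5202c00b93081c0fd40e720c260d990cfd087c0f8c097501130ddf059001340589054d00810c790b860f5b051d05b00ca00987001801f309ec00d209ba070c08eb00490ed9073009e600240239004e0a1109a0078103ae03f40dc0049b0832037d047802c207da0dfc001104ee07ec0649060a055a09b6037e03740621029e07720755096808ec033e08e20e3002670a9b02bd0a89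0c5002ed002e06d30c91029b0dbb089f0d750656016a004c0aa001990e3807ad0a21083d0937035f0ecb04170e8009c20a520f0c0c7b085c021d0c72050905920c53006b0ed005ff086d02de0456005d0d440320052f05350c3a08f3080909d1050e0ae109470de10c6f0e4f06640b5a02400af203ab04dc0b3b04d00b160ca603130e5007710d680bf80a230cd80e1509e7003c04960f4a0fb40d0a00620274025305850f7803a00814025607a20985013307e90f0e0be303db01c90a5b00c206420c510f890a49065700840ae607a10f5f017305970a840d400a240b4f06b508c703ca0aaa0cbf0400015d045f0b7e0be20f4c04c1034d059e062901c40d030a2b06100f5c056b0bd001400ee007860a830ae00ccd0e020f490b1d076307bf0f5a079802bb06a10248097400870caf0b8e081f01630aad017c034e0f9402580a360ba5058002410663074c0f330a720de60e9e040e0b8d08540b7b0d8e017e058109550f4506ff06f306f1009101300c2c017404a008ff031007e10eef0c0c040d0d96024f006f0bb7094a07b0092408c60e5c085807600b6806ba0e7400af05170a3e04c70a550f3b01a6014c08f10774008f0c520b9a034f0cb80cc301f4014208240250073a0ce4064e05ea03600644048506fe00a2009f062201220ba30ac00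0e303e70f9d0edd04e906f003d109950056041906850960018c0e8c00fe08e90a390c5903de0f1006b908e306cc01940afd09b30de200660b510b670899040f0b590ea60ac808a507c00f9f03b40c060bb50bb00ed60324056d068106e1095f0af007d3089a000d0fbb015f0f56046504ad0d2a0cbe0427002a032c0925093009a406cd069e0ea10d4f08c1041c02d4082a0b2403a5021600220c880f2c0731020a042d044e0c7c009308d4063505060e9a071e0f770a3808fe094d02220ee803860eea0448045e0e830d7a058206eb02910bd107170a4e07cc07100ac102790efe05ed084305b9024c01090a710bb80e17096b0baf049c0f72009d036a04260c8f080304710b1804870aa10e820f3101b10254017a0fa60207030a003e062f06f502c60c1601d70f6f061d0cc9046c01cb0ec0072c0dc107060c4202a304ea016f0f6102a40d080e3303e205fc03150bad0436074505cf0bb30b2501e800fa04ae092302240c550ab40c0a081a00050a5102510bbc09bd0fac0e2d0f34097802e70b9d041206da0b370fa30b9109ca06be066608bb047c083408120e4900dc0e96066107ce0f6d037f0fb705bf089803060552012d09810bf70cb709fe0dba075f05cc0d6f04da090a0e2802630d9f0c9301820c6203b503c10d8c081306380a7e00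3b0fc70daa096f0a870cc600dd0d880bd50f29070a00b50dee0b1309ad03d40bca01520a050c1b0a3b0ee20f710f440021092d0eb702ab0ee309b00186067b08c504740568005a0b4d03230d490844061e00da052002fc0c6905ac031407aa03b603c901ac0e240adb0fa70bd30f1f02690d2e0321008e046606b8085209d4052e0a0601e2035801c8034400cb0e2000f00a3d0e230df5014b0eed03dd066a040409cc0bcd03d70be106ea04330335082e01eb022d02450c2503c00dc70a0e0715084e0034038508a900c108d607e40078035001650e480f460b28007f0e9409f4041b05770dc50e6600960bbf0780068704100da00f080d13080c0cff0d850dd7020b093f0d56013f0e2f0b57004f0d3a02e80ead00a502080c000e1a060b0cf00cca005e0af80d9c0be70394083109f901310d610d0c0a6e083b047606fa0a4702a10989046806ca06af05b4011706d40e1f0dd90efa03fc001e0b1c0ac202db09ea075c04b50d4208b609a90dd502df0ab50f9905d703560cd7054c0801039b084b09590c9202cc06c201a50ab00f7509730fd70aa50b4203ed015007c609140e5309fa030f02a005ef0c8b0b020e120d3d0f590daf0dd3083f0bdf0bb90d80033b08e5090d0b61026e0f2f078b091c05720b6003b20d3c057f067a0abf04080dc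2029009e809c50ed40bf004ca0e1300b7034c00430f200617062407db054a08e402310b7a08e806ad019c0afb05a704fd00b103070057033802610b960da303b80d6c05c50e03058c071d0851039c02f7004a096d02b607890384077608660a4f012b0b9c0cf10f090ed309aa0f390b760d5e0c37093601450d11050c0e4209d00af7001b08f8000307d9093e067d0d470d59073f0d9503ce04220b9505620529038b0eaf05b80b9b0cbd0ee50cd10bf50a770ca9068404520f1202230a8f066b0461089605f40aff01f90f510f0b06370a1b02ba013a0534048605d30aed0b55001a0cf501b702e6041d01110205053d01ce0b74091d0b1e064c07f402fd06d700cd098d064503f90f7003c705440d290a0801ba0f0d0b43080a0515013c0e750a75069304440d46099305a2024305f603ad07ac05610b7703390195011e05fb0252065b058e093d06bf0a6f054704ac062e09f804d50fb90eb405f2046d036b01f7092f039807500039082f091107fb032b08970a3302b2044200c0045003620030051a06c6073208cc05db05f705550ae80e730f43094f08dc0ab100ef08110b0f04210f6001b308490acd0e070c8d0cd90a6b08ee0ebf0f83005001920401023c09de065c084d0cc50fc909420b54001c0510090e075208590b690b3a0e980eff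0ad404e505e7043b0fd3028000b90f6a0f68049306c902cf082d0489096a0db80c6d0b7f0c220b890c2a068a0f0405c60462040b066f004601de0ac60008011402920a0b055809c90dea065a015307820d3804e80fcd03aa0a2703a601100d1c04c80b1b09490bfb045507a9045d038d064b00820221050b060709340381048e02b80990067602cb09ab093503910cdf02590b0002460d1d020d0d4c05bc0cd3027d03670a8c0fae0d9b03460868000f03e4015a089400fc0e3b0d69003a04fc03310b3f01b9031c0efb0ebc08190f6c013909170872065e061b04b90e5703b307bb06cb0d8209050f1b0ae306d50e6a07c702a70eb6019f00270ce20cc805af02d90b9f00710705027a038f0cd402040126056a0d6206e906e201a20cfc0a420322004803640682065405590017094b01b50b060f6e04060bc50460035c0faa06740445006c07190eb0019e0ddb07e60e5d01ef015909f50ee9078e0e3a070208ef0de302f10eba0dff0c8705c407a70c3208b5077703dc0ad60b6b00090b2f0e63065d0ea30a630f9e06510b150a440cdd05d20e4c0823033c0b3303e30fb0066804530a4c0d330dc6095406cf0cfb04ba05d10af901d406ab077b0aa8048d0d6d00510aac0a7d043e000b044a00df07d201e608ab0ed2043703420afe0473022f0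53b086907dc0f80032d08150c9001460e5900590840093806a504e609e5061205aa0e0a0541039008290e290536035405fa0d180a980c280aea0fa905d4044f03e6061808f50956014a03a2081b092809150e900d81075b0e1c0a1e0ef800e5050a02ff09db03510f6706ac074607de03760f000ad70a8a0e3c0b3609bc03c204c90fd109c7092204900f3808ea01ca09130d550f740f3f02da09fc02280ea406c7061508df0dd80e6409b70ed808560ebd0414064807d80c4f0b460caa05c90cd50f170765079a099d068f02640c4003ec08fa024900d90e9b0efc0cb0047a008c035d055e04eb090203250fcf027b0fb20ee6031d08ca012a0fb50a07053f015400f2027c0ba80d780bf20434072e0c8904f608750a1c0b8f05510bed0c43016607560d5a0fc60c0f06e604cb0e69026c094e013d024e0d21049704d1048c04bf05ba0ac4045c073309640405092a098e0c5a0d870ce706bc0fdb069c075e0b500036069f0c4401080a950ce10ec40da708b1058f098b0a930b7d0c73070e0c4b042c01320f7f0eec09c300d606320d7300c3089c07fe074706d90b7c09d80c4a00b309bf033604290a3104e70c1e06050070084c012e0bd201d500f303480ded0d0d057d0b8c0d8900bc08840eab0a820a5e0ecc090100eb033203d60343011d0e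8b04230b3e0c940b22060d001d049f04b4009a031e02d50ea20265045a0dcd0c0707c80d7e09a6062d0982011c07030acb00ad09b80c7000ac02ea0c4e0d940e2b0d7101e70dc90fc50ef4075102bc009e024a07cb0dcf0d190de0094101610a020dfb076a02a601a800690e0f055f0eb5064d01b00a15013e0d0b057e050d022e0e2e013707d70bd80e9f00c608bc0b26030208740c58011609d3049204fb084f03400542087d00fb0734021c007304b8086b0c2e024b01810d5308cb0acc094c043207b80b73017b0f9a04c00c2b0a3f0783088f01f5030e0828003703530c1c04240f2a0a9c05e004bd09ae028c023800250ea70b2b01a700a3076f0d120d8d034b055d0cda0827029c05d8091601430d3f0b0d03a4056501fa075401fd009c0c36006509c8081002cd0fd00a260deb07fd0a0a0cc20e3506f20857032e06990dbd00e200830ccf0603062c09910da504830e5508730a3501640aa609a10aba0f150e110716068d02330fd206250cab07930970035908300dde093b07d50c210234074e0fbc0eee0a4503eb0b190d660d090fa001bc09570b2a0abd0e890dc801fe083e0378031800290f1c0f3c00380939035a0a3c08c9061905a1026805a407920eb803df09980bcc0ce5052309e30a610db00df401790cf803680ad50f420f9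3080e0f8f04d9087b09ac0042023202aa01a302d2030b0c7107af094606830af50f2d0e7b0f980c4c044b0c480a7006f7041a0f1e059307bd006d06920a2200bb0b20042a0bc9012f03a101b80d920b07077c07ff0a5d0d8f0a300b880e3102ae01cc0ef5021f00990d3608710826080f0f91056602e3025e09a5069506dc0e2108a0050007ed0d6503bf0beb0a040f7a0d480a730d1a091e0c3f0f41027100d10ace005f00000e0b040904d707ee046f0d5f061406ef031208ce0415070004390053088e08fd0ced0df60f7c00ff00190b1a01c20fce09200c5f0ee70df10fbf060e02350ceb0d2209dd0d1e02eb0ca50997072703be075d05c00c7a04ef064a05d50f6b0ac70fa10be60616097d0db20dd1027e0c1a01cf0709049a0160012108b90d4b0366057c02d809f706060014011905040cea0d9a0b170e0c07f50e8808f40f550c5e0b0309e20ac50aeb0c3501f80e100cc00f4f050307e705190f6403d507b705ab064f0cbb0d41076c02ec029f04cd0abb0e250a7b0dc30c3001440e7d0a2f0d51034a056703ba071409670bc8028103f80d7f0e3602260d4a0c860f650dad05070cec0718003f085e0be80a460eca0660042b010d0db70bc003f70729085003490f010d8b0cb2018a00e8079f021909030ea90f7605260e000eb3056f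043d073e02f00dd200860206072d046b018d0e05063a0add0a5808050a290d060af10355054300db0cb305e90edc03da00aa03770e6b0dca069d0a2e08cf0aa404d8079103bd0df30e26033d0af4057906dd057b0cde06f604b0036e0962020105e4099a020f0b3800350d020f5e0e3f09100b10073800330bd603fa0a8005780b3d00ab0fc202af0c0d098304ec0cac0c98050205ad04d608c30bf904380e0d0e970d9d06f40e6e0b4403520e4a0c1201ea073602fb076101ff0ad008d70075062b0a8b07b20e9909270b1200f60aef04d3098c08900dcb068b0a1d0bfe01d908060f2207c5091a022902b50edf0ec90d5b09d90e5f005206c50bba05880f3e07660d7c0f570c7401bd07cd029d0e450b8b01e50262058d02ee07790ca3027f0fb60e7809e90adc04f9006e00230af60b870dfe042f0d140b6e02ca0753003d027602000d31019d0b1100c8082c01d8032708de0045015c0c5b030c01c60cf204a50e7c03e0088b04f2058605c10a7602f9058a010c0b530c240e3e028500ae06c407a30ce3024204a10b980403082102f6077d0ec20ecd0fc00a6c04af0a8503d905080b940f7e08e006230e79047003b9071a07a80f1102bf02c10f6904b704de096c0a570d1504a800e10c660ccc0d50029806d10c1f0e39,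
  0xfff0ffe0ffd0ffc0ffb0ffa0ff90ff80ff70ff60ff50ff40ff30ff20ff10ff00fef0fee0fed0fec0feb0fea0fe90fe80fe70fe60fe50fe40fe30fe20fe10fe00fdf0fde0fdd0fdc0c9509850c1309dd09cf032509260efc05e90a81040909e200ad098409c40f41076208ce0efe026c015b095c07e8076b083b093b0a0e038d015e0f220d0c098c03a40920020d08bc096e015f043e0a3b086a011e092203210512058505c5088204c604350ca40b03000f06150534027504fb07b603ed0ead06c6015a059c07f809de0cad07010e5a006600aa0e6b061f0d8406e80a6907f6059f06a506a80ad2066d0d170c8109cd02bf0b42054204610ea70541086d0e5302450084064404eb0c2009300c3d0e4601c404b40b70056101740d030eb701ff002b0f3e0ee60f23047d0cb704c40346047c04a20a0b05bf0dca03dc013307ba0dc50df902530f470b2204e4095a0a1a0b530a3e02a70e240943070607e70ee301b308090242047e08f30c6d0de909b00f5c010808270be3058f0cb20fcc049a06510f6e0c7e0d3c0099026a09ab0e7f08da0c080c9f0a01036d0c420dee0f030e7209860045078d09c20a0a08a00ae70cba0bf1055b04a10f6c0fbe0b3d085d01d4072b062c01a20649076704ee047008c80a490c190a21001c016b0e0c02260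04b0b540ca905980e7502d309b800a60cf70125060303fc0f30066103f4007809540fc905e60fd40bc604ad069a0e7103fd042504f905790da8069703470a3900b7093d059e015207680aed045b06a20d0b0f6d0a950d4c0f50095d0e25055a08dc01940948065e08b701a50cae0bc1013d0842058101dc083708f4065c0e760d0e0ebf0682039e03cb00260188007b06c809ef09750b1c0672055f0b1e0a850ece010304a608a30c150a1301be04370f7101ed0e690dd407430d380d340bd7064e0a3c0fa00936042b0ae30401034e0f8307fc04650ae906e203a20a0c0503070b0a1f0ae8009a073002400d9605bd098d0d42048e03c0060e04f30db70a73053103ec0af40a2c01e1070e038202b20db80528096c04a5040404a0081c0c5d0f380a11038b040c0bb5024b080d0cb406bc0ed00f0b03b20c120f2f0ef806810a8607a20dac05fc0f9500e30eb500e807d9030202190dcb0b130495055e0b9205e1019c037f0cc90c470f9803420bea08560df205fe0b670f8004230c2e0ca00ad109890d4704520c7a0365029c0d5d04aa0f780d8f0bde023704f2081e07e5052e03800a2e012400410d5c09e7031a090d098a06cf0367099806ba06600dd20b1d004d0d6a045a07760d1c0b3801fa060d00370ee10f540a54035f069403e5083606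2202670c3107b505dc020200c3033e0cb80c1a05cd07830d58058d023a0b2a0746069d0f11044f070705650adc0d3e0863043a0a04021404420cec094e0b1b061e05fd08de04a704880f5e0c4609740958043d0d1108dd0e5608b102be07fa0f3103f300590ae207410f490482096909f308a4016907610cb3088404a4020707c801950ba308780a14015807d0038e0a1b03bc0eb406710e30029f0540034f0a650be8018d0e640f63071a051e03bb07ee0f5f0d75057d0795077404b00999046a0aae05270cd101410cd00e870e910c7209ee0a8f01910b04085c08b302b80b2c08740e6d09c0010909bb0ef30a18030c022b092100db06cc027f0d180a0d00d9051c012d0b160d8b0c070bf305a70e9905b20577058c02f9089606260e45021205d504140d9a079405f402170c0f00f806fa0f93091d03770abc0445033204980bf503f20c430300055302960d6e03400dc40519078006f9077a03c501c60d770283060b00420e2d03f907dd01a708b401b5028202970249037e008107440a4f0e480e3a060c01a007f00e12047a09fa043f03d20641022e042a0cd8048d033102fb0ee40af0062e039c0a630e4d090e037100c403300e96084f033502380e0709c90f3c0c68007409940eb2008204e809120eb10c4d037a06070d05072a0a8b018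40b3601540a76065604f5076c0af10c090c2c070907a608760cfd00b208ea00680e2a06f5025005020da00f8a09a40b3c07b7017501930df40160044d0ecf01470fbd0ee70593000803ef0cfa07250d300c510f7207b806b300df07900b2e0d200a9d01710d07027300400f07028f0aa9070f084a09f105740067087d066405ad0e01054607cb0c6209b30350057c034107020c670c7f023101bc0a460030014d00d508d90b140a4a0d500937069f09ea02d90bc00bc30dbb0db90227092e01ce088f0a6b09730e5c052f014f00930952036303730bfa041c06e40ac907a706ca027e01860f270a200e160f6a024301420e780de20f4204780af70bc20ed90f9a005e068d010e0f0d006a01df056e03f50fa900a503bd05c20e500f350af2096207ae06c705e508cf0c63068609c30fdb096f009d05c004ae01ab0390053a089702700b3406230675049e049b036202cc001307880ba70f8902800ce20f3d01f40ab50bc90e4b0c6c078709cb07190923091c06200db6056d03b5075b0b8b0f4a0c7902f5062906c10d3b0ce305df0c3808a50c980ce90b0e04b603da02690e80027b01e20ab006ea01ba0b0508c2072f0545044302090d040324052608aa0d3309950720045900430c220e5b0df807ef03990d7b0f32027d07d40aa20b4b0f7900cd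0aa00a8701680c650198053804630055085904540e1c066b0a000e5101ea0d240b2607b902ce0264098b01480abd00c200650c4804200f7b0a8e0bcc03280aa30b8f0e150f150b1505f002b90ebb09f40fd90e730af605490d8700be0529005106b60a3f0d250f360d990b6f007302550a7c01b60955004a028d02630369039507fd0cc20b7c001e0acc05b30d7d0a9f0d9808db0f26064706b40ade011204ca05690e5802c70dcd067401d1026b08650f44071c00b4039b05960e4407c606db0b24090705ce0b570eb009f6020e023500d6041b07fe0aa407e4083400180c1e0bae064b0c7b090a04730efb0050088b0cd20caf0ed80cd30053021e051f0248073a04de06ed08c3029503530e7b03b70262003e02f60902028a0bcb06330480032c03fa08f709910c8205b102410a1d0ddc067f043c06d80559003808c90500074900860aff06c304e3045e08fe079f00bb0e6006730a660c1b07ff014304810c6e026e0738008a02510a310690029200830a270b470a9706ff07de08220bf908440b09093e06a403f8004e007f00a80b4e02c006bb0f750c0604150968077300fa08900a5302a80e540a7a087e01ae05660a750a030873075a0ab9087f0031009006c206fd033b0bd8005b06660f0e0f57038f09f908390b410b730ace04940c3e0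3290945048a0b8108ec06a10990086c0f860b4f074f040a08b20f210d15033700f100d30e2906680d2c02660c8b00ea034904fa09ec006b0cfe07590dae05f10e0f0afe007a06b20c2b0a400bdb045d0f5b050c0658024c0ec10e2f0ec40dff06180497079206a60d9b0c180cda0e63093a00ba075605ec0c6102fd097e0150059d0b7a08400ac204ce0c570db20fa804b304d606fc0b990b2902bb06fe021d0770097902230cb00c1107ec0e8d05430c9e0d260d4b083107750eea065b02d707510ea40e9d0f28098201ca053c0eaa0deb070408d103a70bee0a6f0e0801af081302de037b068e0166075f077106110f8c0e4f00ae083d0b4d05760bf705fb08750cbf067906930a38014502200a510b0706d108a801e308b80c250d8101c201180b5e03b6040d05670c7c0717067a0a6c094b0c5a08a90dbd00c1089c07e903810cf507ca07850a6105560bd00c1c0c3f07a10c3b0bf401000cfc05f8091b040804ba021c0b8008300ee5065207a403fb07ce09e30db40c1f061a01630d2e01d504dc046d0c3a0e6f0ec00a5c03dd04b90fd2008f0286023002810c0306630b6608c6001d08230d2a0b62040e0e9002b309ad09c80add025c020b0ab20ccb00fb0f9100dc05cc0b900dce09b40d4803830aa606aa0711013701320a84024d05c400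c9024e098008ee07c10e230b6902590ac301050d5e02ac057f069c03e10cd90f16003902dc0cdf0258089104e6036102c50b250c0a0f5606840eae0fb409fb0ef00ac603600294060109b701a908cd0b86035e07c20e3d07ea0e8c09d305af0366087b0b82024604b80964008503570f140cb90e9e05f60ba4080a0dd60f58036b0da702eb092a07d60dda0eba023c0e7e019009e40fc10d9f0ea10f650f2a0687004603b8057b00210e040b6101550f340c2f03920216037007980a3a0d560b5101ac08bb0bd609130c140de605d70cf209570ec60db501de0b3002760cd5055006e60e39029d07a80a0f0a900fd00750051101270f9b0fd80914061406e9094c09030432019b034d01ef0a2b07ed080505250fd707f90f8809920c7700140d3d0a7005fa001f00fe0fcd0c960f2b08260dab06f204d9054e02000da9044c03d90f090a34052d04510a640ce808d0050b0f48054c085e0a71018f0f3901d2031f00890299066504f00d16014b0887031e0846039f039d066a0268021b08bf0dbf0e33053607cc0c4c0d3906ae09cc0ba80b44045c06dc0e970fbc0c270e360e4e06a907860f2e0fda0fce082d0ae608e30a5700920b0c0311089901f803090af907600518063a0ec50df70cca074505f202ad0c940fb702aa0e8500bf086f0de70b6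d077f08e106430a2403de0c9d009c02ae00b309420ee20fc603ae0f5906d70df609f009000c010eff02cb0cc5012200f4008d0e00028909d90ab1022d03cc0edd07c902900b4905a20f53095e071d009f07da0b790eee00d80fc20b12018e02b40cd70eac050604fe0915043403050f7a02ed0cce05870855056a0a1605ca030d004f0fd5003a04070c750fb10da40fba00d208f00d830c740a9b07e0067604bc05ab06cb093309dc09f50d3501f2064007970d460e37041904260bc8056807820bda02c60343048f09d80bb0068a0956084b0b9503450181031701bf06ab086b0ba907a502d60ed20f4b05c6001a091e00f20a56082a0b46087c0d1e02af006306f4077705580829098108a10966064208a20dfc0df30edf0bf20f370cdb02360597010f024a03540513033a0ae009b20c990fca0a32006f007d017b0b9d0f1702db0a7905ff061d0bb80c5602ff0106099a04bb02600fb809f7001003e90abe0edb000605070d660db00b3e0df1030b036c01560167046e077d0c4e0aaf0ac0081606c40c640de50ebc08df08e20f2904a303a9076a0aac013907f3097c050e0c8d0d9106d604e505e805e70a440b6a0ccc03b1059901400bc4052a00ec020509a2011103a80de1080e0fac0110014c0b5d0b650cef08eb0a2806d008410ddb05f7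0d210aca0dad0b60043b073e05d6096a05c80f810b4308f80fb3064f040506ef05700be405d90e06044a006d07df05f909ae0f200db101bb00610c330222030a0e57092c03d30411051b0120031c0d4106dd072c063e08ff0cf30418031b03ca09a008030b7b03740ed608790b0806da00e60acf00b90fc304f60b50047b0ed30e1f06300bce081f04af0aef0a96048b018b0983051a002808ed08e406d90f4509c1072205a30a770b7d006e01aa08330e41060f0e81055c0233005f055d04e208a7063603030ada000d01760539017f08830e79065900010a1c0f4e019705e000bc09d103c208450091024f07dc0b8e0bd10bfb0ea601780def09ce0f9c01510f9007340563089a052200110d590c450dc609d20af503b30a2d0aab0fc50f5104500e400bcf01150440049d091a08600b7e0d68080006f6093f0e67009607350a1507540c400210014e00350dd800ac0a91060409960cea0aa809470dde00e50bdd0627027407bc0a2f0a550400053d03fe012307c305350f600c2a0d020d140fa20e1b015d000c01b000e200ab01590c9c0183016404e002bc038c09e50cbe0d2208f60a9306f10e6e0aa107550b94063f002d03eb00f606e300b609fc090f00f90dc20d8a06a70b1803330cff05e307210f2c0688017a02f202b00c830c7809870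aa705470e13090804cb0d730967037908ab019a02e70d71044b010a08e60e2b0aee0dc10b6c04830ad40afa00540397062d0d270fc4089d06df0eeb0f1a058a01b104c102ab0fcb0de309780ad5015701ad059a0c6f0b5f0b2d033401eb0b1007a007d5056b06570aea09e10b4004f700d700b800af03560b9b031603e00e0e09720d5f0eb3054b0dea042c043008710680069b035a0bbb02980b890485068f07d707f500fc04dd035b0e9b0c5506ee01fd084d0f1e0d2f04db00c6050904da0d060537012b0825078e0c4b060504bf09410be200020dc90c7606920ab403a6025a005202da04710a5f01c00cf40e8a027c036e0e9f02d50d2300d00e0a0f52050a0ae105b90ce40f9901a60b7f0afc0b590b0000a20d850d72059206a307db0d1b08e7011c09bf07a302f80867072e0bb902c903200c5909da0f9200a309e803070cc0079a0ea3063b065a0769062b084e098e0bdc083f08280ba009590895044704d205aa06350ac1087a0e35026501850da209160cbd029e0ec70c9b0f9f068508a60b980b5a0c6904ac047403b901460e770b710e3204b104b702a60c0b025b0bef0d010b27018900ce02e5099304d8011d08f90a6009880f8d07930b170f8e0b7806f70ee80b4500290cd600ee0e0d0a4c073c0ef905c104600ef20201032e0e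210ac7071805d00b8507360ad70cab0234004909010654078c0a090c9706c50a3d06690ecd0e70073d0ba205a6039a041e03380ab30ac80308025f09190c890be70b910ec30dd300e40208014a0f8b017d0c30099d06830b3700690b5509a60cee0a7b00580f020e3102c10edc02d20ed10aec06e0080c0b2007520d2905a4068902f70a940f3f049f08690eaf033c03640bca016e0f1b00de0bf0018704130f7d096508e00d530910079e084c0516000006e10976052400bd0218081506d204bd0bad01b702e3083505950d4a076d0f1d06de03aa0c6a003f07c50d90053b05b60c8a0e1e01dd0c730f940dfe08c403f105b40a8d04ec0b1a008e05ea0fa609db04ff017c0ad3027a081d0e930e270d5b0d6c052c060203230d3102df071f07cd0f0506090a3503d508c50e550dfd0e6c0acb09c7085f0a9c08770a1e036f0d89057e09710b2b0c17012e041000710b0f031306160fd3089308920efd0c9a007c078f034c0e5f08070c6605ba032d0e1a04df04870864042709f208700d8d02c3044101e802a0069105b70bd90e140a67022a09290422086e045808f20fad0a5a00ca0ca106990c920f6403a30e980136047205de0703005a05cf062401cb061b0bf60d950ba602b10a2a02880ced029a091706d3001201350d97067e01790655082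4094404ea03f70f8f0eed0b0a0f9d026d075c088d0f0c08d70bdf062f03e60d0a06f804cc01e50f4305710e110d9300e10766016f0025092d00c80fae035503c402e80ed503590a4d05f30dc30ce60a0604750ef4034a0d940acd00a90cf104280448058e086600770ca60c7104f40753092b0beb09090ab60b630e0901f707f400970f74004c0ec20e610818081b0f250ee00b9f08e501140aa500fd03520d7902d000cb09e9002a09bd01d309af074203a00c10047907840ceb0c54009b0af30f850f820dd001e9042407bf0ae406250c8e08100c360724099707bb0fa5031400f50e8f00340cc80e3f09b6060a0130088a0c0d0e860dbc0c4f09d0063903e807f2023f035c0bbd0dc800230d9d0852082c0d740977016a063d01fe043808d30faf09e002d80277089801d00b2109b107050727038808b5093503ee02e10ea00d19008b0b9c06130934000703e70fa30b310ef5041a074e083a0d28056c0e920e42033609a5005c0f19015306190f7c05a1032a0d3602930a4308940f5a0b970817049607ab05db0bba07320a890729072609be06ad00750b0101c50327001906d40429031002fe0b060384059107810bec002f02dd03040fab01800f69033f01c70764013b071e000a0634091808be0a990a820a2506b80c6000720f760b0203f6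06b90dc008320c910efa06c003ab0e47031d02060dfb0ebd0e840de0089f0f660f240e8206500c8807e102c40c870f4000ff0d7e0b1904e10e620b4c00e703ce0170010109040e950d4f03e2082f0b4802a20dfa05da01650737027907720de80b8c0bac000b0f4c0f6b0f6708380d5705480cb101e60393057a06bf0bc705bb07120f18012908ac0a88033904390dbe01070254025701bd0ea503960c3501770f84069803be0b960b23098f0ee90e2c0c4a05c700c0044e015c0c3202f40e4c09b507e60e0b04560d0f09ba077908620239057206d502fa0d8001490c530e0205d307e20d550fb50df50ba108720e05046b05140eb803180faa093202e609d70102073f011703ad013f07400eab0d5104d1057305d8090b0ef6053e0e5205c902ec0c2100f0067c00b50cc10bd204f8090c084901c103780b6e0d8c06450027085305ee00330a740ab70e7c02bd0b3f0fd10a9a092401fc08680e83010401ee0ea907c000f307be0ef70f040a920baa0d690b7705a004b20ca50f010ded0d7c061c03d60d0805050fa10e8e079c037d08b9052304fc05940e2002f001b8048c0a4b0747018209630a830f62021a0c5f09b90161027203f00600007008540d540116012c0024049202d109490ecb084701210221005603260d70058300b0080400360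e940344045f0ca20dd50dc7021f06be0a070bb40ab80c7001e007eb0e74088e0224036a095b042e01c304ab062a089e08850adf071601f50fbb05be0ea200f7054a099f0ecc099e0d490be0067d0c4401a1076e04640bfc0225047609ff017e0c8f0b520dd70fc007a90e7d019601b40508022900dd01a304cd0a620e890aaa0e3e0e5d0d6103ea010d0ad80d32077e04160d82001b035808430cc3033d0d4509fd05f5070c0f3308af0a1903af0bfd02cf0e340a290e4a064c0cc40c860a420a370e220a3002a405200731073b058003750a22074a058408d40bb6055400200ce70dcf0ea809d505e200e005780b3201440ef10f6808fd03bf09050e590ce50d7604c30e170372064d0b5808d2046c067b0b3b04f10d40075807910d7f0d4e0d4302ef069505dd0bab01f104e90b4a0c1d04d403c60fd60c50060801260fb006eb09a909a104a9085008480e3800a4043608fb0748008c053305eb01ec097d04d0022f007e09280da608b00857097a067806e500cc093104c708140e6600a00d7a08c104cf0b0d01cf0d4d04460d9206f006530bb10c6b04530062078a02e203e4032f01d7092f04210a17013e00940582077b043306af0017063102f10504000906060ad904c80a4708c707130cd405100aeb08f5070a01a80f0a065d03cd055203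680c2901340c850953008806ec01c80be909060a41049c05d40005065f0b720f870df0040b07aa0afd023b0c160daf0131011a00ed09380a720e8805b0078908e9096009700a4e0763096d02440b680f5506b70247035d02520489029105d10dd106c909e60e4900eb05ac09a707390d630d780bb70a3604e70b8402a109460cf6003d0bff020a016d0baf094d05ae01f00a7f0032012f0d6d0d640a7d0c800da10cbc0c41070d0c5c06100484026f050f09eb0fa407c40cf903d701d90c8c02780b8a059b0fc80be50f3a0c5e099c0e1d0b3506ce0c280bfe0bb3004708bd067701f9016c0a6e06b507150a520a45046700570c0404680f5d02a30b870d1a08010a580a5b0b1f0e7a08d50d620bbc02a50a260f7f02a90cb60f4d0ba50e9a0521013a01b20a1202ba0e1004490d3f0e4308d80bd4068c081a00600ce10a7e030f0d52094a020c0da505cb038700c70ccf0f10039403b00af8085803c80ac403ba0bbe0afb0a98099b03db0e6506370d8809fe01e70e0300040d8e00d407d300480bd50fb9022c0a6d028c0c52066f0ddf04a80888011b00640e19069609bc0f700515072d0406019f0e28025e097b056400d103a50c7d002c0911032b028709d404020eb6031207570c2d053f05d202150477059001a40abf0c5b0e8b03b40ca709e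d06210ed4009500e9027101cd02ee00c50a8a0f1f054d09aa0be6050d02fc0ccd01d8016205b50ae5018c02c804c20d6f04d50f7703ac0abb0417071008fa0eb904660ce0085b0c58018a03e306320c020d6503890f4f023d076507b20adb0b64075d09f80c9008200a3302d40d6707000eda01e403850f1c03980d5a01fb003b00800e5e09d6077c012a0c370808038a0ddd0ede0d12000e0db30a1009ac09390dcc01c9082e01b906b10ec906460cbb06cd0d2d07ad03df08fc04c5080f0391066c061208ca078b05a507fb046208110d130f73001600cf0cfb04910589064a028b025d0f1205170de40c3908ad0ad6048607ac0a8c01cc03d80d100fb60fbf07b404550fc70f9e07af0dd9075e08ae0a020d2b04ed0eec07f70b0b0cc707d20cdd088009a3066e04440c260d0d06bd0ac503480b8d0cb50dba088c042d02ea0ed7009e04c0023e089b01190a5e05bc05a802cd0f610a5d02b7052b028405ef0d9c03d007230199046f005d09df03220f060e3c07bd095103c9085100da0fb206ac06f3020402b601380aba042f03d107e30557010b0bed0886088108d60caa037c002e011307780daa0f46046908c00a5004030ebe043104900a9e049909c5055507330a6a0b6b07960d8603a1079b0532095003ff08ef0b3a041f0044069e02b5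0889029b0b3301da0e680493083e07c706700e6a07b1058b034b0d00064803860a680da3011f0d9e093c074d0bd30cdc02110b39091f01f60708017206b00c3c0306055105c30a5905860228072801d60d440e180c240aad0457096b0c0e063808060b930b11083c074c0eef0799041d0be1095f0d1f006c03c3074b0ad00fcf07cf07b00f9605750b74003c0f080ca3031906e706fb007603010940013c0c93096105440e9c0f3b0015056207d801db02e90cc6097f08020b5b0a800617094f031505010b8809a802ca00790b9a0a230f7e0b830d370d60019d0b75030e08cb05e40ec80b2800870f00056f00a104d70d3a0c0504b505ed03d408cc0821086100b10b2f0ca806670d1d0cf00f970c23020308e802f3085a023208190cac012804ef0b5605b80dec0662025603c70c34076f0bbf07140c0c0bc509270b760e2e05600f0f0c00068b020f02610a080f2d00ef0c490d6b0e3b0cf806280bb2028e00a7019e09250a480b9e0e2603c107d10530040f02850b5c0cde04c9010c079d01f30f6f054f06a0082b04120eca058803cf051d00030a05035109c60bf80a780f13037608f104d30bcd02e40173009809ca0c8405a907f108ba0fa70192081207b3047f04be02e00d0904fd08b602c202130022071b080b063c,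
  0xfff0ffe0ffd0ffc0ffb0ffa0ff90ff80ff70ff60ff50ff40ff30ff20ff10ff00fef0fee0fed0fec0feb0fea0fe90fe80fe70fe60fe50fe40fe30fe20fe10fe00fdf0fde0fdd0fdc04f607dc02a20c6e05ad06cd01dd082d06b506e00d9b03ee07a000e909a80b8f03570c1103cb076d06720a81082b082e029c03bb0e7c0e4300c008df0a640b6c05f505a702e703080cb40c39041e037d05fa0e470dc6005d0c52056c08e00f0a0c5c0ce5049805da05d30c870bbb0cfc058801c50d8b025a06c807960917056f096e0df20e1b0ad90dc10d0405c607a30563062005d9018404a40c970504077d0f83061d0f060a1502220b0e02d8014900fb08d10e8a0f300e3e04ed07d101be0c3f09c8021d012200ed077e0daa0cea035305670dc40bbd0100085005930e6d0e6801440b6e054f02ae0c2a09700068031a0d920ee40ce102fb09990dfc0d0d026c0a740b400e820fcc0b1f0a790bca039102ba066507ea0f4f016007e3040002a30663099d0507014700aa06e9014d06be0c220c1b0a6800a4031c0296085503f1039d0f20093807b20334093e00780bac0a7f0bf30b480f5005d6091b036500b4096400eb047705c502a90f6e03c90dac08a20b0d03c8028209b803b40e3a07030c420e1f0f69076c00ac088300ea0e8903ba07ab01620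ee809fa08a80aa607b70e4c071f00040bd80ba502d90bf1048a05480e5c075f01b70ecb03f30983035905e00f8c01370e600b2d01770b4a01ab02b308e40b2107910e8501510330029509fe02ca0a2a02800d0a0f1e08590a2d02a0074e0e8e046e0b7d0d800ea4051d09370a03062900ec001e08a70eb20a4c0f1b00ae05410d730e500f7e0bdd0a9c04cc057400bf0b6907a209ee0d15075b04e6016b0cba0ca00d7b00fa05ba0d35077102fc09020d7505e2058f0a5c03fa0f0b0c6604f800c6080607150ed60bee01f90484044f0a6a08cf007004e80c710d740ebd0dcf07bc0f1a09d7007f0261020c0bb20d49004a09c007e5055a056604470f2c03030dd00c980d09070503f40eba0ae80130049d0e28030d0d160d2a037c0ca101db02b40b050179041d058907060e30085a0b970f820d140e6f081d0ee30a5e0bba070c0687052c0cfe08f207460f43096f01b90cf003210fbf0b30052503a102ff088c03db0b230d7d095602de0f740d6108560f0d03610b880f030eb7042301f3002e0c06041705540af907c105ff0a590fb2095103ab0df70cd106aa039605030a260ef20d93029800f60d3e0df80e27008c0b8e0bb9059e0c930d7109b507db0dd90d510072084b0acd0299052a090a0c050ef104f7064b0dc009df0689093d0dd40f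c307c2042206a30aef0584009f0aaa067f09050dda05720aed0ea603e80d9e04c20d1704e006770d5d03e103dc043c0ce80196005a089805750c8f0e010de7016501de028c0bed0a500dbf017a06d303b60daf02710cc10ca90ba80ac407090d980e42095409af08ed066a0e0f0b520f54049a0203023600000f2b053c06fc031e05450a9f015a028e0caf0b1b0c7b0c7702190a8408da06f607d505730e950cb6012a096a015e0e380f8b03f90a8b03d20d4d0e510b9c0ee108c00c6b03d802fa00650ceb00df028b042407e1078d0738041b0bcc019105bc01d408fc0a92057c0d55060a09f00ba302420c9009e40fc20da50751032c0be30fc608f30cbe0c0f01ea06ab05f20ca407270aeb0c41003e03390a890f840c2109d6075604ab0a410d0607fa0fa90cbf092b01d1048202c80f0407f406a001cd04b605c303e703ed01e104bc05fe004d0198020b07b10ce40c2e0cc20998025408ca059a0c3600e2043a030b084104b50b5903be088d05f1097e09db00cc0794042f0a5404e40ab400c90e070edd0e9a06510eea0f2e04c00042073d0bd401b2031700e10fb40394089a0c3304370f530e92060101c104080dfa075a01780dab032d04700fc10ba10cc3092c07370908073f0e7506990cdf0ab205df069502bf04250ef903a70da601b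b03da079202a108c3075e0a3a0aa40e8606b9013808e805120bbc06e40010009e09a70d1b08030ac60f4b08c40abb003801dc0fc50ae101d906410e03078005fd09b40c8003540eef09aa0de10d8d069a0aec0ab6055106610fc00e80006d02480ab304d008840c820bdb0b570d8f05f40c9b059d01bc0c4a0a110bc700fe076b03900aba00b00b260c0e022a0a340c25023a0659080d0c560c5a065e058a06cb07ba0c9f0bcb0b3a058b0a3f0e880e0005b10eb000560d00053e0ccf06f00aae0af20f1601020bf50e7a03d709b101d004010acb03780bc10abc0b580bda00fd01ee02f10fad0e5f0ba2034806680b340061063c0c4803c1029e09be0b610e56067b040700930ac00c080650018204eb0d7e0c890074065c002c0b790d46049c012e0f1d0bc60b5603c003700753083a04c80d0e029a04b301b50cd50cdb009a072102bd08cd04f001330da4035b0b8c07c9020d07a6012500570e790d7808c70b3103f009790d58029409c600e00170079907cd0b89096108b7089204ad0a7b0e1200810df308190485080c0b250fbb0ec60e940c2b02ce00b20b50002d00950a4e0ce90c4b0be802340e6600d5003b04ea0bfd06dd065b0b4904c703e6032e0cf309f1042d07d709850900078b0e5b033c0e5502860a8208460f7b09750afb091f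03a80a4a0d9903a40b1209c407240b430c8801b105c90f5d07e00e52091904b10024087305a60b71091d083f093f040f00b90fda0adc0aa2088b0cbb0afd010b08cc0343080e0bad07290eda09120f290489060f051709870de8068a0a000fd900cd0c1605280758050901890dca03490202044d09f403ef080f013e0c53083200910416017d06930f7d05d80e8b0f7502d7074a02440d030684035005470f760079037e099501990577027c0232050f0cdd0e640cfa0284068b09740018012301f0031209f201a4041a058309f50f4e0d450b4b08af0f950b01065602c901860f590bb303d60c09068d058005160c9503c704d90c6a0bd703aa0f5f035e00540b040b5c085107be0e04003c016f03f60de60fa80040034a06ff095a0c500b660d1c083705150f100d22062b076e095f0bf40c920f1c06230e0a09810c4f081a0617069106960aff068f046d0cde05b2066908c106090b90006f0e360afe00410efa03d90e410197081b0c3b0bec04fb0c4d07d805bf0a330f6508860a02066c04c60eaa0c8e07100ea80c19032f056907e403bf06c2010906b1033500e502300183022f07f10263008a074000f2026b08cb079c0a7701fb0b620a47046b0a10045402ed014b024901e4058d0c860d560f4107d00d47059206710bcf04a30da00ec50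6ad0c1804100f64033f0c27000e0db00c610dd30cda07cc01e802fd0b9e080b01ca0f2d088a07790c5f012b040b061000130b6d08fa0d77086105210ce60c7d00d903b8062403ac03cf02e402870d280fc80c69051408a30f1201580b3c096907630b1908b2060e097106330bae09ec05600bb404e90b840c2904c90da80c0b0be90ae303f709b206e7030201360487014a02cb079702010a070edf039204c1097a016c06e606c9016a028f000809c1090e0bd00eb804950e09021601080aa106150d36043201e604330c3a03d0025e054c05b303ce04ce0ce7087c0f6203310b3d0e5e0c70015d09d50a71086d0c5e08ab010c0e810a25089f0ec2064402a4073b033b0c6d0eac0a8d0e34045a045008d00aa90f9a0b08091107da0c600260019a02dc0777094b069804fa0b5e05c8081804f9072008c90c2309320a940790021b0d890d91093005850adb0e6b01130c200dee08850b700b82067a088800320ccc004b0a8a01a90add072b073c0835032606b40e9f0c1e0bc4041800f8030c0b65024a0ae70cd9036e0f270f1907410920065a0f0e0a1f083e07ca0e19099f042c02e502d60670029103eb0a58081402450f3403d108eb0fa003cc055d0a49071a0864052207180a66024309920a350cfb0fae0efd09ba01a60a5d04ee0dd608f405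5907440290015c0e9104b00011046907e60bd3071708440f850eb3018c00f107cf05eb0d5e0edc00da03dd07760ebe0fa7001702b9024c082800bc03ea070a050c061a004405cc01f108720dbe08b60aa00a2905ce058c0520050a038e04ba01ff062f0096072f01ef0cc70d8400990b3305e107670e7700b3009809cb04a00c910a0f0fb3053b0b78003d0ad40d6d0c570e700645040c07a704a602ad0a240c64031d001b078a04d305b8082307d30f00091a0bff0c790387013102d5013b0e4d0cd305cf03c4039b08a00e240e1d0ce000d70e6e0bd20f5c01bf0b74094e0b670fd00c4606ea0fbe0413070b0505037a09090c9d0fb70b8b013d0db1098201f6051c001c028100bb00050dd7011400200e1a0ced099407d60843001f00c50373011607140a5b0e7d0089056b0be10c490957047c0e2f0b9507260f4d09a902000605043b01b40e1c09cc00be07d4053308b50805085e0a010f07085d0e9708f601c600db007e04fe01c20dc80375065f0b070ac805490fb80aac015901520161009d06530fd6084a043005e50374022601920b9b0bde0c0007730d8307ff0b6f04040f3a0870080001da0bdc02e60b1c0946004e0ef30fd106e803f202e0025d0a2007ef097b0db505aa04310f730311028a02dd0e780e690928003a05b0038f07c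700e30ef702da014f0d5a02c4047508fd04cb094a05d10fd209d2074f027e0ab8074d05180c1406320b73050d0465048c05700cec020600d10ef50d3c0c7e0445025506570b1506b8017e022d0bf7061e0faa053a096c0e390dc7004c0ee90bc30c0a084202ec0ca306bf09840da90a700c2802f801a1095e0ac1062506fb0e20094c062105a90cef049107ee0aea0d9701500180002900b60285086b09d80976047806cc04740ed70be00a6c0cd80643007c0a9a03150ec105390d250395061b01ec0a1d002106ee0d9d0578086309770df0003009bf0c340d7a0820012d052901fe0a5f0581064902520d26048f04c5021c04550a4404c304ec08ba03840273062602d00935089e0ec40f0803fd0ec00747020a041c08ac035601b00f350761051a087f0be700c80c0c001604920c40005b0af600060b530b1701d705260d2708b406af0e1e063b03fe0cdc08e1064f0eec0ad304a5067805b7016407e201f200230ba0055e0b2b018105d2099107f8064a0c350e5803280d0505940b9d0cad0a78064c09ef0f4005de03e000a6029b0c4e0e26063f06520a63021e0f9201b60e9c019b06ef0bd10c380fc70a83030f0c9e0b98025807600fdb0d5207120efe03580b7e05ed09c2097f02d3075d0d70043908ef047306190595011c0dad0f9e02a6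0faf035a043f019f0b2c0b2803ca02b10275070e08b30c0d09c700660927074203e4027706d009b3025c04560e73064009ae02210f1f065d0f9b049e075003830e57094203ae07890301058e06df05dd0d210952027402be0b0a05020e4b0d570ac20bf20fab0d0c0bf8087405a00875098c04b801ce0e490a8e06f80e4e069c0eb408a60d29016305110e620a6f043e0fd706db0f6807d2089103a90a9109da004309ab078800e401550c750e630a8c0464061605c203e901cb0ef00ebb00b1001d05010dd10f21072c048b063e06fe00920dd200460a4800150d1009e90fd80d7203510d8808db07fd03860cb2098a036c08020c9908bf0d230d3900770ac50d2d008d02df0bbe0de506c60f3f0c470d5405570cf608e9035c0cff002809a60c760ea004d60305025103b008f80c120111045f0f420c7f0435018a002b0af306a40a7309a00ede0d1309410dff06390bef097c032503c308960c0409a10ab50bcd0bdf042604900bd90db7047e02a80bce0fd401010dde02310b6000cb0ed404d506f7068e006a0b4f05a808f70e1705ef0ea104ef0e2d069f0b640f2209070063071106300d3b0a090f310eb60d950b7204bb00c40c850472095d02b705e405be0e250ac901560b3e0e8d0c5d04d400b80e4a0e7100d8005305f70fb90a36026a0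f7a0562044805b409060e330e6a0b850d30052705a3017b0a65042e05520576056501060a7e0bb50f810309067d0f89007609fb018b079e055b0bb70f32054e064800ce04a10a2208d80cb909ad0e5d06e5011a05e70a75023f000c00d0032a01ed0e90092604bf0fa60d320b1406850e9605f30ca60250008e0a7c09e501c701740f5a0baa0368082a0f33036a007a0922099c01480db20442081e0f9405f60543094f0b510d4a04760047019e04d10b830cc50f090adf04e200e70fb60b8a05d506a700820f39074c0cf20a9509800acc0dcb0e8f066d034b0c780ab901a3086202eb05f909dc044c0f8806c70a130804045307c308c80119092e0e48023b03600bf605c40e1007b506880a0b09ff09a3090f0de203fc04680d2c013a0ce206f50d900a690f670c680757054b042901200ecc04be0dcd0ae60c730d2f09e200c70d8105bb056d069d027f0f25060308760e4407bd0aca07ce0c8a0cbc086705bd0d0b06dc06940cf506f306ed0865040a0f440da205550d7f0a53062c0ec7079503640b99092f005f006e0cac096d057904e30b5a077a051b06eb08530c3c0de40a3d0f0201c3047b0c3d04660c9a01460abf0d9c05e60e8302e108ae0e93068601c0023e05af098b06a102b2074b0f8a074302680ad20b350bf00a7203b101fd06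54093607870a5604ca0a1e07b40924040602d40e0602570ef808a509fd0dc206d90ad6008404de0fb105c00b420cfd01760933086e0f4a0de903f8090309a50d9406020c6f0f370cae066f0a190ea70536025308bc0166044b0f5e0362030e09c5039f00ff0479045105350ae90f900ad00f460da10a080438071e0bb806ce04670bf9069b031907dd0f97072804ff0a930262089405b90b5b0f72048d0288003507130a850235096502c007c40b4405ca0e0d01f80a6b061207f0008b0e210f2303240048036306c4033a094300a101e00f050a0608dd00d405960b100887019d0a32083b0c96060406f1048606e1076203bd08490a9602ab04960860049b085c047f04120269007505ea0b630073094808b00634092d06080ef600850ee508990cd40587032b03d506220a4209ed0b2e035d00520910020506b706bc05e8056a0c8c097d01f404db06580e530a3102920b3b07df025b0c65015b0ded0efb020703270fcf014009dd0a400f5600f4083108d60e99087a019302670847072501ba0d8e01540c7408ee04f105d70a1406920eab00a206600fa401420af106420ed20d5b0ed1026605ac0d1d0878039c053407980a3e0a5a0eeb03360080057d0ca20427046c06de054a0a990da70fc40e160cb1098e0ec80b2f027d0f860cee02650c8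304b70239011d0de007f702c705ab0eaf02b60a450a61082c004908d20b4d08d40b360cd008ce03b90e3507fc04610abe09bd037205ec03980ee604f40748038801d3081606ae05420270050009b702f206e203290af004dc055f0e3c0459071b0b6a06cf02f00d6c03df009c05980fd506d100870bfc0460007d0a4b0afa060604a707cb05530a4300f70c1508b90f3e03ec07070506085401af00c20fac0c37095802890e54059708fe01c409d102cf0dcc078602f30097011805a102e9082605100ae0042800bd00260b68012c09a208d9084c0fcd079302f707c8073a010e08e5054000ba024b0246038904bd07aa022e0c2f01fa0546030405dc0ccb0d7608a406070e720a300d69037b0c2d00a003460bfa0c4501e5099001b80c9c00510209056800cf05a40c02000d06c103140a37015f02a50e6104210af80f8d034f0a3806280233000b00a508a10cb000250968046209f806c50c1f01570f0c06d50a6003a509340d1e083603cd08300eb9044908e70a460f510e2b07fe040e0736006c045c0d6a010f0031062e08d50817026e0b1d06bd0f140953005807780c1a0ee708f1030a04cf00a300220db902c604b40813047d08a9027b0a1c04150716096706b0008f0a5709440f6c063a06110f0f0fba09d403200d1f0e0c0379066e0530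085202f509e00b020807082107ec011e0c670d0201120b6b09a40ae408aa07b90121010d0d680f6102240e22092100dc07b60fa10497098f09d00d18059b0e7606c009e3072e0e400a3b0d410fb505ee051301050d9600c3061f06310e7b0b2a0e3b0a7a0c4407c000e8096009890986006200360b9606660ea3005e0cab09fc091404c400f30c1d0f28012604df04460a520a3c06d202a703d40db60537040d044406470ca70a8804f50749008808ff013f0cb5071c05fc008607650e7403520c310719025f0e6c0214031f0dce0a6e019508900e980a9700ca0a2e036900a902120b870d6b067c02b801a20dae038a05db07ae0bb00e8703410fce0f450f130e3703af08ad078f0188036d0ade08fb001a00020d12081007590eca0f710e3100f50e080ebf08110d3f0ed80c3e01ac0b1e0d1900fc03a20d400def05ae01e902b00f800cbd024e0ab100b5045809960b16088f087d05d4004f0a760b7a013402790f4c054408340b920f2603c60ed306fd034e06ac00340f7c0cc904f209180fcb09d301d202230d9a0c630d440646044003400af70ace0eee07f507b0084f01c907a800ee01a00dea02f90f98083909bc00690a0a0a2b06000e46095b06800aa70f8f0c5b0ed00ecd0f3d05f8047a061807220f38043d075c050803420217059c0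ee0076a01df0d3a0e650d2e041902aa037604b208e60edb0cf402af0a8606c3031809ce07ed05e30e9b0af5057b003700710b06038509f7036f0ddb05190f48018d067907c60c1004f3012f0d20064d06730c810c7204af05560b55028d073209ea0dd80bc9023701ae05a50a12052d024706a508010b46000301710e9d099b0697045d0117018701e703b50f8706900ea201d801430a160fbd05fb048304880229089302f40480016e04ae07f9044306d60eed0f700a5507a40ea90731010300ef0127036609c90f2f03930c260993092a0f3b0d1a0316058600a708820deb05cb048e0e0b0b9300ad0ac30d4b0c840cb70829002a06f2089d0a0505610abd070203a60381077206130d62017303220915000101f50f1807b30af404fc022507fb0c8d072d09500e2a013906f404d802bb010a0df5018509450323079f0128000a07a502c10ce307690c7a060d02180db803000c030cca0caa03370d9f04090857078304e703e5093b0f9c0a6200090f490228001409bb0aaf029f00670c2c0e2e096602fe002f0ca507f30b80042001eb0b7c0cf80d6003b206b30bbf0a8f0734089706ba02640532086a053d0129054d0824082701bd0eb10cc40db406a805640a23019c0f6b0a4f0d66085f0ba6017207a10ed50f1707c5045207f606820df608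95067e06d704810b4e0278039e08330c4c0ba4000f035f0c580acf07bb03440858022005c70cd608dc052f01a503fb06e3088002e80cd20f7f052b03a0087704cd03450baf0b7b0f240eb506fa0bfe08c6041109f60d3d049408d306a9091c075403320c5908c50c010cb80da30e0203060a6d0a040a6707e70fa3098807520e45011b017f0c300d110b7f04a80a180bb10e9e0b39020e0e0506140aa80256095c040204b903c202ac04d702e30939065500a80a9d090b0ba70f2a0141078e018e09b9064e062d0060099e079d089c0a2f07230be406bb02ea09f30b270e840b770104031b0ead0169044a0107011f063504d20b320eae08de0b4c055c084500dd0d5f0a1b0ebc0f5206740d8a076f0bd60c5503800d850b3701150397022c0d310f990e2902830cc805230ddd0a0e0dbb0de3080901fc05b5038c08c200e60e13023d0f3c03de022b042b0f8e0110022701cc0aa5043609e809e108250e2c090c0dc5076401d507af0e5a0fb00d590be60c6c0a1a050e04fd02c50636019400590913077b09630949066b084e02080b0007b80fc905cd0fd30355088e04da051f03e3008302c304a20bc804030d7c0770040508bb02db00f00d50089b02f602c202cd034c0a0d0708067606380d2b0f58045e0fca018f08400c620f01070f049f0f4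709c30d3807e90aad0dba0ad10e320297087e0d640f77098d070d081203f50dbd0e4f08b10dc30a870aee081f077f0538066202b5073008bd073309cd01aa01cf0f550ab002d2068c0c1c00ab020f0d0f0b0c09b601b30b3800de0b410d4e0be503070bc00d650b13046a06270599078c0cd709ac08ec0d5c0b9102400f660e3f0871021a0a7d0dbc029d093a0550023c0c54082207040bc50db306810cf7045b086f077509cf0aa308380cf10d4f02e20b3f085b0a0c069e0055080a0afc04dd0997002702ee093c0664099a0ab7082f07e80bb60a280a4d031004ac033d04e50df40848021f059000640c070bea034d0e18005c0d860df106670d53016804570ad70b9a0ec300f9033e0bc2037f046302100b1802d10d43014506b602720175091603c5051e036b0e3d06da0dfd0ef403670f6a0b290c8b016d09780ec907bf08890b470a8007010d480d8c07000fa5006b09590d4c0132079a02bc0bd50b2008f9059f0d3709e603ff03bc09620b94024107390efc0ea50b1a05710d6704aa01e30f910e14014c0414077c01670785093103d307d9078407de01ad0b5d0cc6021503770e6703ad0ddc0f960259086900d60b090c43090d0a900a270fa2038b0c2409f90dc907ad03a301c809b002cc055803e2009b0a980ae50ece0e8c00af0582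04710955027a00c10c94026d0fbc0c7c0ed90e0e013508b80a51038d0090024f07f20bab01a70d8709e70d4203710f60081500450b0b08680cce057f0f7900d209ca094d060c0b9f0f6d088104930d630b5f0940003304340be209250901017c06f9068303b70ccd057e03330ee202380d0707810cc005f00e59056e081c075505240ba90c5101240beb0972021306750637072a0cb30f5b0d240dfe0b810ecf057a00940b75061c08f00dfb0f6f0aab046f050b0b760bfb0c320b5404e108660973003f08080d6f026f09eb05d00f9301530d3305c10e23073e02ef029306a60ddf096b05b602760ad5060b0b220a2107820f630f110b860f780f570923044e0c170d6e0f360df9013c0e7e0774083c05e90cf90d0109de07a90a3903380dd508ea0e1107680eff049906d40e7f086c039a062a0a170c13063d09d90f15042a0d7906a20d0801a80dec06b204a90a9b0a2c07350879079b0b2402110b0302040745052e0012031308e303470f9d071d0b1106ca00d3019007660ada0d8208be041f0a9e08d70b45014e053f05910b0f01e20ad803b300190ae2024d0ac708f503820b8d09040e1506ec0d34087b091e01d60947007b0f9f07ac04410050084d0ca8039905a201f700b708e206d8083d000707eb053100390929,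
  0xfff0ffe0ffd0ffc0ffb0ffa0ff90ff80ff70ff60ff50ff40ff30ff20ff10ff00fef0fee0fed0fec0feb0fea0fe90fe80fe70fe60fe50fe40fe30fe20fe10fe00fdf0fde0fdd0fdc00e80d9f099704bf00eb00120a0502ba0de004ad0d370bd00f770e0106c703340def08250844027a089d0dc0076402c101700cbe0e1c0670083a09f3086d0e6e0ace04f20634029608d8085200aa074a0e4a07310d6f0ef5053609a70ef3029c088b0dd10ab00d7209bb0d230b6a054f0bbd0982012803350a750f4e02ef058b0c95022f02000dd806330696062907b703160e040dd00911078902c4055e0acb0bdd068907d0011d04a20c2d03840a770a7c0b2309f80c7b097400a30228072a068e070e09d70c2b0e61091205b30a3707100f9d02840d9800f402c3011002a807090cf90f91093b0e390a930980001c042b07180032085105e10ca401dc03f9065d064f042e04c502a50c1f065f039a0ca003130ae20c510f11053b03c105e0023109420492023a006b0b690427033e04cf02d5068d0ee703a907270e900724078607f003820c5f02c20625030a0b6d04c9069800d4021d0ccc073a0f750f510a9c0c63056b042104370dd4027d0cc4009c05040b73037904cb0866019f0dc70fb900fb0e280bce0a1701d7004b056201f70f9e0caa09070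a590af6025d06a808e509130fac023d06e703c50d73065a052e062a0ee9095a05bf06c00fc50f1d04de0e6a0be6056d0641085f02770c35017b0cdd059206950fce0d850ea200f502940ba403e000460a9b004800ac0dd705460a420f4709e50d9e0d8f0ab204d20ba801ab0b370ea60c700c460b3508e90190094105b901810688057d00400d4b050e07dd0bff0bf6029e027b0da70f9b0d6a02af070204ef07eb003b096b074809560a600de30d550bb000670c580252002d02190ef20b920318019508b9011c08b70cbb08490b9a09fb001d045407280429044f01a102d902ff01550c040a2b0f3a097c01e80a4e0df1080f02b701420adb05010c5c0a5006ff095002e3016e02fa0ea406fd065308a00b9b01fe0cb0074c03cd05880e5800ab0dd20e4b0560077d048e049d05a40e3d02630cc708d70f5d006f0eac07960c740bcf05e4065b07b103d80801072b030604110ee00a3e02570d5105a10a620fc70d710eb103eb0e65055d015a04ff018f0bba035006e006610a260fa708bd082a0cf60ab10d750aed0847000d0a8f09b00d60062f048b0c97065100c90b390b5e0f880ef70e0c0b3f0c0a0812097603260c82088405720acf07a10404023c00b003f1011301ff0741088006850db10f90014b0d5602460e08036503f00c2106790d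810b990dd60690081e091f02eb07a70b2703be030b07c90a310674044503f408b0081c054a0a0804740b1e052002ae000600970d8c0ee508070da40133086102dc03000a8c090907bd088e01d201520da000af0d540462029d084608ba05d2028d0029055a0e3a0da305690726022d01f505670ac4036801670b710f35027601a905970ae40b9e0a790a070a640917028801e007b8086a034900d10ccd055c0f5701c70374034207cd08640c610b1306a703600e520f520a0c032406940d7d06190eb007fa0c2e064302550ac7088a07110cf10359010704b70c470842049107d3000401c304c1037d08190bf10d5f0f5f0cd40fbf0a6807bf0704074b0a9804320f41047206970a100d1403810eff0b320f2207230d91039c0f620b89046a0db5024f0007039001930078056e014c03520fa90ce4013c04cd0448057e0d4d007402780d4809b50fcc04b005160792092707a9073402480d29087307a007c80c070ea10aec08560ce9043d03a609440ea30ee40d0305d1060e0502054b0e2207070bf0075f08930089064a080601a201e20bab0b170632068208a5099400220d1a0e380bb201de0f580ced069d0f160cf00717051105d90b1503b803ac05c30fba07ed0563068b059d08eb004303ff0db80a81092c042009860c62007d06da0f170aa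4082f00a60a7d086b0bbe0e750b0107790aef08e70094080201890cb108c10fd805d301910d7b01220ed10cdc045a0e990dfa0e7e03b30f1b0c780e3c087c07b60e810d1803e5042d0ef801d101b40d1702f009e20b8101fa093d0e5a040905570c4d00fd000f00fa0d070a360fd50d0e0bbc023000c303ea0e8a0df502a2092009490a95071c0bf30d100bf8046c0deb0ce005060c8d074d05d4002b0bf70c010dee05a903d600ad0ae80f6504a80f6b00270f610b360e6009000e2d0a61022909a409df045c02a907870e3e0b0203250d6e0d0b076a0f3b04100458071407f80a03099e0d70057909de038a037604670b8e009f04f601350f8e03ba04be0e8e0f0c0ba608f101d5059003a804c200910c7a0dbb00f902a30fcd05ea03af048502100e920bb907a802a001a7094a0a8505e7090f0512010d07b008f2032708ac00240d33025a0a8e012e0c420c1506a003b908550e5f02030ea50a15015e0d7c00050c2507730dc405370e5b032204a6011e086e08dd0e8005f30169038f09380b8504860dbc0de901a500900185026d03e8003d06490e8605e20aeb003301180f2900540fad0ddd059a04060f7f0ebb0305013109810ac3079c096c09d302b002d20eba01f908fe09550af503850aee0a1608170a630d0f0ed307b40ee80a7002c7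0d0002830ea70bad03ec051b0816069305980ca305150da60e42086f06ba0165055504a40e6308d40999001e0b2b04630928000804df0d8d071e02860d7406460f4402de0640067f029b00b20e9108de06cf032109ab02f703b1059b010b0ec506f40d1e0c5008810f09063002e5082c073f0700055b057400390e07070603860a580c3c09d502fc04710a91021f0d4f02b90c5305c709a10c2c0ad00fb805b0011b02ad0a5c0402008402a109a002130ed402650d520bac01cf0212026b0a380cef0e300bf50ed001270bc80b3a01b503530d1d01fd00a1082201200fbb066004300e9801ce091e0ba701400b8f052a0ba9092907570a060b7901cb0d110fd70f480044052f0b3d09fe0fa20b06030d0c2a055402ea0c4c09520a0a03ed01b90ecc034300c70ad2009d00c805c606b10d1209d902340fb107ef05530aac02240f5509e80d32093900800405026902b201e10068034400f700620a120a7e0f80087f04d50f3c01c10021083b07520705032b079304e00a2507430aa2028a0eee08fd00380b49000108580a9e01f8066804f90ec105410f56061b09ba0c06019a0e480b7500bc0bc6098b05dc0f530a2a0e2b0cea0eaf0b1f055600fc0487098700b401e70ead02f407c406be0b1b0ca80f2b002608ad016a0add0f710655078a0d470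c1d0c6b0bbb008508a9060f0ad90e6f02380b6506df036b058c0a0b05080778078006e9031c005e0ea0016b094005ff0b9708a303fd0f83005b009609050f6800250829023205be0f660e350a2f04b204b401c90a3501f4044b069f0d5b0d4908be0cf70a410ec20abb022a054302ee0c9f014f08340680051f0d2d0da9031f00b90e5e0fd3084c03070c59021c045f054702c6099d0b56091c06e6037b0ade087606ee00820ba005c4069909b105f809950d5d0b2f07700b8d0ccb0e8b06c20d8b044a0e33067a0ae10da20e7d008d025302500eab0fc206bf089a035a07ca0b28049c0e7f07da024e07850fdb0a5a0bc30a890e260663013608740da102e20a0d0ba3008f00510f380ce5084d012c0c8c03d3093f057309bc050b0a400d930e6404b30ce10aaf0e1d070c0c670eb508af0e7803dc076c096609e10455033c07080bca0ae90d6307de023f096e04d1098a0cde03b404b80d96071604bb0a2302330b7a024b07e90e410f8b009200490e97074701ac0119063605ec00d50edc06cb05fd0abe000902e002ab09bf036909b303b204f10e1105ee0b590c3e0b1a07dc0d24033a09b20c8b0e690aa308ed00580f2c09ca079b084f0df806f1081407f30dc206a10077017e03770e4e044407e108e2049a033f0db9062e08d90bd1016f09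ef09f00b3106fc0ede080d0d4402590d9509c704ae07c306af000c0c32098e02020bc9045b00170fa002be000006aa06b606a301a80a690ee208f300d601c80cba099205270739022e0e6c0cbc049600ff09260a24072f0529047f01390e4d02560ec607ae0279094d0a200f590a1d087109ff097704680c72094b0a6a04af04dc00c40a19088702150d9a0fd9053f045d0bc5040b059102b409f90258058e0b4201f6042a0c240f980b5d0e2705960d2e0e620dfb0b3e035f04260ec906e50aba004c09bd08f7012b0a1c0ded0e890c2906b0056c025e07620198045702610eb6011a084a0c110f3f0484055004c30fbd0d990ddc072501e50aa508cf0ad40348049e040806070bdc00200199054e0c710c9309d1022008100e25074f0aa60fb4064c07a302040b8809f2067c020700e504bd053e097a044d0a220ab4050008970f7604e7049703e3018606f70875006c074606c10d0605ca0d300a5309b402600a1b047b0aa80fb203320b2a0cdb0b7205bd0e0d00db05a204d007e802410b5f01620575060907e707c60ad30fc4088808f8085b0b380a8a0d3f02f500dd06180fa107cb0b5209e30bb30ad5083504790ad60a4700dc0e1a05f20505048c0803078d00a00378040105d607e20cfa06ed0e54026a0154022b0ca6063f044707b90e7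401560c1901780c3801840a5e075b0b2e06f30d8402e1098301090bd30f6e01b006bb094e0d02036f015f02350d3c0354049903940a1f0c16029f05400a2c0dc60de401db0aa7046b0fd6056f0aca08fb0bcb0b070b2d0e180b8c0ac005680c1b0a30051a04800be4095d06620c180cac0ef90494025b0e9d022202490c3b0cdf04ec0f990a860f070cc30daa0a180af90b6b0d4005e303c309c906120465039b0cfc0b95097d0a7b097f0b7003bf0d080c8308d2016602ce0f1803d20b240c1c0d9d08b600130efc08c20b4e095c0cc2088d08000e14045306130d130e7a0e3106670be906c3099b00da08790ce7062c0e9c09670a8b02bf01bf09620bef0593044901640f000b530c9c003f076d05220b7c06830a88068c05610c7f06eb09430bfb034d0db2073b04460a900267089608a70d2203e906ca0d820dae033303bb02aa0a3a0d3a01f00e8d0e950ac50c3d0d210bc7014906d20b7d0d360f7d085009030d640439032800570b6f04830bb80dd90a9d0c9b0ec00fa308c9037005b4024504ab0d770c96070b040004b60153060201b8046d0aa10bfa0f3200de00bb0d3e08cc080504700c1204e306f5018c005f07fc0cfb089200be08f0002307d1016109ae03990d57078308480d880d34008e04a706e300b50c4f0a2105ba0b1c0f40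064b05760e5702c80d4309d60ed9052505c10d6608540f210b5a008801fc0d4209d202fb0f150b510a920eed0a6d012607ff0c7602540f96038d0f390482075d06a4097b01ea005903ef0e87030c0f460e360c8a015807ac0e490b600ec3086005c903d5031e03ae07990d9c06160eca0143013003f309fd05190c1a0d97009e068a0a8208830b7f01320c8f06e1052406b70be30e2a00ed08f90b450d7a0833013f0f0104db09db04ea0813093a0dd30e100e7603fb0776039109ea02400ac20cc90c0c0b8308990e9603f707940ebf0a6e0b3b0c870f1c0e2f0e7107530e32064207f9014e003404dd0efa07bb09b60af806030bfc004f0b180299087a08ef0fa60a7109af010e0b220f8403750c0f035d0cd2017d0f670d680ac10bee0a94058d0daf0c1e05af08240e150edd0caf03410bea0c5609c20dab031a0f500f7a0df40c4b0e0e045206730cfd020c08b4077708f507290d8007ba0c5a057000c50cd308c6091b069c03d90eb2012a0ecd04a50bde028103da08ce01630e8c030802230c860c200c8e02cd0f0a07df0d190650092d0d7900d707f1030f047e0d3106cd05a3065701b2044c018b00d3083203fc02170a3d0fcf05030ad703a70003026208c40433052b03a204ba048a0771001507c50fb505b50965094606a604420ebc0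d8602bb0cd50dcb0a0e0fd00dbf0c5b0e17057b0d5a0f7907fe01ba03b707be0eb8080c0ee6009b00410ba50db40b0f0a6b0fd40e8801290a010be2045e038b014d0428036601ee05b10329081f0b41058901d4063108a20b5b0dcf093400cb04c606ae0e3401160d58032a072c006607c10765078c060006c8091a0b3c085d064d031409e400930b1901e9084b06860f4508090730070f0b6307560f2e0ba20052034c0bec0bed077f089e0a9907c704f500f101f10cb304410ca90958075500630fd1090c0a49035e0e70019409b80c45066c09a6031208ff05ef0f6c0a0901a406fe03df06d4075c0a4d053d0490004a0eb9016c04b10b1001210ec402710ad10e590c020af1036306a9054801e302ac00ca0e770906005c0fd20bb601f201c0090a07910e5d0cee02cb08c70b550aae019e0a6705db0acd051009cc03800ecb018803b5075907d209320eda088c063705b207320d050d3802da077b07d9006d029204cc039d0dc80740062200ba007b077202d407130f4a0339075e007a04a1047d06710ecf0b0e05660ca5038902c0029a0a1a0302026601a604c8010604c7098c0adc0f4b0d1f09680f820cc60f9c0a1e0cc80c0904510a74057f0ca105b8034f0f140bc100760f9a071b02740951043e01cc0070069109f509a30a560b5c09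9004f409220f19052304fc085e0251061d09a8008603c80ac60c8905210cf3071a0984036d087d0d6c0afa020606c5077e034601ca0ed8031b0f28051e0f4c0cd904da0e0b0f0606d80a52017202e403aa02980c9800110c2f05ac05170c4101b60e0a0a9f02440b5006d106dc0a780f780b860d7e0fb709470e0205950b2508780e120dba0a0f06c60afb0f640c7c03640422066a0e7b0cab03a10bb705c008940611018d0ce6041e08bf0ac9042f048108570dbd027e04a90da80060004508ab0c340acc0cf401970dbe00bd0c7305ce0e55081b014502db0b4b08a10180041a02430d670f72057809cf0faf07f20a8401470f31062300e906e8024d05cd042309540cc107af0e4304c40e4f04fa0a7f03970e83067701e40cbd01340885037107ad07f40b670b5706b307b30b0b036c0187014a006e0628086307fb05df00d20a800a28028901ec0b16006a061a013b036a01bc0c9202800c6e0f04089c005d0e090f200e6d0cca07f708d301df00e20b930dc9034b04190cc504ed043a09ec0c0d0be0015d0c260afc0dfe036e07ee0795098d05c209f106780dda06e401750aea086202e90c7e01230b11099a01770f8c0fc3058a083f098502f303b60dce0a8309a9040a01fb048d074506640afe0f9207970cad0eae008a0c6009c5046105f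c0552058f0f3e0f020be8062003170a2700e70df7024c04b9020a06f90b680d0c022601d805f90a6f0d4a04fe09080ea809230f6d003100ea038804aa07e3098802cf094f02b3025f0ef0019d0cb2092a005603f8085a0e7307aa003c0c1708e600e1007e0464024a076f0676062607b503090ddb0b90089504f701050a2d0c7d0a440d0106440a5f0fca02e6002806f206450509014407210c520f050d8e03580af4073301040e2c0a3f028c0d2c0b400336050f018201be0964063a03ca00f20b8a05f0011206bd03380826038709210b76003e0dfc051302470b770d27066e0bb108b805fa0840049b09e609f406100f4d0c370b2100370bda0a4b0969032e03e604400c44089f047300ec0de50a7202270eef0cf200690b29008c0e51002f05d5052d079e08c309dc00c60065060d0e5300c002420c030a6609d006660f2d057c05f70baf061f07c0034a0be5061700cc0fa8077a03c701b708fa01110b940635015908b20e2108ea0a7a04e801b30f330a2e0c4e06c40845053503cf0eec013e0b980c9d0f2f0de10ebd076902f80c9e0c1305f60d5006f001ef015703e4058209300e4404760b140443049f06ec03510fbc0c6c038c0a32000a0d7806fa04380db002680fc9087202c502a608b3026f05e80970063c0f0f0af302390e820f73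00f60507042c05a00a6c0774055106d602dd0b0904bc0a3b059f0c1405d703d006810f4905710fa50bdf09da02bd0b470a9603e1046903f201ed017106d30fda00b10e030b430d620d260f030ece03c4001602820311083e0c480114099800a80c3a017a0e850b8b001a062d0821060c0c27088f0cb408d60f1e0cd80910016d033101af03c20bd5084e06fb04d906050f7b050d050a03200df20af70de20dad0b6406f607190d9b0a290e5c0e6b0b4c026402f90ebe01e604f307150585089802f60b9d0c6401f30843007905860b1d09750b6c0cd7090400ef04ac09fc0ae605380ed60bfd0aa90efe0c3905a50760074900f004120f0b018a095304e60c0b05bb032c01c5087702970303093607e00aad05eb084102850f700a9a0e1e09310cb700b602a7097105e604e500c10a450c10063b0fcb004e08280f080393018e02b60398035c0c490b200f5b0b740b910ada0f250ed208080f6a0fc6016809ce07f606ea0d900150064703ee0804069b08700ce30b3302f204a3054403d40de80c790ce207db04fb03c0049806750d4c0cfe0dff047c00ce01150de60d8a090e05640f8d01480e1605a708df09c1013a07380f9f053305a609cd0e1b03cb0edf09330dde09b7060a06840526030e0f9506a205310d69092f0dca09c609f606e201bb0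ee30a3302fd063809eb0c660c5d093702720459093e067d05b7012d0e9b07a2055f08300a4c00830aab0a8708180c770eb4071207bc0c2803ad03f60a0009590b0d0e9a09e905fe001909ed0a130a550606037e096309ad0e720290046f057706b408bb08e008c506b805f109960dcd091d065e09dd073e05940431007f09aa009909d80c230891054d013702d70cda05f402d60b0c0d3509d4002e03ce05490a0400bf020b0d280bd9002c02c9079a0dc10e450e37081508370f3403150f2301510a34099101cd06ac08ca08110c080c690f1a0bd40ba109a2043609010e660225033b0b960201067e01010e67072d0d6d0a7602360754033005ed0b1208c008230a3c02e70edb0bd605fb0750096d0d040f7e066501250e940a4a0e2005e50061094c083c0e7c082001aa040c05e90f8108bc079d0c910ab50db300a50654066d0b840bd2020908aa06dd08fc0518044e0ceb0a390669048f00980ab90b46028b07e402bc0d590f8a0ed50f6f0e1f08c801eb0e6808900f6002cc0036058008e305d006de0cd10f4f0ae5076e0d4104c00f2a00c20478001b059906150eea061c078f05870f850fb604e20e3b03e70f3d02a405ad07c209c00604019b074208db05450b26085c0db701dd042400f301c60fab049500a70395020f0c330adf0ce80a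73039609480957089b0f430efd0cd604d60584046600e30b300d250bf9047706c90abc09be0a970f8602d80882017f0ae00f3009cb00ae0196045008690d6502080c2206a5021e0d5e0bcd007c081d03cc001002910c6d0cf806f80eb30bb40735073c03550f2401c40558051c0ea9090206ce06d503e20bc00c5e01a007660d0d08ae0d2f030102730c9404130e5603040e4c08cb0d0908d50d2b069e0b0504b5038e04f8069a039f0ab30e2e09a508da026c0f5c07ea0103027001240cbf0c88009a0a540c36059c0bc405cb09730c00015c0c540be70d450f360cb6053c07b2021a004d08e8031d06580b7e07d40b0407220075021102160d92021406ab0d1b096a00a20eb704a008ec0f0d065c0a5b03a400cd022c03670ec8068f0b6209fa07cf041b041f063e03dd08dc028e06d00867010f09190fc008cd08b10d150a480b6601bd0cb508b5067b00530d2a04350bb50c310bfe0de7043b0aff097e07a5014604ca05c80c400dcc001f0a14004707f50fb00f1003c909e003bd03fe05ae074e0cd00afd03a3063d07fd07d602ec0b4a0a0200810e9f0a1102ca0c840d83010a061e08a408a609250687037f07810da500fe066b0b0a050c04fd091609600beb0d870efb0ef1031004030e290d5c01080df9014102d10924075a0f420e84077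5027f01d003db000b09ac00cf0d2007510d460ae70e130fb30788081a06d90c850bf2070d0be10db60f7400b702210ab7020508d10b540df0092b069208590345028f0782096f0c65041703a501760cff031903230abd02e805da0a4f032d0493057a0eeb0e4608e1015b04750b820a4307ec051d0b800b4d073608a805de0434099c0a57038306140d76095e0701037c0ee1008b0d4e0d0a0c3f06cc0e40005a0183076807a40f6306270df30d6b04250f940d9401d60b2c0bcc07200c430cb9000e0c6f01d303d70baa00d8093c0d610aaa0f870f26093505cf08310361012f073d00500b7b0bd80cb80138029307e6082d0295054c06b20e2303470f1f00a407ab00b301740d5300ee078b0cc009e70f2700180287048906b90dfd0035005503720a6508f403370bd708d00e0009c40e0f07a60bbf041500a902ed073705bc0ac8000207e5040e05f50237092e06ef02f104d404f0036205cc09c30173095f023b0e060b4f090d00d909790539065600710373095b06520f0e0836080e074405340ec7091806ad00df0c900df6082e080a0827072e0868007204180b6e0d3b03f5058105590cec08380cf508860c6a04140aa0086c04e10cae0f69003008530b030cce0989003a0e24053001020dc302fe0b080d3d05aa0b78087b09150ed7087e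0c800961080b00e60b440fc803570f8f0ef405dd040d0c570c990e190fae066f059e020e03b0020d0d160945071f07cc01790f930d7f039e05a80f130639034004eb0c05098f010c013d033d040f002a0f120356070305650d1c0b340ae304d8011f035b06db0b610f5e09780160045603920dc5064e0a8d019201ad0407047a07d701d901170bf4041c0e0502b10e470dec00f80c9a046e01a3097201da09140993021b0dea0f89070a0dd50bc2041d0e9300730b870f5a0514064800e0037a062b0c750b4803ab04880790090b07d507ce0ca20f370087053a0d3901ae0ad800e406bc0c0e0b9f0c6808f6026e04ee009503d10f97062407580c550dac0abf0b0000d0071d0a5102df0faa0eaa0a460659017c021807610c4a060102750c300ef605420e9e04d30ddf08e40bdb099f083d0100052c01c2019c0a5d05ab077c023e00140889083900b807630af009b90fc10e7904e9062108650e3f0e5005d80f54078e034e043c00420528078403de0583079804d7025c076b02d0043f03c60532060b0ccf0b58027c06720ab6076702b803fa06080af209ee0ab80c81056a032f0fbe04e40ca703a0046005b603bc01b10e8f0064079f082b0f7c0d8908ee09f709c80bae06d70b9c041607d802d305c504ce0fa402b506b5,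
  0xfff0ffe0ffd0ffc0ffb0ffa0ff90ff80ff70ff60ff50ff40ff30ff20ff10ff00fef0fee0fed0fec0feb0fea0fe90fe80fe70fe60fe50fe40fe30fe20fe10fe00fdf0fde0fdd0fdc03130d680ed409c005ca0a580bbe08bd04ad0219037f0239034a017304870f360c640cf904bd0b4e0693032d02ab0cb30a8900aa0c550020016e0a8609c2020c07510a2e04f70f2f06b0005c0343082a0c3b03480a4403e20b62045e0bdd06c90ea7041203a30c36065f06fa0eea0e5106c00ab7015a0205076003ed07830f770ea6026a05da01cb09e6093b0de507d801de0f3201a509d301dc0ad50f6a08b70b7b0cce08140c780d990d750f840c4104c60d910d2903bd02fd00190e8301780db301960e780824072b00f105cc03760abb0709067e051e06f1041706b2044a015c04aa000e04a9038c0e87010d012e09390eff06e404d0080e00b60d6707f408ac07e605ba0baf006a074f013c0bef0b5d090b053d0da7013209640e2807fd0b06082b07ea0c1c09d0062807c4067d04d801df019008f20375006d092801f807a20cad056c037b0b670a100a6c06c707d00c5706fe0d3a05ae0e4301cd07370d0c025d068b0f0c08f50c650e4d0f4a0ecb007b0a720598065d01c40f0001f9043d097c0a480b44035f0ef2021e0cf109b90546001107720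9bc081c0518085d053c0d7f056f06190dba0dd10973049b0d5b0f5400fa038704b207150ec40353044d05e90c7003920b1b0ea301ac02aa0ceb0ada0f6d0dce07b8020b064702fc0e5407240405072601700347054d0d810678067f0c8307f000760e90078200d60ad20a69089f036a0ed2075b0fad059f056e03c60c5e0854092e0a93002102d60862010400750fbe0d6a08fa0c66030909090022097e06ec04c70e310368044c0c8e03fe0b9301ed067a0437029704f600ee0de008cd040d0551090f060a0ec302d90cd000f20e61025507640fb9037103ef02c307420acb028a07cd0ee808e70354072d008904b3009c06b50d3d06250bd80a190d3b03970aa90f3f094d077802cf08c30200013e0e440d8309490983072106ff0b5408600d300f1a011d003b01cc0f450016005b0b550aa8051307a804d908bc0bf30b8f0f2200990a6e0b5100d2043a03290b9a0ea806200a81036c03f109ed0e67096900720b9c040907ad0f3a0bb903b80fb304430956022508da05c30a9d0c61083508410d280b2e03e70cc7009606b706290cb70dc200650f660ae205640f6109fc00b5002f0920038404550403000008680bee011102330d8c06e10f6701af087b060f028e06c80fa702af0a7c03ab06a0092700c801220661064a08c8019e064d05eb0d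940c0a03940e9906060e0f0a06070d0f5e082f0c5a059c05bc021d013402990f7a009d0140018a03af0b210bb404cc0e2200e30b4f058007eb0e8c00ef03fd00530aef088d029e0d360cb809290c2a0179064901e400c9099e016f0dde0eed068802e00e080237048d0a0f0e2a0b9207ce091f0fd80400076b084302a208b402120a630f88040b0c4b05ea036d06140ebb05dd0b3b05b800e901550d8902a40aee02c00b4d008100d102ac01ff063603dd06210b42012005a306ea08940ba20a46022e0ec1087006a60ae304a201000c600ba00d9d0aa201560bc901e505b90b02010c0a9c09dd0692091d0f1203080f4602270f2605840b870d41061a069e0da3009b0600045d014208ba0ef80a4d07b5055802b00d9701b7095b0b7501b207c8024f069800f90d1a02dc068d03160f4206150e6209bb043f039605b4011202bd0ea1006b09b507200c0d033c09180d2b086e0c5802f80ddf02ae0eb806a3094203d105820f2d0a200454083309c10207019a0a2b0e69042705fa0e640185056a09ce0eca0074032e055a0c350fc0061103770d4f02720aae011b000407410d7b0c960464014c010f066e0195055b050f0ae9084e0ad605e00128080a02460b7a05bb05a80a9e060c0a5904890b6a01a90cdb0c3e03de0d1e004a0ad80ac6065b09d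b0c560cbc074c051b09710ce80c0b098b0eba0d03016a03240cdd0b890168046604820d1b019302a303a70ecf0bdc000900510618025005660e4b0bc60f8a02df05f902920829020606e209cc00dd0f380dc707f700b70a9109d106160d4708b9042303da096508fc01e20b170d52053109ad0a87003d057006040e170ab8017a010a016b01430b2409df03150d4901e90792002a0434030a0d51046a00c203e90c5f0c77024c04ca083005d70bfe0360042b04620f8c054c0ba1022b0d0e07ec00050e3e060306ef04330d10068f04be08ec079802340b9f01330803074b054e0d7601290ecc0e2d079906a80e090d8b0c3d00d800f80d37035207df096a0e5b00a50217036205490b530cb2083701660c8b005e0e530d5608a909c60be40a3a0a790a010b070fb700a40a71097f0e1f02cc069d05d1087203ba07050dd604cb0bf705be0bd20338073803fc010e096f0dc909510c340b7d0fa308d20c440eae0732085c016008ae0ddc0d3509960b0f00690302085901d202b40842095704a10db20bd10d5d06680db70b9b00060da40b30092a069b0fa40c330171013b0caf0a6a00400317077402840f920a6206d20af80856079c08150876036402b10b6c01ca030002f00dfc01c80f9a0fd70987030d033106e80f85035901910a320b560bd0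0e58084a08ea0bf10569023e01360c110db603f90e55011f0c3702750c1e07be0268049d0e5203a50c0908bb063800300d8f049f020f0c3f000102e90fc8025f068101530fd50c520cbd06f30a1b0bdf0f8f00950c820f0d032c0c9d00a807b70a6806d009310f4102bf075e094c0f830d1c0ac20b2806070a5e007e0e570c6f047e0bd5009f083206a90b58054b0a3609ff033b0921059e0f020ba603320a4a01980aa00f76010605ff015908ca0acf081b07fe06400ea205b60db80ed509720c620ca60eda028b0fa200b0068c0f2a065e02e4071c07f20afd0ad4064201ea0ebc068401bb01150aaa09b204150f190edb0e800e0a00ff061e0c190d6906cb09fe006f05b5070e07b20fd4075d0dec06d90d6f0aac075c070b09ba06dd0dff0d870cbe0ba9033d0af60e3707d50d900787095d0eaa0a4004300e4206c40571054f079b0ce500270c8605850555001a08bf0b6606bf0da5033407de07cb02dd006409d7049e01b0005408ad0c3a0ee70fbc0f2c08c60ea404a007ff030302f207c905910a5b0a670507056b0ba40529026c0be809f70b78097d00500f53096303f40cb104b507aa07680de70b4609600df40b4905b005aa0c500cf50b6d0f570f70083f076508db060e0cb4053304bb003108c10769031008080c1d06700a380eb10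eb50faf09080c9c03630bc80098051705c80a040a3e045002cd00ac0ded083a04b40d8200b906c103830e130fa903e40c5c0d4a0fcb03f20f250c710e98025402020bd606270ee6028706d8073c0b1602cb0cb601bd0b14052707e905e604800175020807020141083803eb0a5f06870087004800b304d20c2e02450b1e0f400bec0e070cee01b604180c420c79013a05bd0edf0468053f03c3076d0dee058d098103d706010562005501ce00c60c30083d00dc075500850ef005340a8b013703a40a9704da0f20081009950e75043c0f2e084507ed0da0090d00e1005906600f160dc30e7f038603f501e004b109fa0bc30a9b008f0c9e018d04cd027002b7092f0ae10763015b04940138031e0d5f05e50717078605a508eb02010d4c0123021f0e8f0b080bd70ac505db06d10f710c9f04d505cd0e500cf607db03cf0e2f08040ab903d30e6a022105c900cd09b00f7b0700086a0a150e910c29025c087909d40f1303a60d450d50030b0c5b03040a5a09f3097005440a840d18045f008b038508770f3906900ec8001d080b07ee02d8095000ae0e66069503ce0de801210e600b470ec0054a003505120c76019407cf070f01c704fd05f8093d001f04c90b320bd90d260b700ccf0a390be103ee0d2c01e608e30b1f02d701b30c1f081809dc08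dd00e0000a0b8c07a30fbf0e5f085e06cd0cdf0573071a0d9303df0b370b0a08130bc405f40105020a03ea0e02042209a10db5026707a5064b01f406800c0e0775072a09ea07d602230e9204e80d3402eb01b1011c00cf0de90cec07f60b8a00de0dd2048502380d460809083101bf08660ec70cf00393007f0335053a0e9f0a340ee30b860c9802940d7a0c2c0a7008990fcc0a2d06350eb30bf5049002350e63051a03420653068201970c4e029f09fd0beb0e7106a70c9b0373096205c205fc04f901480afe040606240d0109370e2e0b8b0a220b250d8408a508f805e3005a05a1082e089d03b20f4901e701390fb60ac70d2704c101690a92038e0f52007302f10a2a09d20f7c0655028208d1084705630df80c6a0ba3064308d906be048e023c037e0ab205a00f9902fb085f0f5d0de402ee0c1206ca03820e8608a30a9902b5036b08860d4e0910076c0d0f0a1e06770dbb0259068601d9046d056d05de0d960b2a02bc01a107450a290ee0022008980b1a0900035c0b260cab00bb0ee201eb01650a74077e0df3050e0cfa022804700f68031805210083030509b605f20acc08a80deb081f0e7900a702ba06aa0cc50d4d0dbc01570e7e0d3c0b1c0d5306c60ca9094a08b607e105cb0d160e4e0215069108cf0579000b070c04a30a7a087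f01160dd80992031b0c4d00be098d077a07560d770dbf0dd50f8209a905d20abf0203039d07c503dc0f5b0a570ee10e6504d703270728026f041a07b1047f0b48084401d00a750946096804bc02a10b7c0612055d04ff0de20211091a01f603b508640568046c047409a50c7f0c27074604f10d17067b0b2f0a4f031909cf039900880f15074707af06d4037d0c3801720f950192052805ac0e4f00790cbb095e04480248039805c4037809cb04ec00b40c7d04b805b10d6509da06a10eac09480ed30e9c043e08e500f3034c02d50df207bb0729017b0fca0ab003570d9c056008f70f56039e013d08490b0b079f0f69040104c80a3b087e08a1037a07760590090609c505b205930770087c0f330018036e00430d3904d60bf60eeb09120bfb008e062e0e4907300f0b093209d60efb00ce01810b4b04de0271034501f30e06080607ae06740d7300a00b3607400dcd0eb90f0e0bb6028806bb0f87014d08e20cd205df03f80d7208e80e1003070ee50dcb0b040a17095303c70b6106300c4508e008c907620e6b0bae096b0abe019d086f08d40f9702f60fd00753076706ae04e905410b6b04570f040bf8092200820265017c0c490f1100390ccd0df50ead0d59098a09c702da0dc50dfb0f100af009430cc4027c08b801da0a3f0ad10d7e0fc3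0b5f033602850224044701a809af0ed90f8608520d2202760bea03bf045b0e5c05740af209f20f170f230f6e0bc20fbd01070f28085b0c7b0e1104b607ac023103690d7c07ca0be70656057d00fc027f063304bf02e605d30b8504ce0a240d0009930ac9066d07130bfc091b03b605b701fd08650e2905f70dd40f600b230bda0fdb0aaf06b90fda089205fd021304ed063c04a500460f24073d03ac0262024b01a70b96079503e60f8900250f3b07dd0cc00b1d08be039a06cf044b0b790cde0bcd03bb0822069706b804d3023b01a601dd0fce06170a8e051608480e040e96007c00df0bc707040de305d50a8c01b402f5023609de04eb0bf00e480f1e0d230d64013f05250b760c3c0e0c09a20ac00187019b088a0a4309e4081d0ac80130040a0cc3062d090a091607b90b120c5d0389098503be0595088e055e0365028c0bf402100e03075403c90d2a08e10f2106b30067071902a50ed00f8b02be043905c5007a0e7a0e820c160f6f076107e70a1301c20b7f04410b500974026d012c0eb009a80d8d0bba008a097607b001d10b81086705090f9f0665047c001203fa0b430b400ebf002b0820080f0d4b00f50c590ad00c180e68035d0df907e50a3c0d9a0f780d12021601ee00cb0dd90cd504040a270f3105ad0bf905770e2509cd07ef0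e050e4c0266048a0897061d0d6d0ae5002301b503d40b64005f0e0103f705750a65079e0d33088108340a6002510a730bcf0127093c029d0e6c0f370a11006c035e0f9b07e809ec009107ab06a50311016205e203950d2109aa0c1b0e33032f08800241004e04b702a904ef08f6020d0fd307d10baa0d620ce30c0f02f4038a06db0a510d9f0d7d0d540b52055900eb0fb40ce90c2807930ec200b20b8200930a45027a031c04df0736089e0a0e033900e606eb0f9c0b4c00fd0e8d01640e9d0ad70fa509170fae0f7d0a140d6c072c057e0c6b0ac10013040e0109071b021c063401170de10daf0cda07180c9703010cef08a20f58068a01510e0d0ed806e9042e0cbf02b804020fcd017f07c3078c0a300b2b0ced05f50d660ce101c600c106f5009a07c2023207c10780018309350f980a78071e063f04260b050d19032b0df10e410dcf042507570fb009f90ce700c4019f09a406c202f309ee05230f01043b05ec08730fc100020e1d03db0ccc0744076f044005f004a70cb9037004e00070002c0faa05cf0a4b0c8004fe06bd09ca03140c2607a90771065708d50af108070e240de60ef10fd10c9905ef09a0058f038b03d50afa0c8c0e470bbb0f0703b40f750bb20ae807e30f4d030e074300d003120bdb0938022f0e340a490c2501a00e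7c051101c00c850cf3035b0d06021b0bfa0080049c0e3f0afc061c0cf4077b054801cf041e075808ed09990ab3055c0ecd067505a60fc50a180aa3046f092d04110934093609e90dcc04970ce609470bbf054306450eec03e1091c06bc0b68084007d20ef506b401030e2c044603f004c00501048c08d70d1d0812086d0a9a041d0e180cf803ec0c48012a0791029605260479015e088903660def0dc60520078e0d0708160af90a640dc10cc80a1c09e7099800e20b0d0696053b0d04072f0efe0d4402f90a8a0ca006f604fa02bb0229008c099707f90da60c010a1d021805960017078908830a7f0e4a066c06f00b1304450adf01f2039f05970158036f01840eee03b10ca107f50aab016d02ca0f30060508880cac0b190475014702e80a1f022a0ca30c5408f908530e1c0a2306df050303a80f2b0e6d04dc050b0fa60540094104f50b0009bd05bf0d80071409230c95079000d70c8704af097a0c0200bc0a370bb00b69025b0975095a095c0d0d04dd09c40cd7024905d90cd1015d03a2053503e803d80c9406da0f9108fb06a40f050c4603610dc40f9e049a058103fb0ca20ad30036016106af0ca40dae04630e95031f071205500b5a0c140e5a05ee0bf209040ade08aa04320fb800a20667012b03b009e5097b058c0eb7095801ef0e4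6050d01f108e60fd907fa0cd90b350d02090208de0ae7080c09f40aad0a7701c308570d3e08b3030605000061057f0a6f003308b1006e0c89003708250d9e0e59071f07c607d405a7029102de014a00c30d3100c500ad06220e3c08e90a21092b05ab0e5e0f1400ed090707590a8807f304280c2f0672011901a402430b9e0f470554050809eb0298034e024d0f440cfe0887041c048f0a7d0a4204db0af70b7406ac03330dd30c670c1708b005d60a0c059409770bca04fc0da80a35051c00da027d03ae0a4703410f1c052b08d303c00c1509820b030aed03aa084b05370e770b940b5e0d92084c06540e360fa00f510af505530da90b0c00f00f5c0f7f01e80aa40961066a0c320b5b08ab0a8f0f8104e1012f0c1007a60d4005150f550ae409450fc704b90a25084602900565047603900858001b010b072e0d480144013100a30d2e019c0a6d0b91058b0452028008d600580ab10ea50337098909ab09b700380aca0915015f088b0e1500a6034d06e60781048802ea03b304b00b3f0caa0c240a0809780c7c000c0ab5083b0b9506a201db00cc018800a104f80e0000840c75032208390a5d08f301240b09032a059d0380048107a40c040b6e091e08ef09c807fc026903200980025a0d6e0e8103d904440277000d0c7205e102c70b2c0f62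0bce00c0001e06d5074d04fb0b380f8d098f00080fac0e8b003c0d380cae0bde002807bc02c80d1f0df7070a089301500cd30ddb0323082c0f930d2f04a802810d0b037c0d95047203d203210c1a0edd04a40a3307010536078d0a9802260c0308ee0ef70e8508d80e3b06ba0d9b03510a3d08900aa605f60c00067303c209c90703001501860b2204f406ee00e50a5009ae05f10d3f0658074e0abc0e1204990542041408000722047b031d0e3802c10b330fa10dc00850047d0bbd03e005470c4304e403a1073308d00bcb01c903cb09e207230c910bd3041005100bfd04e608ff0bbc0b3903cd00ec0db904ae0aa7017e009e03c506dc0b98033a063e026e0eab0cc100520c8f073402ff010201bc02ec0d5e074a07060d08025e02ce055604d10b110c4f0a05052e073f062301c5077c0f4b086109f501800367099d06c308c5061b076607cc07b60e2104980f5a018905a40be60416031a064400260b1804c3080209d80d240bac05e8091400af051f011300fe09540d4308950d15092c0a090f1f0ef60ddd05c7035802090fb10d200959078403a00d78045903e306e00c69003a01ec0773064603f6081a00d5001c0c92064102d2012d06850e760dea077f0d140bb105570905096c0f6c080506630a61051d0ed70eb60a0709f6038106990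6370199016300ca0fc60c510118001405830adc0664069a075f044205a9093f0b600bc10896050a0d0a083c04860e9b0d610a8d0484073b02440b34039b01b908230d130f270e56057c05d40be30f3d04f00ede0ee40ed605fe09b10d98046b03ad042c0d2d047a0e32055209300b8e0f740f1d07250631057608c20f0f04730a6b06b1088508910a0b0d050c390c4c01fc00d303880e8e08840e4009910b800f340d8500bf09660d6004f307070c5301e10460014b0f94041f0b6504e30aa5078f08630b59034f04130cc601f5021406510ec605d800db03a902600097038d062b079a07d907fb059a024e011a00fb02e10b27045c0be5064f02d103c40aff027e0ea9087d00c703e505b30ce2050605870eb402ed063d0e700eaf02d304510ca5095f023003bc074804ea0c8d0d630b73004408f4034b075a066f0421065a084d0f5902c50346044e0f4e0ee90c6301fb0e140bab06de0666083601820c0607ba05c102630c7e003f01d306f80efd0f50058906ad0d250ece0c8102860bb80dda038f0f4f0524066900920edc003408c4057b00240be209250bb3094003ff00ea0b10006008750126016702b20c2d060b06c5052f0f640c8a01a309030fb20b3c05dc08510a560dd005e40374043101490bff0cba02c4073e0bed01d40fb50e7d04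a60cfc023a05d0046e004f0a850c220b3a06f40ac409010be0088f000f08c000100d8e087802a807e405390a2f04710ea0057800770ef90b3d04e70a030e1e00a901ae09e30c84067901d60fbb09a60438029c0b8d06e306e70eb205f305c0012508820066024a08710c740e1900030b4a0e200b880a9f0e880491071d05a20dbd09f10aeb02580e930a1a0af40e72099c0c73002e0d7409670f90011404ac005d01540461033e0349042d071609d9090e004c0b0e082708ce0979018f09880c0505af0eef032808fd0c47065c01f0087a0f9d02c2035a069f006205860efc0f4801a20bd40dac0d420fc9046907d70a2608210fab06fc0826050206cc079407b40325093e0711027402a6035607e20cea046706390aea050c002907d3083e0e970fa80e4504c20ae60b3e089b025709860f4c016c020e021a01d705920d5a03c1028f063a098c0a660cca007803720b9001100c3106d30545072704770a4101ab0926085a02790d880e3500f40e94099b073a0a900c400cd80df00f960ba500ba0cc204650b83061307350b15060806f900e7052c042a0c6e09a700bd004b009001fe02400913098e0242053e013504f20f630264079708a60f0809e80c2b04080ce40d700a4c063b00940b9906d702ad03c800630b630df606520ebd0f8e0d86049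50f5f0c130e730e30007d004506f20ef402e303d60a950b2d092409440152052a0d6b01ad06ed0379081906500a12003e094b07f808e401740f3e0daa09ef099a006802040db10519044f01b805300c9a04190b7e04cf0c2306fd02950ebe0d710e7b06620aba0e6e0dfa029b025307a105ce0d1101d5042409330a7e0436040c0049058e0ae0090c08690a000b410e0e0505076e0d8a04c40c200c0808cb0dca00e407790e3900f70e5d094f0a8306760ac30dd70cc9069c02730bc50aa107c70dfe07da026b06fb01e309d50bc00f7e099f07bd080d0e3d0cdc0b8406e50a540b570a0a0ef3086c0dab0d320a310330062a022207dc0bb502a0014f07500e230801004109e0045804070cff0b6f0c6c0f060340048b06830f7205c60c7a0a7b0cfd07a00648039c0a820b710e1a03b90567011e024707960cf707f106100293032605140ed1053804490ab6028d0d580f3c08b2081e02fe05fb07bf01ba02e506ab0c0c0572034409190da109b304290a020acd0f730788014e0ad90af3050402d002b90ce00fcf01450c9005ed02830b45049208b50f0a052d04830b310b97010100320b770a2c0710030c0a520b720dbe0d5c0adb0cd40f650c680177077708fe0456027b06d60cb50ca70e0b008608f10fd202e2033f0be9064c04d40a0d0f09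0f1b02d40c4a0a2800f60d090e9a03910ace0785022d00070fd603ca09a3068e06b600d9066b03550fc40efa02fa0cfb0fc20d5508a4018e0c930fba096e05220f43064e0f80099400470ba80289096d0bad02f70817062f04e508df09fb0abd02db01be0c2104ab0a76059b0e16068909b402ef0c88058a0b2907a7002d02b602b300ab00d40e2b0d790e84091106090a160252078b08dc0e8a078a02a70708023f0db402c601aa0f180cb0061f09be0bcc073109c307c00dc8079d06590ec903500aec0bb70e1b0e2707e000e80dfd0811022c047808af0f2906260cd609ac08c70e6f0955093a062c09b80b01008d0f0302780a53042f02e707b3005701c1040f08550b5c029a0b200e9e076a023d09f00db008280afb09bf018c0602084f09e10f79067103b709f80588077d0ba70da2017d007103d004c5060d089a0cf2086b0e89057a08a004200e2604960042094e059901d80f6b0a94010806f7004d082d0694045304ee01f70261030f00b8063200b10dad0ca804e20ccb08740a800b9d0a55074901fa0c6d04350e3a0256089c00560739067c0d570f3505e702c904ba05610532017608a7041b0984099001460a4e0e74088c0c07045a08f0075208cc03cc095203f304930add0ec506ce0a96055f0ab40a5c018b]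

private theorem TL_eq : NL.map tabN = TL := by decide +kernel

private noncomputable def evalT (w : List ℕ) (i : ℕ) : ℕ :=
  List.rec (motive := fun _ => ℕ) i
    (fun a _ ih => forceN ih fun c => Nat.mod (Nat.shiftRight (nthT TL a) (Nat.mul 16 c)) 4096) w

private theorem evalT_eq {i : ℕ} (hi : i < 4096) : ∀ w, evalT w i = evalK w i ∧ evalK w i < 4096
  | [] => ⟨rfl, hi⟩
  | a :: w => by
    obtain ⟨h1, h2⟩ := evalT_eq hi w
    have h3 : evalK (a :: w) i = app (nthL NL a) (evalK w i) := (forceN_eq _ _).trans (appK_eq _ _)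
    have h4 : evalT (a :: w) i = Nat.mod (Nat.shiftRight (nthT TL a) (Nat.mul 16 (evalT w i))) 4096 :=
      forceN_eq (evalT w i) fun c => Nat.mod (Nat.shiftRight (nthT TL a) (Nat.mul 16 c)) 4096
    refine ⟨?_, h3 ▸ (in_nthL NL in_NL a).app_lt h2⟩
    rw [h4, h3, h1, ← TL_eq, nthT_map, tabN_eq (in_nthL NL in_NL a) h2]

private noncomputable def evalX (w : List ℕ) (i : ℕ) : ℕ :=
  Bool.rec (motive := fun _ => ℕ) (evalT w i) (evalK w i) (Nat.ble 4096 i)

private theorem evalX_eq : evalK = evalX := funext fun w => funext fun i => by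
  show _ = Bool.rec (motive := fun _ => ℕ) (evalT w i) (evalK w i) (Nat.ble 4096 i)
  cases h : Nat.ble 4096 i
  · exact (evalT_eq (Nat.lt_of_not_le fun e => Bool.false_ne_true (h.symm.trans (Nat.ble_eq_true_of_le e))) w).1.symm
  · rfl

private noncomputable def chkRelF (rels : List (List ℕ)) : Bool :=
  allL (fun r => allL (fun b => Nat.beq (evalX r b) b) [0, 29, 580, 577]) rels

private theorem chkRelF_eq (rels : List (List ℕ)) : chkRel rels = chkRelF rels :=
  congrArg (fun e : List ℕ → ℕ → ℕ => allL (fun r => allL (fun b => Nat.beq (e r b) b) [0, 29, 580, 577]) rels) evalX_eq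

end fast

/-- the certificate: `v` an involution, `u ^ m = 1`, `(u v) ^ k = 1`, `u` moves `b` -/
noncomputable def triR (u v : List ℕ) (m k b : ℕ) : Bool :=
  and (and (and (Nat.beq (Nat.gcd m 2) 1) (Nat.beq (Nat.gcd 2 k) 1)) (Nat.beq (Nat.gcd m k) 1))
    (and (and (Nat.ble (Nat.succ b) 4060) (not (Nat.beq (evalX u b) b)))
      (chkRelF [v ++ v, rep m u, rep k (u ++ v)]))

theorem tri {u v : List ℕ} {m k b : ℕ} (h : triR u v m k b = true) :
    wprod ml u ^ m = 1 ∧ wprod ml u ≠ 1 ∧ ¬ SI (wprod ml u) := by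
  unfold triR at h
  rw [Bool.and_eq_true, Bool.and_eq_true, Bool.and_eq_true, Bool.and_eq_true, Bool.and_eq_true] at h
  obtain ⟨⟨⟨h1, h2⟩, h3⟩, ⟨hb, h0⟩, hr⟩ := h
  have hr' := rel_of_chk ((chkRelF_eq _).trans hr)
  have r1 := hr' (v ++ v) (by simp)
  have r2 := hr' (rep m u) (by simp)
  have r3 := hr' (rep k (u ++ v)) (by simp)
  simp only [wprod_rep, wprod_append] at r1 r2 r3
  have h4 := ne_one_of (Nat.le_of_ble_eq_true hb) (u := u) (by rw [evalX_eq]; simpa using h0)
  exact ⟨r2, h4, not_si_triangle r1 h4 r2 r3 (Nat.eq_of_beq_eq_true h1) (Nat.eq_of_beq_eq_true h2)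
    (Nat.eq_of_beq_eq_true h3)⟩

theorem t_c : ¬ SI (wprod ml wc) :=
  (tri (v := [7, 5, 3]) (m := 5) (k := 13) (b := 29) (by decide +kernel)).2.2

theorem t_a : ¬ SI (wprod ml wa) :=
  (tri (v := [7, 5, 3]) (m := 5) (k := 7) (b := 29) (by decide +kernel)).2.2

theorem t_b0 : ¬ SI (wprod ml (wb ++ rep 0 wa)) :=
  (tri (v := [0, 7, 5, 3, 0]) (m := 5) (k := 29) (b := 29) (by decide +kernel)).2.2

theorem t_b1 : ¬ SI (wprod ml (wb ++ rep 1 wa)) :=
  (tri (v := [0, 3, 5, 7, 0]) (m := 5) (k := 29) (b := 29) (by decide +kernel)).2.2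

theorem t_b2 : ¬ SI (wprod ml (wb ++ rep 2 wa)) :=
  (tri (v := [0, 8, 5, 4, 0]) (m := 5) (k := 29) (b := 29) (by decide +kernel)).2.2

theorem t_b3 : ¬ SI (wprod ml (wb ++ rep 3 wa)) :=
  (tri (v := [3, 5, 7]) (m := 5) (k := 29) (b := 29) (by decide +kernel)).2.2

theorem t_b4 : ¬ SI (wprod ml (wb ++ rep 4 wa)) :=
  (tri (v := [0]) (m := 5) (k := 29) (b := 29) (by decide +kernel)).2.2

theorem five : InRow 5 RuOrder.H := by
  intro x hx h
  have : Fact (Nat.Prime 5) := ⟨by norm_num⟩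
  have hr := rel_of_chk chk_rels
  have r1 := hr (rep 5 wa) (by simp)
  have r2 := hr (rep 5 wb) (by simp)
  have r3 := hr (rep 5 wc) (by simp)
  have e1 : wprod ml (wa ++ wc) = wprod ml (wc ++ wa) := eq_of_chkEqW (by delta chkEqW; rw [evalX_eq]; decide +kernel)
  have e2 : wprod ml (wb ++ wc) = wprod ml (wc ++ wb) := eq_of_chkEqW (by delta chkEqW; rw [evalX_eq]; decide +kernel)
  have e3 : wprod ml (wa ++ wb) = wprod ml (wc ++ (wb ++ wa)) := eq_of_chkEqW (by delta chkEqW; rw [evalX_eq]; decide +kernel)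
  simp only [wprod_rep, wprod_append] at r1 r2 r3 e1 e2 e3
  rcases exists_extra (p := 5) (a := wprod ml wb) (b := wprod ml wa) (w := wprod ml wc) e3 e2 e1 r2 r1 r3
    (ne_one_of (b := 29) (by norm_num) (by decide +kernel)) (by rw [card_H]; norm_num) (S := SI)
    (fun x k h => h.pow k) (fun x u h => h.conj u) hx h with h | h | ⟨j, hj, h⟩
  · exact t_c h
  · exact t_a h
  · rw [← wprod_rep, ← wprod_append] at h
    interval_cases j
    · exact t_b0 h
    · exact t_b1 h
    · exact t_b2 h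
    · exact t_b3 h
    · exact t_b4 h

theorem row {p : ℕ} (hp : p.Prime) (hp2 : ¬ p ^ 2 ∣ Nat.card RuOrder.H) {u v : List ℕ} {k b : ℕ}
    (h : triR u v p k b = true) : InRow p RuOrder.H := by
  have : Fact p.Prime := ⟨hp⟩
  obtain ⟨h1, h2, h3⟩ := tri h
  exact inRow_of_not_sq hp hp2 (orderOf_eq_prime h1 h2) h3

theorem cert7 : triR [3, 6] [2] 7 5 29 = true := by decide +kernel

theorem cert13 : triR [2, 7, 1] [2] 13 7 29 = true := by decide +kernel

theorem cert29 : triR [2, 5, 1, 3, 0, 1] [0, 8, 5, 4, 0] 29 7 29 = true := by decide +kernel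

theorem inRow_H {p : ℕ} (hp : p.Prime) (hp5 : 5 ≤ p) : InRow p RuOrder.H := by
  intro x hx
  have h1 : p ∣ (List.map (fun q : ℕ × ℕ => q.1 ^ q.2) [(2, 14), (3, 3), (5, 3), (7, 1), (13, 1), (29, 1)]).prod := by
    have h2 : (List.map (fun q : ℕ × ℕ => q.1 ^ q.2) [(2, 14), (3, 3), (5, 3), (7, 1), (13, 1), (29, 1)]).prod =
      145926144000 := by norm_num
    rw [h2, ← card_H, ← hx]
    exact orderOf_dvd_natCard x
  have h3 := PermW.prime_mem hp _ (by
    intro q hq
    simp only [List.mem_cons, List.not_mem_nil, or_false] at hq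
    rcases hq with rfl | rfl | rfl | rfl | rfl | rfl <;> norm_num) h1
  simp only [List.map_cons, List.map_nil, List.mem_cons, List.not_mem_nil, or_false] at h3
  rcases h3 with rfl | rfl | rfl | rfl | rfl | rfl
  · omega
  · omega
  · exact five x hx
  · exact row hp (by rw [card_H]; norm_num) cert7 x hx
  · exact row hp (by rw [card_H]; norm_num) cert13 x hx
  · exact row hp (by rw [card_H]; norm_num) cert29 x hx

/-- **Ru** -/
theorem inRow {K : Type*} [Group K] (h : Cfsg.Spor.IsoRu K) {p : ℕ} (hp : p.Prime) (hp5 : 5 ≤ p) : InRow p K := by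
  obtain ⟨e⟩ := h
  exact (inRow_H hp hp5).congr (e.trans Cfsg.Agent.RuLat.Main.equiv)

end Cfsg.Agent.H348.Inv.Ru
end

-- part: H348/Inv/Rows
section
set_option linter.all false
open scoped Cfsg.Agent.FastGrp

/-!
# Rows of S3830: He, Ru, J₁, J₂, J₃ (helper348)

`irow_of_inRow` : `IRow p K` from `InRow p K` if the automorphisms of odd order are inner (`H564.OutOdd.sporadic`).
-/

set_option autoImplicit false

namespace Cfsg.Agent.H348.Inv.Rows

open Cfsg Cfsg.Agent.H459.Inv

/-- automorphisms of odd order are inner (= `H564.OutOdd.OddAut`) -/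
theorem irow_of_inRow {K : Type*} [Group K] [IsSimpleGroup K] (hna : ¬ IsMulCommutative K)
    (hO : ∀ x : MulAut K, Odd (orderOf x) → ∃ g : K, x = MulAut.conj g) {p : ℕ} (hp : p.Prime) (hp5 : 5 ≤ p)
    (h : InRow p K) : IRow p K :=
  h.irow' hna fun x hx => hO x (by rw [hx]; exact hp.odd_of_ne_two (by omega))

variable {K : Type*} [Group K] {p : ℕ}

theorem inRow_he (h : Cfsg.Spor.IsoHe K) (hp : p.Prime) (hp5 : 5 ≤ p) : InRow p K := by
  obtain ⟨e⟩ := h
  exact (He.inRow hp hp5).congr e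

theorem inRow_ru (h : Cfsg.Spor.IsoRu K) (hp : p.Prime) (hp5 : 5 ≤ p) : InRow p K := Ru.inRow h hp hp5

theorem inRow_j1 (h : Cfsg.Spor.IsoJ1 K) (hp : p.Prime) (hp5 : 5 ≤ p) : InRow p K := by
  obtain ⟨e⟩ := h
  exact (J1.inRow hp hp5).congr e

theorem inRow_j2 (h : Cfsg.Spor.IsoJ2 K) (hp : p.Prime) (hp5 : 5 ≤ p) : InRow p K := by
  obtain ⟨e⟩ := h
  exact (J2.inRow hp hp5).congr e

theorem inRow_j3 (h : Cfsg.Spor.IsoJ3 K) (hp : p.Prime) (hp5 : 5 ≤ p) : InRow p K := J3.inRow h hp hp5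

section

variable [IsSimpleGroup K] (hna : ¬ IsMulCommutative K)
  (hO : ∀ x : MulAut K, Odd (orderOf x) → ∃ g : K, x = MulAut.conj g)

include hna hO

theorem irow_he (h : Cfsg.Spor.IsoHe K) (hp : p.Prime) (hp5 : 5 ≤ p) : IRow p K :=
  irow_of_inRow hna hO hp hp5 (inRow_he h hp hp5)

theorem irow_ru (h : Cfsg.Spor.IsoRu K) (hp : p.Prime) (hp5 : 5 ≤ p) : IRow p K :=
  irow_of_inRow hna hO hp hp5 (inRow_ru h hp hp5)

theorem irow_j1 (h : Cfsg.Spor.IsoJ1 K) (hp : p.Prime) (hp5 : 5 ≤ p) : IRow p K :=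
  irow_of_inRow hna hO hp hp5 (inRow_j1 h hp hp5)

theorem irow_j2 (h : Cfsg.Spor.IsoJ2 K) (hp : p.Prime) (hp5 : 5 ≤ p) : IRow p K :=
  irow_of_inRow hna hO hp hp5 (inRow_j2 h hp hp5)

theorem irow_j3 (h : Cfsg.Spor.IsoJ3 K) (hp : p.Prime) (hp5 : 5 ≤ p) : IRow p K :=
  irow_of_inRow hna hO hp hp5 (inRow_j3 h hp hp5)

end

end Cfsg.Agent.H348.Inv.Rows
end

-- part: H580/Inv/Core
section
set_option linter.all false
open scoped Cfsg.Agent.FastGrp

/-!
# S3830: rows with cyclic Sylow subgroups of prime order from one explicit pair (helper580)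

`irow_of_pair` : `K` with inner automorphisms of odd prime order only, `p²` does not divide `|K|`, one pair `x`, `y` of
elements of orders `p` and `2` with `(x y) ^ n = 1`, `n` odd and prime to `p`: then `IRow p K`.
-/

set_option autoImplicit false

namespace Cfsg.Agent.H580.Inv

open Cfsg Subgroup Cfsg.Agent.H459.Inv
open scoped Pointwise
open Cfsg.Agent.BpSpor.Inn (OddInn)

universe u

variable {K : Type u} [Group K] [Finite K] {p : ℕ} [hp : Fact p.Prime]

omit [Finite K] in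
/-- no element of order `p` -/
theorem irow_of_not_dvd (hinn : OddInn K) (hp2 : p ≠ 2) (h : ¬ p ∣ Nat.card K) : IRow p K := by
  intro x hx
  exfalso
  obtain ⟨g, rfl⟩ := hinn p hp.out hp2 x hx
  apply h
  rw [← hx]
  exact (orderOf_map_dvd (MulAut.conj : K →* MulAut K) g).trans (orderOf_dvd_natCard g)

/-- an element of order `p` of `K` inducing a given inner automorphism of order `p` -/
theorem exists_orderOf {x : MulAut K} {g : K} (hg : x = MulAut.conj g) (hx : orderOf x = p) :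
    ∃ k : ℕ, orderOf (g ^ k) = p ∧ MulAut.conj (g ^ k) = x ^ k := by
  have h1 : p ∣ orderOf g := by
    rw [← hx, hg]
    exact orderOf_map_dvd (MulAut.conj : K →* MulAut K) g
  obtain ⟨k, hk⟩ := h1
  have h0 : orderOf g ≠ 0 := (orderOf_pos g).ne'
  refine ⟨k, ?_, by rw [hg, map_pow]⟩
  have hk0 : k ≠ 0 := by
    rintro rfl
    exact h0 (by rw [hk, mul_zero])
  rw [orderOf_pow_of_dvd hk0 (hk ▸ Dvd.intro_left p rfl), hk, Nat.mul_div_cancel _ (Nat.pos_of_ne_zero hk0)]

/-- **Sylow subgroups of order `p`**: the elements of order `p` are conjugate to powers of each other. -/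
theorem exists_conj_pow (hc : ¬ p ^ 2 ∣ Nat.card K) {x g : K} (hx : orderOf x = p) (hg : orderOf g = p) :
    ∃ (u : K) (k : ℕ), u * g ^ k * u⁻¹ = x := by
  -- Sylow subgroups
  have hcard : ∀ z : K, orderOf z = p → ∃ P : Sylow p K, (P : Subgroup K) = zpowers z := by
    intro z hz
    have h1 : IsPGroup p (zpowers z) := IsPGroup.of_card (n := 1) (by rw [Nat.card_zpowers, hz, pow_one])
    obtain ⟨P, hP⟩ := h1.exists_le_sylow
    refine ⟨P, ?_⟩
    symm
    apply Subgroup.eq_of_le_of_card_ge hP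
    obtain ⟨n, hn⟩ := IsPGroup.iff_card.1 P.2
    have h2 : p ^ n ∣ Nat.card K := by rw [← hn]; exact Subgroup.card_subgroup_dvd_card _
    have h3 : n < 2 := by
      by_contra h4
      exact hc ((pow_dvd_pow p (by omega)).trans h2)
    rw [Nat.card_zpowers, hz]
    rw [hn]
    calc p ^ n ≤ p ^ 1 := Nat.pow_le_pow_right hp.out.pos (by omega)
      _ = p := pow_one p
  obtain ⟨P, hP⟩ := hcard x hx
  obtain ⟨Q, hQ⟩ := hcard g hg
  obtain ⟨u, hu⟩ := MulAction.exists_smul_eq K Q P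
  have h1 : x ∈ (P : Subgroup K) := by rw [hP]; exact mem_zpowers x
  rw [← hu] at h1
  have h2 : u⁻¹ * x * u ∈ (Q : Subgroup K) := by
    rw [Sylow.coe_subgroup_smul, Subgroup.mem_pointwise_smul_iff_inv_smul_mem] at h1
    simpa using h1
  rw [hQ, ← mem_powers_iff_mem_zpowers] at h2
  obtain ⟨k, hk⟩ := h2
  refine ⟨u, k, ?_⟩
  have hk' : g ^ k = u⁻¹ * x * u := hk
  rw [hk']
  group

/-- one element of order `p` is enough -/
theorem irow_of_one (hinn : OddInn K) (hp2 : p ≠ 2) (hc : ¬ p ^ 2 ∣ Nat.card K) {g : K} (hg : orderOf g = p)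
    (h : NS (MulAut.conj g)) : IRow p K := by
  intro x hx
  obtain ⟨w, hw⟩ := hinn p hp.out hp2 x hx
  obtain ⟨k, hk, hk2⟩ := exists_orderOf hw hx
  apply ns_of_pow (k := k)
  rw [← hk2]
  obtain ⟨u, j, hj⟩ := exists_conj_pow hc hg hk
  -- `g = u w^k^j u⁻¹`
  apply ns_of_pow (k := j)
  rw [← map_pow]
  refine ns_of_conj (g := MulAut.conj u) ?_
  rw [← map_inv, ← map_mul, ← map_mul, hj]
  exact h

/-- **The criterion**: one pair `x`, `y`. -/
theorem irow_of_pair (hinn : OddInn K) (hp2 : p ≠ 2) (hc : ¬ p ^ 2 ∣ Nat.card K) {x y : K} (hx : orderOf x = p)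
    (hy : orderOf y = 2) {n : ℕ} (hxy : (x * y) ^ n = 1) (hn : Odd n) (hnp : n.Coprime p) : IRow p K := by
  refine irow_of_one hinn hp2 hc hx (ns_of_triangle hy ?_ ?_ ?_)
  · rw [hx]
    exact hp.out.odd_of_ne_two hp2
  · exact Odd.of_dvd_nat hn (orderOf_dvd_of_pow_eq_one hxy)
  · rw [hx]
    exact Nat.Coprime.coprime_dvd_left (orderOf_dvd_of_pow_eq_one hxy) hnp

end Cfsg.Agent.H580.Inv
end

-- part: H580/Inv/MathPairs
section
set_option linter.all false
open scoped Cfsg.Agent.FastGrp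

/-!
# S3830: the Mathieu groups, explicit pairs of permutations (helper580)

`Pair L p` : the subgroup `L` of the permutations of the 24 points contains an element `x` of order `p` and an involution `y`
with `x y` of odd order prime to `p`; `pair_*` : the pairs in `M11 ≤ M12` (5, 11), in `M22 ≤ M23` (5, 7, 11), in `M23` (23);
`irow_of_pair'` : the row from `Pair`.
-/

set_option autoImplicit false

namespace Cfsg.Agent.H580.Inv.Mathieu

open Cfsg Subgroup Cfsg.Agent.H459.Inv
open Cfsg.Agent.BpSpor.Inn (OddInn)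
open Cfsg.Agent.SporadicA.GolayBase Cfsg.Agent.SporadicStructure.TabPerm
open Cfsg.Agent.CpAutBig.Tab
open scoped Pointwise

universe u

/-- the composition of two tables -/
def it2 (F F' : List ℕ) (j : ℕ) : ℕ := F.getD (F'.getD j 0) 0

theorem pow_eq_one {F G : List ℕ} (h : chk F G = true) {n : ℕ}
    (hn : ∀ i < 24, (fun j => F.getD j 0)^[n] i = i) : tabPerm F G h ^ n = 1 := by
  ext1 p
  apply idx_injective
  rw [idx_iter h n p, hn _ (idx_lt p)]
  rfl

theorem ne_one {F G : List ℕ} (h : chk F G = true) {i : ℕ} (hi : i < 24) (hn : F.getD i 0 ≠ i) :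
    tabPerm F G h ≠ 1 := by
  intro h1
  have h2 := idx_tab h (pt i)
  rw [h1, idx_pt hi] at h2
  exact hn (h2.symm.trans (idx_pt hi))

theorem mul_pow_eq_one {F G F' G' : List ℕ} (h : chk F G = true) (h' : chk F' G' = true) {n : ℕ}
    (hn : ∀ i < 24, (it2 F F')^[n] i = i) : (tabPerm F G h * tabPerm F' G' h') ^ n = 1 := by
  have key : ∀ (e : ℕ) (p : GolayPt), idx (((tabPerm F G h * tabPerm F' G' h') ^ e : Equiv.Perm GolayPt) p) =
      (it2 F F')^[e] (idx p) := by
    intro e p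
    induction e with
    | zero => rfl
    | succ e ih =>
      rw [pow_succ', Function.iterate_succ_apply', ← ih, Equiv.Perm.mul_apply, Equiv.Perm.mul_apply, idx_tab,
        idx_tab]
      rfl
  ext1 p
  apply idx_injective
  rw [key, hn _ (idx_lt p)]
  rfl

/-- `L` contains a pair -/
def Pair (L : Subgroup (Equiv.Perm GolayPt)) (p : ℕ) : Prop :=
  ∃ x ∈ L, ∃ y ∈ L, x ^ p = 1 ∧ x ≠ 1 ∧ y ^ 2 = 1 ∧ y ≠ 1 ∧ ∃ n : ℕ, (x * y) ^ n = 1 ∧ Odd n ∧ n.Coprime p

theorem Pair.mono {L M : Subgroup (Equiv.Perm GolayPt)} {p : ℕ} (hLM : L ≤ M) (h : Pair L p) : Pair M p := by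
  obtain ⟨x, hx, y, hy, h⟩ := h
  exact ⟨x, hLM hx, y, hLM hy, h⟩

theorem irow_of_pair' {K : Type u} [Group K] [Finite K] {p : ℕ} [hp : Fact p.Prime]
    {L : Subgroup (Equiv.Perm GolayPt)} (e : K ≃* L) (hinn : OddInn K) (hp2 : p ≠ 2) (hc : ¬ p ^ 2 ∣ Nat.card K)
    (h : Pair L p) : IRow p K := by
  obtain ⟨x, hx, y, hy, h1, h2, h3, h4, n, h5, h6, h7⟩ := h
  have hx' : orderOf (e.symm ⟨x, hx⟩) = p := by
    rw [MulEquiv.orderOf_eq, Subgroup.orderOf_mk]
    exact orderOf_eq_prime h1 h2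
  have hy' : orderOf (e.symm ⟨y, hy⟩) = 2 := by
    rw [MulEquiv.orderOf_eq, Subgroup.orderOf_mk]
    exact orderOf_eq_prime h3 h4
  refine irow_of_pair hinn hp2 hc hx' hy' (n := n) ?_ h6 h7
  rw [← map_mul, ← map_pow]
  have : ((⟨x, hx⟩ : L) * ⟨y, hy⟩) ^ n = 1 := Subtype.ext h5
  rw [this, map_one]

/-! ### Membership -/

theorem fix_of {F G : List ℕ} (h : chk F G = true) {i : ℕ} (hi : i < 24) (hn : F.getD i 0 = i) :
    tabPerm F G h • pt i = pt i := by
  apply idx_injective
  change idx (tabPerm F G h (pt i)) = _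
  rw [idx_tab, idx_pt hi, hn]

theorem squareDodecad_eq : Spor.squareDodecad = fin 340831 := by
  ext p
  revert p
  decide +kernel

theorem mem_M23 {F G : List ℕ} (h : chk F G = true) (hM : chkM F = true) (h1 : F.getD 23 0 = 23) :
    tabPerm F G h ∈ Spor.M23 := ⟨tabPerm_mem_M24 _ _ _ hM, fix_of h (i := 23) (by norm_num) h1⟩

theorem mem_M22 {F G : List ℕ} (h : chk F G = true) (hM : chkM F = true) (h1 : F.getD 23 0 = 23)
    (h2 : F.getD 0 0 = 0) : tabPerm F G h ∈ Spor.M22 :=
  ⟨mem_M23 h hM h1, fix_of h (i := 0) (by norm_num) h2⟩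

theorem mem_M11 {F G : List ℕ} (h : chk F G = true) (hM : chkM F = true) (h1 : pull G 340831 = 340831)
    (h2 : F.getD 0 0 = 0) : tabPerm F G h ∈ Spor.M11 := by
  refine ⟨⟨tabPerm_mem_M24 _ _ _ hM, ?_⟩, fix_of h (i := 0) (by norm_num) h2⟩
  change tabPerm F G h • Spor.squareDodecad = Spor.squareDodecad
  rw [squareDodecad_eq, tabPerm_smul_fin, h1]

/-! ### The pairs -/

def FA5 : List ℕ := [0, 2, 12, 9, 4, 5, 1, 20, 3, 16, 11, 14, 13, 6, 7, 15, 18, 23, 8, 17, 10, 19, 21, 22]
def GA5 : List ℕ := [0, 6, 1, 8, 4, 5, 13, 14, 18, 3, 20, 10, 2, 12, 11, 15, 9, 19, 16, 21, 7, 22, 23, 17]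
def TA5 : List ℕ := [0, 1, 12, 18, 8, 5, 13, 23, 4, 9, 11, 10, 2, 6, 21, 15, 16, 17, 3, 20, 19, 14, 22, 7]

theorem pair_A5 : Pair Spor.M11 5 := by
  have h1 : chk FA5 GA5 = true := by decide +kernel
  have h2 : chk TA5 TA5 = true := by decide +kernel
  refine ⟨tabPerm _ _ h1, mem_M11 h1 (by decide +kernel) (by decide +kernel) (by decide +kernel), tabPerm _ _ h2,
    mem_M11 h2 (by decide +kernel) (by decide +kernel) (by decide +kernel), ?_⟩
  exact ⟨pow_eq_one h1 (by decide +kernel), ne_one h1 (i := 1) (by norm_num) (by decide +kernel),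
    pow_eq_one h2 (by decide +kernel), ne_one h2 (i := 2) (by norm_num) (by decide +kernel), 3,
    mul_pow_eq_one h1 h2 (by decide +kernel), by decide, by decide⟩

def FA11 : List ℕ := [0, 9, 18, 4, 12, 11, 13, 7, 1, 16, 14, 21, 8, 3, 22, 19, 2, 23, 6, 5, 10, 20, 17, 15]
def GA11 : List ℕ := [0, 8, 16, 13, 3, 19, 18, 7, 12, 1, 20, 5, 4, 6, 10, 23, 9, 22, 2, 15, 21, 11, 14, 17]
def TA11 : List ℕ := [0, 9, 8, 18, 12, 5, 6, 7, 2, 1, 14, 21, 4, 13, 10, 22, 16, 17, 3, 20, 19, 11, 15, 23]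

theorem pair_A11 : Pair Spor.M11 11 := by
  have h1 : chk FA11 GA11 = true := by decide +kernel
  have h2 : chk TA11 TA11 = true := by decide +kernel
  refine ⟨tabPerm _ _ h1, mem_M11 h1 (by decide +kernel) (by decide +kernel) (by decide +kernel), tabPerm _ _ h2,
    mem_M11 h2 (by decide +kernel) (by decide +kernel) (by decide +kernel), ?_⟩
  exact ⟨pow_eq_one h1 (by decide +kernel), ne_one h1 (i := 1) (by norm_num) (by decide +kernel),
    pow_eq_one h2 (by decide +kernel), ne_one h2 (i := 1) (by norm_num) (by decide +kernel), 3,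
    mul_pow_eq_one h1 h2 (by decide +kernel), by decide, by decide⟩

def FB5 : List ℕ := [0, 21, 17, 14, 5, 7, 13, 10, 3, 1, 16, 6, 11, 19, 15, 20, 4, 9, 18, 12, 8, 2, 22, 23]
def GB5 : List ℕ := [0, 9, 21, 8, 16, 4, 11, 5, 20, 17, 7, 12, 19, 6, 3, 14, 10, 2, 18, 13, 15, 1, 22, 23]
def TB5 : List ℕ := [0, 1, 13, 21, 16, 5, 6, 10, 19, 14, 7, 17, 15, 2, 9, 12, 4, 11, 18, 8, 20, 3, 22, 23]

theorem pair_B5 : Pair Spor.M22 5 := by
  have h1 : chk FB5 GB5 = true := by decide +kernel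
  have h2 : chk TB5 TB5 = true := by decide +kernel
  refine ⟨tabPerm _ _ h1, mem_M22 h1 (by decide +kernel) (by decide +kernel) (by decide +kernel), tabPerm _ _ h2,
    mem_M22 h2 (by decide +kernel) (by decide +kernel) (by decide +kernel), ?_⟩
  exact ⟨pow_eq_one h1 (by decide +kernel), ne_one h1 (i := 1) (by norm_num) (by decide +kernel),
    pow_eq_one h2 (by decide +kernel), ne_one h2 (i := 2) (by norm_num) (by decide +kernel), 3,
    mul_pow_eq_one h1 h2 (by decide +kernel), by decide, by decide⟩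

def FB7 : List ℕ := [0, 19, 12, 16, 4, 1, 17, 3, 11, 21, 9, 6, 22, 2, 10, 20, 14, 5, 13, 8, 18, 7, 15, 23]
def GB7 : List ℕ := [0, 5, 13, 7, 4, 17, 11, 21, 19, 10, 14, 8, 2, 18, 16, 22, 3, 6, 20, 1, 15, 9, 12, 23]
def TB7 : List ℕ := [0, 12, 2, 3, 4, 20, 17, 10, 8, 9, 7, 18, 1, 19, 16, 22, 14, 6, 11, 13, 5, 21, 15, 23]

theorem pair_B7 : Pair Spor.M22 7 := by
  have h1 : chk FB7 GB7 = true := by decide +kernel
  have h2 : chk TB7 TB7 = true := by decide +kernel
  refine ⟨tabPerm _ _ h1, mem_M22 h1 (by decide +kernel) (by decide +kernel) (by decide +kernel), tabPerm _ _ h2,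
    mem_M22 h2 (by decide +kernel) (by decide +kernel) (by decide +kernel), ?_⟩
  exact ⟨pow_eq_one h1 (by decide +kernel), ne_one h1 (i := 1) (by norm_num) (by decide +kernel),
    pow_eq_one h2 (by decide +kernel), ne_one h2 (i := 1) (by norm_num) (by decide +kernel), 3,
    mul_pow_eq_one h1 h2 (by decide +kernel), by decide, by decide⟩

def FB11 : List ℕ := [0, 4, 19, 6, 11, 16, 17, 21, 12, 13, 9, 2, 14, 1, 18, 7, 20, 8, 15, 5, 10, 22, 3, 23]
def GB11 : List ℕ := [0, 13, 11, 22, 1, 19, 3, 15, 17, 10, 20, 4, 8, 9, 12, 18, 5, 6, 14, 2, 16, 7, 21, 23]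
def TB11 : List ℕ := [0, 2, 1, 6, 4, 19, 3, 14, 12, 9, 20, 11, 8, 16, 7, 15, 13, 21, 18, 5, 10, 17, 22, 23]

theorem pair_B11 : Pair Spor.M22 11 := by
  have h1 : chk FB11 GB11 = true := by decide +kernel
  have h2 : chk TB11 TB11 = true := by decide +kernel
  refine ⟨tabPerm _ _ h1, mem_M22 h1 (by decide +kernel) (by decide +kernel) (by decide +kernel), tabPerm _ _ h2,
    mem_M22 h2 (by decide +kernel) (by decide +kernel) (by decide +kernel), ?_⟩
  exact ⟨pow_eq_one h1 (by decide +kernel), ne_one h1 (i := 1) (by norm_num) (by decide +kernel),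
    pow_eq_one h2 (by decide +kernel), ne_one h2 (i := 1) (by norm_num) (by decide +kernel), 3,
    mul_pow_eq_one h1 h2 (by decide +kernel), by decide, by decide⟩

def FC23 : List ℕ := [6, 3, 20, 13, 12, 18, 11, 22, 9, 5, 4, 14, 1, 16, 19, 8, 2, 7, 21, 15, 17, 10, 0, 23]
def GC23 : List ℕ := [22, 12, 16, 1, 10, 9, 0, 17, 15, 8, 21, 6, 4, 3, 11, 19, 13, 20, 5, 14, 2, 18, 7, 23]
def TC23 : List ℕ := [17, 12, 2, 13, 4, 21, 6, 18, 15, 9, 14, 16, 1, 3, 10, 8, 11, 0, 7, 19, 20, 5, 22, 23]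

theorem pair_C23 : Pair Spor.M23 23 := by
  have h1 : chk FC23 GC23 = true := by decide +kernel
  have h2 : chk TC23 TC23 = true := by decide +kernel
  refine ⟨tabPerm _ _ h1, mem_M23 h1 (by decide +kernel) (by decide +kernel), tabPerm _ _ h2,
    mem_M23 h2 (by decide +kernel) (by decide +kernel), ?_⟩
  exact ⟨pow_eq_one h1 (by decide +kernel), ne_one h1 (i := 0) (by norm_num) (by decide +kernel),
    pow_eq_one h2 (by decide +kernel), ne_one h2 (i := 0) (by norm_num) (by decide +kernel), 5,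
    mul_pow_eq_one h1 h2 (by decide +kernel), by decide, by decide⟩

theorem M11_le : Spor.M11 ≤ Spor.M12 := inf_le_left

theorem M22_le : Spor.M22 ≤ Spor.M23 := inf_le_left

theorem M23_le : Spor.M23 ≤ M24 := inf_le_left

end Cfsg.Agent.H580.Inv.Mathieu
end

-- part: H76/Inv/Fi23
section
set_option linter.all false
open scoped Cfsg.Agent.FastGrp

/-!
# S3830, the row `Fi23` (helper76)

For every prime `p ≥ 5` dividing `|Fi23|` all subgroups of order `p` are conjugate (`LThreeFi23`), and there is an involution `y`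
such that `x y` has odd order prime to `p`.
-/

set_option autoImplicit false
set_option Elab.async false
set_option maxRecDepth 100000

namespace Cfsg.Agent.H76.Inv.FiTh

open Cfsg Cfsg.Agent.H459.Inv Cfsg.Agent.LThreeFi23 Cfsg.Agent.Lib.PermNet Cfsg.Agent.Lib.PermNetOrbit
open Cfsg.Spor (Fi23)

/-- the product with the involution, `p = 5` -/
def w5 : List Lt := y5 ++ [Lt.f, Lt.j]

/-- the product with the involution, `p = 7` -/
def w7 : List Lt := y7 ++ [Lt.e]

/-- the product with the involution, `p = 11` -/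
def w11 : List Lt := y11 ++ [Lt.g]

/-- the product with the involution, `p = 13` -/
def w13 : List Lt := y13 ++ [Lt.d]

/-- the product with the involution, `p = 17` -/
def w17 : List Lt := y17 ++ [Lt.h]

/-- the product with the involution, `p = 23` -/
def w23 : List Lt := y23 ++ [Lt.e]

private noncomputable def fixW (w : List Lt) : Bool :=
  [Lt.a, .b, .c, .d, .e, .f, .g, .h, .i, .j, .z].all fun x => Nat.beq (ptWord (ntw w) (pt x)) (pt x)

private theorem pow_of_fixW {y : List Lt} {m : ℕ} (h : fixW (wrep y m) = true) : elw y ^ m = 1 := by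
  rw [← elw_wrep]
  refine eq_one_of_comm fun x => (fix_pt_iff _ x).1 ?_
  rw [← ptw_eq]
  exact Nat.eq_of_beq_eq_true (List.all_eq_true.1 h x (by cases x <;> simp))

private theorem t_all : fixW (wrep w5 3) = true ∧ fixW (wrep w7 9) = true ∧ fixW (wrep w11 13) = true ∧ fixW (wrep w13 9) = true ∧ fixW (wrep w17 9) = true ∧ fixW (wrep w23 21) = true ∧
    fixW (wrep [.f, .j] 2) = true := by
  delta fixW
  rewrite [Cfsg.Agent.Lib.PermNetFast.ptWord_fast]
  decide +kernel


theorem tri5 : (elw y5 * elw [.f, .j]) ^ 3 = 1 := by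
  rw [← elw_append]
  exact pow_of_fixW t_all.1

theorem sq5 : elw [.f, .j] * elw [.f, .j] = 1 := by
  rw [← pow_two]
  exact pow_of_fixW t_all.2.2.2.2.2.2

theorem ns5 : NS (MulAut.conj (elw y5)) :=
  ns_tri (by decide) pow5 sq5 (ne_one_of_pt (p := 0) (by decide +kernel)) tri5 (by decide) (by decide)


theorem tri7 : (elw y7 * elw [.e]) ^ 9 = 1 := by
  rw [← elw_append]
  exact pow_of_fixW t_all.2.1

theorem sq7 : elw [.e] * elw [.e] = 1 := by
  rw [elw_cons, elw_nil, mul_one, el_sq]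

theorem ns7 : NS (MulAut.conj (elw y7)) :=
  ns_tri (by decide) pow7 sq7 (ne_one_of_pt (p := 3) (by decide +kernel)) tri7 (by decide) (by decide)


theorem tri11 : (elw y11 * elw [.g]) ^ 13 = 1 := by
  rw [← elw_append]
  exact pow_of_fixW t_all.2.2.1

theorem sq11 : elw [.g] * elw [.g] = 1 := by
  rw [elw_cons, elw_nil, mul_one, el_sq]

theorem ns11 : NS (MulAut.conj (elw y11)) :=
  ns_tri (by decide) pow11 sq11 (ne_one_of_pt (p := 1) (by decide +kernel)) tri11 (by decide) (by decide)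


theorem tri13 : (elw y13 * elw [.d]) ^ 9 = 1 := by
  rw [← elw_append]
  exact pow_of_fixW t_all.2.2.2.1

theorem sq13 : elw [.d] * elw [.d] = 1 := by
  rw [elw_cons, elw_nil, mul_one, el_sq]

theorem ns13 : NS (MulAut.conj (elw y13)) :=
  ns_tri (by decide) pow13 sq13 (ne_one_of_pt (p := 4) (by decide +kernel)) tri13 (by decide) (by decide)


theorem tri17 : (elw y17 * elw [.h]) ^ 9 = 1 := by
  rw [← elw_append]
  exact pow_of_fixW t_all.2.2.2.2.1

theorem sq17 : elw [.h] * elw [.h] = 1 := by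
  rw [elw_cons, elw_nil, mul_one, el_sq]

theorem ns17 : NS (MulAut.conj (elw y17)) :=
  ns_tri (by decide) pow17 sq17 (ne_one_of_pt (p := 5) (by decide +kernel)) tri17 (by decide) (by decide)


theorem tri23 : (elw y23 * elw [.e]) ^ 21 = 1 := by
  rw [← elw_append]
  exact pow_of_fixW t_all.2.2.2.2.2.1

theorem sq23 : elw [.e] * elw [.e] = 1 := by
  rw [elw_cons, elw_nil, mul_one, el_sq]

theorem ns23 : NS (MulAut.conj (elw y23)) :=
  ns_tri (by decide) pow23 sq23 (ne_one_of_pt (p := 3) (by decide +kernel)) tri23 (by decide) (by decide)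

theorem row_model {p : ℕ} (hp : p.Prime) (hp5 : 5 ≤ p) : IRow p Fi23 := by
  intro α hα
  obtain ⟨x, rfl⟩ := KFacts.FiTTh.Has.inn α
  have : IsSimpleGroup Fi23 := Fischer.Fi23Simple.isFi23.1
  have hx : orderOf x = p := by
    rw [← hα]
    refine (orderOf_conj ?_ x).symm
    intro h
    have h1 : (Nat.card Fi23).Prime := by
      let _ : CommGroup Fi23 := { (inferInstance : Group Fi23) with mul_comm := h.is_comm.comm }
      exact IsSimpleGroup.prime_card
    rw [card_G] at h1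
    exact absurd h1 (by norm_num)
  have hxp : x ^ p = 1 := by rw [← hx, pow_orderOf_eq_one]
  have hx1 : x ≠ 1 := by
    rintro rfl
    rw [orderOf_one] at hx
    exact hp.one_lt.ne hx
  rcases prime_cases hp hp5 (prime_dvd_card hp hxp hx1) with rfl | rfl | rfl | rfl | rfl | rfl
  · exact ns_of_conj_zpow hp hx pow5 (conj_five hxp) ns5
  · exact ns_of_conj_zpow hp hx pow7 (conj_seven hxp) ns7
  · exact ns_of_conj_zpow hp hx pow11 (conj_eleven hxp) ns11
  · exact ns_of_conj_zpow hp hx pow13 (conj_thirteen hxp) ns13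
  · exact ns_of_conj_zpow hp hx pow17 (conj_seventeen hxp) ns17
  · exact ns_of_conj_zpow hp hx pow23 (conj_twentythree hxp) ns23

end Cfsg.Agent.H76.Inv.FiTh

namespace Cfsg.Agent.H76.Inv

/-- **The row `Fi23` of S3830.** -/
theorem irow_Fi23 {K : Type*} [Group K] (h : Cfsg.Spor.IsoFi23 K) {p : ℕ} [Fact p.Prime] (hp5 : 5 ≤ p) :
    Cfsg.Agent.H459.Inv.IRow p K := by
  obtain ⟨e⟩ := h
  exact Cfsg.Agent.H459.Inv.IRow.congr e (FiTh.row_model Fact.out hp5)

end Cfsg.Agent.H76.Inv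
end

-- part: H743/InvTool
section
set_option linter.all false
open scoped Cfsg.Agent.FastGrp

/-!
# S3830: simple subgroups and products of two commuting simple subgroups (helper743)

* `IH.down` : the induction hypothesis for groups in `Type`;
* `ns_of_sub` : `x` of exponent `p` acts nontrivially on an invariant proper simple subgroup;
* `ns_of_prod` : `A`, `B` commuting simple subgroups with `A B` of index prime to `p`: `NS` for inner automorphisms.
-/

set_option autoImplicit false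
set_option linter.unusedSectionVars false

namespace Cfsg.Agent.H743.InvTool

open Cfsg Subgroup Cfsg.Agent.H459.Inv Cfsg.Agent.H459.Rad

universe u v

theorem ih_down {p n : ℕ} (h : IH.{u} p n) : IH.{0} p n := by
  intro L _ _ _ hc hn
  have : IsSimpleGroup (ULift.{u} L) := IsSimpleGroup.isSimpleGroup_of_surjective
    (MulEquiv.ulift (α := L)).symm.toMonoidHom (MulEquiv.ulift (α := L)).symm.surjective
  have h1 : IRow p (ULift.{u} L) := by
    refine h (ULift.{u} L) ?_ ?_
    · intro hc'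
      apply hc
      refine ⟨⟨fun a b => ?_⟩⟩
      have := hc'.is_comm.comm (ULift.up a) (ULift.up b)
      exact congrArg ULift.down this
    · rwa [Nat.card_ulift]
  exact h1.congr (MulEquiv.ulift (α := L)).symm

section

variable {K : Type u} [Group K] [Finite K]

/-- **Invariant simple subgroups** -/
theorem ns_of_sub {p : ℕ} [hp : Fact p.Prime] {A : Subgroup K} [IsSimpleGroup A] (hA : ¬ Group.IsSolvable A)
    {x : MulAut K} (hx : x ^ p = 1) (hxA : ∀ a ∈ A, x a ∈ A) (hne : ∃ a ∈ A, x a ≠ a)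
    (hI : IH.{u} p (Nat.card K)) (hAK : Nat.card A < Nat.card K) : NS x := by
  let f : A →* A := (x.toMonoidHom.comp A.subtype).codRestrict A fun a => hxA a a.2
  have hf : Function.Injective f := by
    intro a b hab
    have h1 : x (a : K) = x b := congrArg Subtype.val hab
    exact Subtype.ext (x.injective h1)
  let x' : MulAut A := MulEquiv.ofBijective f (Finite.injective_iff_bijective.1 hf)
  have hx' : ∀ a : A, ((x' a : A) : K) = x a := fun a => rfl
  have hpow : ∀ (n : ℕ) (a : A), (((x' ^ n) a : A) : K) = (x ^ n) a := by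
    intro n
    induction n with
    | zero => intro a; rfl
    | succ n ih =>
      intro a
      rw [pow_succ', pow_succ', MulAut.mul_apply, MulAut.mul_apply, hx', ih]
  have h1 : x' ^ p = 1 := by
    ext a
    rw [hpow, hx]
    rfl
  have h2 : x' ≠ 1 := by
    intro h
    obtain ⟨a, ha, hne⟩ := hne
    apply hne
    have h3 := hx' ⟨a, ha⟩
    rw [h] at h3
    exact h3.symm
  have h3 : orderOf x' = p := orderOf_eq_prime h1 h2
  have hc : ¬ IsMulCommutative A := by
    intro hc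
    apply hA
    exact Group.isSolvable_of_comm fun a b => hc.is_comm.comm a b
  refine ns_of_odd (M := A) hxA (MonoidHom.id A) Function.surjective_id ?_ x' (fun m => rfl)
    (hI A hc hAK x' h3)
  have : (MonoidHom.id A).ker = ⊥ := (MonoidHom.ker_eq_bot_iff _).2 Function.injective_id
  rw [this, Subgroup.card_bot]
  exact odd_one

/-- an element of order `p` has a conjugate in a subgroup of index prime to `p` -/
theorem exists_conj_mem {p : ℕ} [hp : Fact p.Prime] {H : Subgroup K} (hi : ¬ p ∣ H.index) {a : K}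
    (ha : orderOf a = p) : ∃ g : K, g * a * g⁻¹ ∈ H := by
  have h1 : IsPGroup p (zpowers a) := IsPGroup.of_card (n := 1) (by rw [Nat.card_zpowers, ha, pow_one])
  have h2 : (MulAction.fixedPoints (zpowers a) (K ⧸ H)).Nonempty := by
    refine h1.nonempty_fixed_point_of_prime_not_dvd_card (α := K ⧸ H) ?_
    exact hi
  obtain ⟨y, hy⟩ := h2
  obtain ⟨g, rfl⟩ := QuotientGroup.mk_surjective y
  refine ⟨g⁻¹, ?_⟩
  have h3 := hy ⟨a, mem_zpowers a⟩
  have h4 : ((a * g : K) : K ⧸ H) = (g : K ⧸ H) := h3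
  rw [QuotientGroup.eq] at h4
  have h5 := H.inv_mem h4
  rw [inv_inv]
  have e : ((a * g)⁻¹ * g)⁻¹ = g⁻¹ * a * g := by group
  rwa [e] at h5

theorem ns_conj_of_conj {a g : K} (h : NS (MulAut.conj (g * a * g⁻¹))) : NS (MulAut.conj a) := by
  refine ns_of_conj (g := MulAut.conj g) ?_
  rwa [← map_inv, ← map_mul, ← map_mul]

/-- **Products of two commuting simple subgroups** -/
theorem ns_of_prod {A B : Subgroup K} (hc : ∀ a ∈ A, ∀ b ∈ B, a * b = b * a) [IsSimpleGroup A] [IsSimpleGroup B]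
    (hA : ¬ Group.IsSolvable A) (hB : ¬ Group.IsSolvable B) {p : ℕ} [hp : Fact p.Prime]
    (hi : ¬ p ∣ (A ⊔ B).index) (hI : IH.{u} p (Nat.card K)) (hAK : Nat.card A < Nat.card K)
    (hBK : Nat.card B < Nat.card K) {a : K} (ha : orderOf a = p) : NS (MulAut.conj a) := by
  obtain ⟨g, hg⟩ := exists_conj_mem hi ha
  refine ns_conj_of_conj (g := g) ?_
  have hord : orderOf (g * a * g⁻¹) = p := by
    rw [← ha]; exact orderOf_injective (MulAut.conj g).toMonoidHom (MulAut.conj g).injective a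
  set w := g * a * g⁻¹ with hw
  have hwp : (MulAut.conj w) ^ p = 1 := by rw [← map_pow, ← hord, pow_orderOf_eq_one, map_one]
  obtain ⟨c, hcA, d, hdB, h⟩ : ∃ c ∈ A, ∃ d ∈ B, w = c * d :=
    Cfsg.Agent.SplitTwo.ZS.mem_sup_of_norm (A := A) (B := B)
      (fun a ha b hb => by rw [hc a ha b hb, mul_inv_cancel_right]; exact hb) hg
  have hcd : c ≠ 1 ∨ d ≠ 1 := by
    by_contra hcon
    push Not at hcon
    rw [hcon.1, hcon.2, one_mul] at h
    rw [h, orderOf_one] at hord
    exact hp.out.one_lt.ne hord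
  have hZ : ∀ (D : Subgroup K) [IsSimpleGroup D], ¬ Group.IsSolvable D → ∀ c ∈ D, c ≠ 1 → ∃ y ∈ D, c * y * c⁻¹ ≠ y := by
    intro D _ hD c hc hc1
    by_contra hcon
    push Not at hcon
    apply hc1
    have h1 : (⟨c, hc⟩ : D) = 1 := Cfsg.Agent.H84.CoreTwF.center_simple hD fun y => Subtype.ext (by
      show c * (y : K) = y * c
      have h2 := hcon y y.2
      rw [mul_inv_eq_iff_eq_mul] at h2
      exact h2)
    exact congrArg Subtype.val h1
  rcases hcd with h1 | h1
  · have hAw : ∀ y ∈ A, MulAut.conj w y = c * y * c⁻¹ := by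
      intro y hy
      rw [MulAut.conj_apply, h]
      calc c * d * y * (c * d)⁻¹ = c * (d * y) * d⁻¹ * c⁻¹ := by group
        _ = c * (y * d) * d⁻¹ * c⁻¹ := by rw [hc y hy d hdB]
        _ = _ := by group
    obtain ⟨y, hy, hne⟩ := hZ A hA c hcA h1
    refine ns_of_sub hA hwp ?_ ⟨y, hy, by rw [hAw y hy]; exact hne⟩ hI hAK
    intro y hy
    rw [hAw y hy]
    exact mul_mem (mul_mem hcA hy) (inv_mem hcA)
  · have hBw : ∀ y ∈ B, MulAut.conj w y = d * y * d⁻¹ := by
      intro y hy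
      have h2 : d * y * d⁻¹ ∈ B := mul_mem (mul_mem hdB hy) (inv_mem hdB)
      rw [MulAut.conj_apply, h]
      calc c * d * y * (c * d)⁻¹ = c * (d * y * d⁻¹) * c⁻¹ := by group
        _ = (d * y * d⁻¹) * c * c⁻¹ := by rw [hc c hcA _ h2]
        _ = _ := by group
    obtain ⟨y, hy, hne⟩ := hZ B hB d hdB h1
    refine ns_of_sub hB hwp ?_ ⟨y, hy, by rw [hBw y hy]; exact hne⟩ hI hBK
    intro y hy
    rw [hBw y hy]
    exact mul_mem (mul_mem hdB hy) (inv_mem hdB)

end

end Cfsg.Agent.H743.InvTool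
end

-- part: H383/IRow/Psl2
section
prune_inst 0x355005641ce2100000000596112004046e0001b0002004008cc10a400200632208c02100b48010055a0a220500090060010000d0424000000e200000011c008000080404b1480008e00096000080000000000000000000000000000000000004000000000
set_option linter.all false
open scoped Cfsg.Agent.FastGrp

/-!
# S3830: the row `PSL_2(q)` (helper383)

Every automorphism of prime order `p ≥ 5` of `PSL_2(F)` generates with some involution of `PSL_2(F)` a group that is not
solvable: inner automorphisms by the triangle criterion, field automorphisms by `H109.EndPsl.no_abelian`.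
-/

set_option autoImplicit false

namespace Cfsg.Agent.H383.IRow.Psl2

open Subgroup Cfsg Matrix
open Cfsg.Agent.ClassicalGeometry.AutPSL.Root Cfsg.Agent.ClassicalGeometry.AutPSL.Auto
  Cfsg.Agent.ClassicalGeometry.AutPSL.Main Cfsg.Agent.BpLin
open Cfsg.Agent.H109.EndPsl (Tm no_abelian exists_abelian_char pr_Tm_sq pr_Tm_inj fld_Tm ns_of_ne)
open Cfsg.Agent.H459.Inv (NS IRow orb mem_orb orb_inv ns_of_orb ns_of_conj ns_of_triangle)

local notation "S2" => Matrix.SpecialLinearGroup (Fin 2)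
local notation "P2" => Matrix.ProjectiveSpecialLinearGroup (Fin 2)

section Comp

variable {F : Type*} [Field F]

/-- companion matrices -/
def cm (t : F) : S2 F := ⟨!![0, -1; 1, t], by rw [Matrix.det_fin_two_of]; ring⟩

theorem coe_cm (t : F) : (cm t : Matrix (Fin 2) (Fin 2) F) = !![0, -1; 1, t] := rfl

/-- nonscalar elements are conjugate to companion matrices under `GL_2` -/
theorem exists_comp {n : S2 F} (hn : pr n ≠ 1) :
    ∃ g : GL (Fin 2) F, (n : Matrix (Fin 2) (Fin 2) F) * g =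
      (g : Matrix (Fin 2) (Fin 2) F) * (cm (n : Matrix (Fin 2) (Fin 2) F).trace : S2 F) := by
  have hns := ns_of_ne hn
  have hdet := n.2
  rw [Matrix.det_fin_two] at hdet
  set N : Matrix (Fin 2) (Fin 2) F := (n : Matrix (Fin 2) (Fin 2) F) with hN
  by_cases hc : N 1 0 = 0
  · by_cases hb : N 0 1 = 0
    · have hd : N 0 0 - N 1 1 ≠ 0 := by
        rcases hns with h | h | h
        · exact absurd hb h
        · exact absurd hc h
        · exact h
      let g : Matrix (Fin 2) (Fin 2) F := !![1, N 0 0; 1, N 1 1]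
      have hg : g.det ≠ 0 := by
        rw [Matrix.det_fin_two_of]
        intro h
        apply hd
        linear_combination -h
      refine ⟨Matrix.GeneralLinearGroup.mkOfDetNeZero g hg, ?_⟩
      change N * g = g * _
      rw [coe_cm]
      rw [hb, hc] at hdet
      ext i j
      (revert i j; simp only [g, Matrix.mul_apply, Fin.sum_univ_two, Matrix.trace_fin_two, hb, hc, _root_.Fin.forall_fin_succ, Fin.isValue, _root_.Matrix.of_apply, _root_.Matrix.cons_val', _root_.Matrix.cons_val_fin_one, _root_.Matrix.cons_val_zero, _root_.Matrix.cons_val_one, _root_.mul_one, _root_.MulZeroClass.mul_zero, _root_.zero_add, _root_.Matrix.cons_val_succ, _root_.mul_neg, _root_.forall_const, _root_.add_zero, _root_.MulZeroClass.zero_mul, _root_.true_and, _root_.Fin.succ_zero_eq_one, _root_.IsEmpty.forall_iff, _root_.and_true]) <;> (repeat' with_reducible apply And.intro) <;>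
        linear_combination -hdet
    · let g : Matrix (Fin 2) (Fin 2) F := !![0, N 0 1; 1, N 1 1]
      have hg : g.det ≠ 0 := by
        rw [Matrix.det_fin_two_of]
        intro h
        apply hb
        linear_combination -h
      refine ⟨Matrix.GeneralLinearGroup.mkOfDetNeZero g hg, ?_⟩
      change N * g = g * _
      rw [coe_cm]
      rw [hc] at hdet
      ext i j
      (revert i j; simp only [g, Matrix.mul_apply, Fin.sum_univ_two, Matrix.trace_fin_two, hc, _root_.Fin.forall_fin_succ, Fin.isValue, _root_.Matrix.of_apply, _root_.Matrix.cons_val', _root_.Matrix.cons_val_fin_one, _root_.Matrix.cons_val_zero, _root_.Matrix.cons_val_one, _root_.MulZeroClass.mul_zero, _root_.mul_one, _root_.zero_add, _root_.Matrix.cons_val_succ, _root_.mul_neg, _root_.forall_const, _root_.neg_zero, _root_.true_and, _root_.Fin.succ_zero_eq_one, _root_.MulZeroClass.zero_mul, _root_.IsEmpty.forall_iff, _root_.and_true]) <;> (repeat' with_reducible apply And.intro) <;>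
        first
        | ring1
        | linear_combination -hdet
  · let g : Matrix (Fin 2) (Fin 2) F := !![1, N 0 0; 0, N 1 0]
    have hg : g.det ≠ 0 := by
      rw [Matrix.det_fin_two_of]
      intro h
      apply hc
      linear_combination h
    refine ⟨Matrix.GeneralLinearGroup.mkOfDetNeZero g hg, ?_⟩
    change N * g = g * _
    rw [coe_cm]
    ext i j
    (revert i j; simp only [g, Matrix.mul_apply, Fin.sum_univ_two, Matrix.trace_fin_two, _root_.Fin.forall_fin_succ, Fin.isValue, _root_.Matrix.of_apply, _root_.Matrix.cons_val', _root_.Matrix.cons_val_fin_one, _root_.Matrix.cons_val_zero, _root_.Matrix.cons_val_one, _root_.mul_one, _root_.MulZeroClass.mul_zero, _root_.add_zero, _root_.zero_add, _root_.Matrix.cons_val_succ, _root_.mul_neg, _root_.forall_const, _root_.true_and, _root_.neg_zero, _root_.Fin.succ_zero_eq_one, _root_.IsEmpty.forall_iff, _root_.and_true]) <;> (repeat' with_reducible apply And.intro) <;>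
      first
      | ring1
      | linear_combination -hdet

theorem cj_comp {n : S2 F} (hn : pr n ≠ 1) :
    ∃ g : GL (Fin 2) F, cj g⁻¹ n = cm (n : Matrix (Fin 2) (Fin 2) F).trace := by
  obtain ⟨g, hg⟩ := exists_comp hn
  refine ⟨g, ?_⟩
  apply Subtype.ext
  rw [coe_cj, inv_inv, mul_assoc, hg, ← mul_assoc, ← Units.val_mul, inv_mul_cancel, Units.val_one, one_mul]

theorem orderOf_comp {n : S2 F} (hn : pr n ≠ 1) :
    orderOf (pr n) = orderOf (pr (cm (n : Matrix (Fin 2) (Fin 2) F).trace)) := by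
  obtain ⟨g, hg⟩ := cj_comp hn
  rw [← hg, ← lift_pr]
  exact (MulEquiv.orderOf_eq (lift (cj g⁻¹)) (pr n)).symm

/-- elements with the same trace -/
theorem orderOf_eq_of_trace {m n : S2 F} (hm : pr m ≠ 1) (hn : pr n ≠ 1)
    (h : (m : Matrix (Fin 2) (Fin 2) F).trace = (n : Matrix (Fin 2) (Fin 2) F).trace) :
    orderOf (pr m) = orderOf (pr n) := by
  rw [orderOf_comp hm, orderOf_comp hn, h]

/-- elements of trace zero -/
def iv (a b c : F) (h : a * a + b * c = -1) : S2 F := ⟨!![a, b; c, -a], by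
  rw [Matrix.det_fin_two_of]; linear_combination -h⟩

theorem coe_iv (a b c : F) (h : a * a + b * c = -1) :
    (iv a b c h : Matrix (Fin 2) (Fin 2) F) = !![a, b; c, -a] := rfl

theorem iv_sq (a b c : F) (h : a * a + b * c = -1) : pr (iv a b c h) * pr (iv a b c h) = 1 := by
  rw [← map_mul, ← map_one (pr : S2 F →* _)]
  symm
  apply pr_eq_of_smul (c := -1)
  rw [Matrix.SpecialLinearGroup.coe_mul, coe_iv, Matrix.SpecialLinearGroup.coe_one]
  ext i j
  (revert i j; simp only [Matrix.mul_apply, Fin.sum_univ_two, _root_.Fin.forall_fin_succ, _root_.Matrix.of_apply, _root_.Matrix.cons_val', _root_.Matrix.cons_val_fin_one, Fin.isValue, _root_.Matrix.cons_val_zero, _root_.Matrix.cons_val_one, _root_.Matrix.smul_apply, _root_.smul_eq_mul, _root_.neg_mul, _root_.one_mul, _root_.Matrix.cons_val_succ, _root_.mul_neg, _root_.IsEmpty.forall_iff, _root_.and_true, _root_.Matrix.one_apply_eq, Nat.reduceAdd, _root_.Fin.succ_zero_eq_one, _root_.ne_eq, _root_.zero_ne_one,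 _root_.not_false_eq_true, _root_.Matrix.one_apply_ne, _root_.neg_zero, _root_.Fin.succ_ne_zero, _root_.neg_neg]) <;> (repeat' with_reducible apply And.intro) <;>
    first
    | ring1
    | linear_combination h

/-- the entries of a scalar element -/
theorem entries_of_pr_eq_one {n : S2 F} (hn : pr n = 1) : (n : Matrix (Fin 2) (Fin 2) F) 0 1 = 0 ∧
    (n : Matrix (Fin 2) (Fin 2) F) 1 0 = 0 ∧
    (n : Matrix (Fin 2) (Fin 2) F) 0 0 = (n : Matrix (Fin 2) (Fin 2) F) 1 1 := by
  rw [← map_one (pr : S2 F →* _)] at hn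
  obtain ⟨c, hc⟩ := exists_smul_of_pr_eq hn.symm
  rw [hc]
  simp

theorem trace_mul (τ a b c : F) (h : a * a + b * c = -1) :
    ((cm τ * iv a b c h : S2 F) : Matrix (Fin 2) (Fin 2) F).trace = b - c - τ * a := by
  rw [Matrix.SpecialLinearGroup.coe_mul, coe_cm, coe_iv, Matrix.trace_fin_two]
  simp only [Matrix.mul_apply, Fin.sum_univ_two, _root_.Fin.isValue, _root_.Matrix.of_apply, _root_.Matrix.cons_val', _root_.Matrix.cons_val_fin_one, _root_.Matrix.cons_val_zero, _root_.MulZeroClass.zero_mul, _root_.Matrix.cons_val_one, _root_.neg_mul, _root_.one_mul, _root_.zero_add, _root_.mul_neg]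
  ring

end Comp

section Fin

variable {F : Type*} [Field F] [Fintype F]

/-- **the conic**, odd characteristic -/
theorem exists_conic (hodd : Odd (Fintype.card F)) (τ : F) {θ : F} (hθ : θ ≠ 0) :
    ∃ a b c : F, a * a + b * c = -1 ∧ b - c - τ * a = θ := by
  have h2 : (2 : F) ≠ 0 := by
    intro h
    obtain ⟨r, hr⟩ := CharP.exists F
    have hrp : Fact r.Prime := ⟨CharP.char_is_prime F r⟩
    obtain ⟨n, -, hn⟩ := FiniteField.card F r
    have h1 : r ∣ 2 := (CharP.cast_eq_zero_iff F r 2).1 (by exact_mod_cast h)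
    have h3 := (Nat.prime_dvd_prime_iff_eq hrp.out Nat.prime_two).1 h1
    rw [hn, h3] at hodd
    exact (Nat.not_odd_iff_even.2 (even_two.pow_of_ne_zero n.2.ne')) hodd
  have h4 : (4 : F) ≠ 0 := by
    have : (4 : F) = 2 * 2 := by norm_num
    rw [this]
    exact mul_ne_zero h2 h2
  by_cases hD : (1 : F) - τ ^ 2 / 4 = 0
  · refine ⟨τ * θ⁻¹ / 2, θ⁻¹, θ⁻¹ - τ * (τ * θ⁻¹ / 2) - θ, ?_, by ring⟩
    have h5 : θ⁻¹ * θ = 1 := inv_mul_cancel₀ hθ
    have h6 : τ ^ 2 = 4 := by
      field_simp at hD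
      linear_combination -hD
    field_simp
    linear_combination h6 * (-1)
  · obtain ⟨u, b, hub⟩ := FiniteField.exists_root_sum_quadratic (R := F)
      (f := Polynomial.X ^ 2) (g := Polynomial.C (1 - τ ^ 2 / 4) * Polynomial.X ^ 2 + Polynomial.C (-θ) * Polynomial.X +
        Polynomial.C 1) (by simp only [_root_.Polynomial.degree_pow, _root_.Polynomial.degree_X, _root_.nsmul_eq_mul, _root_.Nat.cast_ofNat, _root_.mul_one]) (Polynomial.degree_quadratic hD) (Nat.odd_iff.1 hodd)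
    simp only [Polynomial.eval_pow, Polynomial.eval_X, Polynomial.eval_add, Polynomial.eval_mul, Polynomial.eval_C]
      at hub
    refine ⟨u + τ * b / 2, b, b - τ * (u + τ * b / 2) - θ, ?_, by ring⟩
    field_simp at hub ⊢
    linear_combination hub

/-- **the involution**: given the nonscalar `cm τ` and a nonscalar `h` whose class has odd order different from that of
`cm τ`, there is an element `Y` of trace zero, not scalar, with `cm τ * Y` of the trace of `h`. -/
theorem exists_iv (τ : F) {h : S2 F} (hh : Odd (orderOf (pr h))) (hh1 : pr h ≠ 1)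
    (hne : orderOf (pr (cm τ)) ≠ orderOf (pr h)) :
    ∃ Y : S2 F, pr Y * pr Y = 1 ∧ pr Y ≠ 1 ∧
      ((cm τ * Y : S2 F) : Matrix (Fin 2) (Fin 2) F).trace = (h : Matrix (Fin 2) (Fin 2) F).trace := by
  have hcm : pr (cm τ) ≠ 1 := by
    intro h1
    have := (entries_of_pr_eq_one h1).2.1
    rw [coe_cm] at this
    simp at this
  set θ := (h : Matrix (Fin 2) (Fin 2) F).trace with hθ
  by_cases hodd : Odd (Fintype.card F)
  · -- odd characteristic
    have hθ0 : θ ≠ 0 := by
      intro h0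
      have h1 := orderOf_comp hh1
      rw [← hθ, h0] at h1
      have h2 : pr (cm (0 : F)) * pr (cm 0) = 1 := by
        have h3 := iv_sq (0 : F) (-1) 1 (by ring)
        have h4 : iv (0 : F) (-1) 1 (by ring) = cm 0 := by
          apply Subtype.ext
          rw [coe_iv, coe_cm, neg_zero]
        rwa [h4] at h3
      have h3 : orderOf (pr (cm (0 : F))) ∣ 2 := orderOf_dvd_of_pow_eq_one (by rw [pow_two]; exact h2)
      rw [← h1] at h3
      rcases (Nat.dvd_prime Nat.prime_two).1 h3 with h4 | h4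
      · exact hh1 (orderOf_eq_one_iff.1 h4)
      · rw [h4] at hh; exact absurd hh (by decide)
    obtain ⟨a, b, c, h1, h2⟩ := exists_conic hodd τ hθ0
    refine ⟨iv a b c h1, iv_sq _ _ _ _, ?_, by rw [trace_mul, h2]⟩
    intro h3
    obtain ⟨h4, h5, h6⟩ := entries_of_pr_eq_one h3
    rw [coe_iv] at h4 h5 h6
    simp only [Matrix.of_apply, Matrix.cons_val', Matrix.cons_val_zero, Matrix.cons_val_one,
      Matrix.cons_val_fin_one] at h4 h5 h6
    apply hθ0
    have h7 : (2 : F) * a = 0 := by linear_combination h6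
    have h8 : (2 : F) ≠ 0 := by
      intro h8
      obtain ⟨r, hr⟩ := CharP.exists F
      have hrp : Fact r.Prime := ⟨CharP.char_is_prime F r⟩
      obtain ⟨n, -, hn⟩ := FiniteField.card F r
      have h9 : r ∣ 2 := (CharP.cast_eq_zero_iff F r 2).1 (by exact_mod_cast h8)
      have h10 := (Nat.prime_dvd_prime_iff_eq hrp.out Nat.prime_two).1 h9
      rw [hn, h10] at hodd
      exact (Nat.not_odd_iff_even.2 (even_two.pow_of_ne_zero n.2.ne')) hodd
    have h9 : a = 0 := (mul_eq_zero.1 h7).resolve_left h8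
    rw [← h2, h4, h5, h9]; ring
  · -- characteristic two
    have h2 : (2 : F) = 0 := by
      obtain ⟨r, hr⟩ := CharP.exists F
      have hrp : Fact r.Prime := ⟨CharP.char_is_prime F r⟩
      obtain ⟨n, -, hn⟩ := FiniteField.card F r
      have h3 : r = 2 := by
        by_contra h3
        apply hodd
        rw [hn]
        exact (hrp.out.odd_of_ne_two h3).pow
      have h4 := CharP.cast_eq_zero F r
      rw [h3] at h4
      exact_mod_cast h4
    refine ⟨iv 1 0 (τ + θ) (by linear_combination h2), iv_sq _ _ _ _, ?_, ?_⟩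
    · intro h3
      have h4 := (entries_of_pr_eq_one h3).2.1
      rw [coe_iv] at h4
      simp only [Matrix.of_apply, Matrix.cons_val', Matrix.cons_val_zero, Matrix.cons_val_one,
        Matrix.cons_val_fin_one] at h4
      apply hne
      have h5 : τ = θ := by linear_combination h4 - θ * h2
      rw [orderOf_comp hh1, h5]
    · rw [trace_mul]
      linear_combination (-(τ + θ)) * h2

/-- **The inner case**, with an element of odd order prime to `p` -/
theorem ns_inner_aux {p m : ℕ} (hp : p.Prime) (hp2 : p ≠ 2) {s : P2 F} (hs : orderOf s = p) (hm : Odd m) (hm1 : m ≠ 1)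
    (hpm : Nat.Coprime m p) (hm' : ∃ g : P2 F, orderOf g = m) : NS (MulAut.conj s) := by
  obtain ⟨S, rfl⟩ := pr_surjective s
  obtain ⟨g, hg⟩ := hm'
  obtain ⟨h, rfl⟩ := pr_surjective g
  have hS1 : pr S ≠ 1 := by
    intro h1
    rw [h1, orderOf_one] at hs
    exact hp.one_lt.ne' hs.symm
  have hh1 : pr h ≠ 1 := by
    intro h1
    rw [h1, orderOf_one] at hg
    exact hm1 hg.symm
  have hpm' : p ≠ m := by
    rintro rfl
    exact hp.one_lt.ne' ((Nat.coprime_self p).1 hpm)
  obtain ⟨A, hA⟩ := cj_comp hS1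
  set τ := (S : Matrix (Fin 2) (Fin 2) F).trace with hτ
  have hoτ : orderOf (pr (cm τ)) = p := by rw [← orderOf_comp hS1, hs]
  obtain ⟨Y, hY, hY1, htr⟩ := exists_iv τ (h := h) (by rw [hg]; exact hm) hh1 (by rw [hoτ, hg]; exact hpm')
  refine ns_of_conj (g := lift (cj A⁻¹)) ?_
  have he : lift (cj A⁻¹) * MulAut.conj (pr S) * (lift (cj A⁻¹))⁻¹ = MulAut.conj (pr (cm τ)) := by
    rw [← hA, ← lift_pr]
    ext y
    simp only [MulAut.mul_apply, _root_.map_inv, _root_.QuotientGroup.mk'_apply, _root_.inv_inv, _root_.MulAut.conj_apply, _root_.MulAut.inv_apply, _root_.map_mul, _root_.MulEquiv.symm_apply_apply]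
  rw [he]
  have hoY : orderOf (pr Y) = 2 := by
    have : Fact (Nat.Prime 2) := ⟨Nat.prime_two⟩
    exact orderOf_eq_prime (by rw [pow_two]; exact hY) hY1
  have hne : pr (cm τ * Y) ≠ 1 := by
    intro h1
    rw [map_mul, mul_eq_one_iff_eq_inv] at h1
    rw [h1, orderOf_inv, hoY] at hoτ
    exact hp2 hoτ.symm
  have hom : orderOf (pr (cm τ) * pr Y) = m := by
    rw [← map_mul, orderOf_eq_of_trace hne hh1 htr, hg]
  refine ns_of_triangle hoY ?_ ?_ ?_
  · rw [hoτ]; exact hp.odd_of_ne_two hp2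
  · rw [hom]; exact hm
  · rw [hom, hoτ]; exact hpm

/-- **The inner case.** -/
theorem ns_inner (h4 : 4 ≤ Fintype.card F) {p : ℕ} (hp : p.Prime) (hp5 : 5 ≤ p) {s : P2 F} (hs : orderOf s = p) :
    NS (MulAut.conj s) := by
  obtain ⟨r, hr⟩ := CharP.exists F
  have hrp : Fact r.Prime := ⟨CharP.char_is_prime F r⟩
  obtain ⟨n, -, hn⟩ := FiniteField.card F r
  have hrange := Cfsg.Agent.H390.PslSpec.range_orderOf (F := F) (p := r) h4
  have hord : ∀ k : ℕ, (∃ g : P2 F, orderOf g = k) ↔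
      (k ∣ r ∨ k ∣ (Fintype.card F - 1) / Cfsg.Agent.H390.PslSpec.dd (Fintype.card F) ∨
        k ∣ (Fintype.card F + 1) / Cfsg.Agent.H390.PslSpec.dd (Fintype.card F)) := by
    intro k
    have h1 : k ∈ Set.range (orderOf : P2 F → ℕ) ↔ k ∈ Cfsg.Agent.H390.PslSpec.specSet r (Fintype.card F) := by
      rw [hrange]
    simpa only [Cfsg.Agent.H390.PslSpec.specSet, _root_.Set.mem_range, _root_.Set.mem_ofPred_eq] using h1
  set q := Fintype.card F with hq
  have hrq : r ∣ q := by rw [hn]; exact dvd_pow_self r n.2.ne'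
  have hdd : Cfsg.Agent.H390.PslSpec.dd q = Nat.gcd 2 (q - 1) := rfl
  by_cases hr2 : r = 2
  · -- characteristic two
    subst hr2
    have hd1 : Nat.gcd 2 (q - 1) = 1 := by
      rw [← Nat.coprime_iff_gcd_eq_one, Nat.coprime_two_left, Nat.odd_iff]
      omega
    rw [hdd, hd1, Nat.div_one, Nat.div_one] at hord
    have h1 := (hord p).1 ⟨s, hs⟩
    rcases h1 with h1 | h1 | h1
    · have := Nat.le_of_dvd (by norm_num) h1; omega
    · refine ns_inner_aux hp (by omega) hs (m := q + 1) ?_ (by omega) ?_ ((hord _).2 (Or.inr (Or.inr dvd_rfl)))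
      · rw [Nat.odd_iff]; omega
      · rw [Nat.coprime_comm, Nat.Prime.coprime_iff_not_dvd hp]
        intro h2
        have h3 := Nat.dvd_sub h2 h1
        rw [show q + 1 - (q - 1) = 2 by omega] at h3
        have := Nat.le_of_dvd (by norm_num) h3
        omega
    · refine ns_inner_aux hp (by omega) hs (m := q - 1) ?_ (by omega) ?_ ((hord _).2 (Or.inr (Or.inl dvd_rfl)))
      · rw [Nat.odd_iff]; omega
      · rw [Nat.coprime_comm, Nat.Prime.coprime_iff_not_dvd hp]
        intro h2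
        have h3 := Nat.dvd_sub h1 h2
        rw [show q + 1 - (q - 1) = 2 by omega] at h3
        have := Nat.le_of_dvd (by norm_num) h3
        omega
  · by_cases hrp' : r = p
    · -- unipotent elements
      subst hrp'
      have hodd : q % 2 = 1 := by
        have := (hrp.out.odd_of_ne_two hr2).pow (n := (n : ℕ))
        rw [← hn] at this
        exact Nat.odd_iff.1 this
      have hd2 : Nat.gcd 2 (q - 1) = 2 := Nat.gcd_eq_left (by omega)
      rw [hdd, hd2] at hord
      have hq5 : 5 ≤ q := hp5.trans (Nat.le_of_dvd (by omega) hrq)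
      have hcop : ∀ k, (k ∣ q - 1 ∨ k ∣ q + 1) → Nat.Coprime k r := by
        intro k hk
        rw [Nat.coprime_comm, Nat.Prime.coprime_iff_not_dvd hrp.out]
        intro h2
        rcases hk with hk | hk
        · have h3 := Nat.dvd_sub hrq (h2.trans hk)
          rw [Nat.sub_sub_self (by omega)] at h3
          exact hrp.out.one_lt.ne' (Nat.dvd_one.1 h3)
        · exact hrp.out.one_lt.ne' (Nat.dvd_one.1 ((Nat.dvd_add_right hrq).1 (h2.trans hk)))
      rcases (show q % 4 = 1 ∨ q % 4 = 3 by omega) with h1 | h1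
      · refine ns_inner_aux hrp.out hr2 hs (m := (q + 1) / 2) ?_ (by omega) (hcop _ (Or.inr (Nat.div_dvd_of_dvd
          (by omega)))) ((hord _).2 (Or.inr (Or.inr dvd_rfl)))
        rw [Nat.odd_iff]; (clear * - h1; omega)
      · refine ns_inner_aux hrp.out hr2 hs (m := (q - 1) / 2) ?_ (by (clear * - h4 h1; omega)) (hcop _ (Or.inl (Nat.div_dvd_of_dvd
          (by omega)))) ((hord _).2 (Or.inr (Or.inl dvd_rfl)))
        rw [Nat.odd_iff]; (clear * - h1; omega)
    · exact ns_inner_aux hp (by omega) hs (m := r) (hrp.out.odd_of_ne_two hr2) hrp.out.one_lt.ne'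
        ((Nat.coprime_primes hrp.out hp).2 hrp') ((hord _).2 (Or.inl dvd_rfl))

/-- **Field automorphisms.** -/
theorem ns_field {σ : F ≃+* F} {p : ℕ} (hpp : p.Prime) (hp : 5 ≤ p) (hσ : σ ^ p = 1) (h1 : σ ≠ 1) :
    NS (lift (fld σ) : MulAut (P2 F)) := by
  obtain ⟨b, hb⟩ : ∃ b, σ b ≠ b := by
    by_contra hcon
    push Not at hcon
    exact h1 (RingEquiv.ext hcon)
  have hne1 : pr (Tm b : S2 F) ≠ 1 := by
    intro h2
    have h3 := (entries_of_pr_eq_one h2).1
    rw [Cfsg.Agent.H109.EndPsl.coe_Tm] at h3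
    simp [Cfsg.Agent.H109.EndPsl.tm] at h3
  have ho : orderOf (pr (Tm b : S2 F)) = 2 := by
    have : Fact (Nat.Prime 2) := ⟨Nat.prime_two⟩
    exact orderOf_eq_prime (by rw [pow_two]; exact pr_Tm_sq b) hne1
  refine ns_of_orb ho fun hsol => ?_
  have hfin : Finite (P2 F) := Quotient.finite _
  set y := pr (Tm b : S2 F) with hy
  obtain ⟨A, hA, hA1, hA2, hA3⟩ := exists_abelian_char (orb (lift (fld σ)) y) hsol (by
    intro h2
    apply hne1
    have h3 := mem_orb (lift (fld σ)) y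
    rwa [h2, mem_bot] at h3)
  refine no_abelian hpp hp hσ hb hA2 hA1 ?_ ?_
  · exact fun a ha => hA3 (lift (fld σ)).toMonoidHom (orb_inv _ _) a ha
  · refine fun a ha => hA3 (MulAut.conj y).toMonoidHom ?_ a ha
    intro k hk
    have hy' := mem_orb (lift (fld σ)) y
    exact mul_mem (mul_mem hy' hk) (inv_mem hy')

/-- **The row**, explicit form. -/
theorem irow (h4 : 4 ≤ Fintype.card F) {p : ℕ} (hpf : p.Prime) (hp : 5 ≤ p) : IRow p (P2 F) := by
  intro x hx
  have hxp : x ^ p = 1 := by rw [← hx]; exact pow_orderOf_eq_one x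
  obtain ⟨A, σ, rfl⟩ := exists_type le_rfl (hpf.odd_of_ne_two (by omega)) hxp
  have hxp' := hxp
  rw [← map_pow, pow_type] at hxp'
  have h1 : lift (cj (NA A σ p) * fld (σ ^ p)) = lift (fld (ι := Fin 2) (1 : F ≃+* F)) := by
    rw [hxp', map_one fld, map_one]
  obtain ⟨⟨c, hc⟩, hσ⟩ := injective_aux h1
  have hc' : (NA A σ p : Matrix (Fin 2) (Fin 2) F) = c • 1 := by
    rw [← hc, Matrix.scalar_apply, Matrix.smul_one_eq_diagonal]
  by_cases h2 : σ = 1
  · subst h2
    rw [map_one fld, mul_one] at hx hxp ⊢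
    obtain ⟨s, hs⟩ := Cfsg.Agent.H999.RowPSL.inner_of_coprime (n := 2) (p := p)
      ((Nat.coprime_primes Nat.prime_two hpf).2 (by omega)) hxp
    rw [hs] at hx ⊢
    have hcen : Subgroup.center (P2 F) = ⊥ := by
      have hsimple : IsSimpleGroup (P2 F) := Matrix.ProjectiveSpecialLinearGroup.rank_two_simple'
        (Cfsg.Agent.SignalizersComponents.SLQuasisimple.exists_sq_ne_one (by rw [Nat.card_eq_fintype_card]; omega))
      rcases (inferInstance : (Subgroup.center (P2 F)).Normal).eq_bot_or_eq_top with h3 | h3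
      · exact h3
      · exfalso
        have h5 : (MulAut.conj s : MulAut (P2 F)) = 1 := by
          ext y
          have h6 : s ∈ Subgroup.center (P2 F) := by rw [h3]; exact mem_top s
          rw [MulAut.conj_apply, MulAut.one_apply, ← mem_center_iff.1 h6 y, mul_inv_cancel_right]
        rw [h5, orderOf_one] at hx
        omega
    have hinj : Function.Injective (MulAut.conj : P2 F →* MulAut (P2 F)) := by
      rw [injective_iff_map_eq_one]
      intro z hz
      have h6 : z ∈ Subgroup.center (P2 F) := by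
        rw [mem_center_iff]
        intro g
        have h7 : MulAut.conj z g = g := by rw [hz]; rfl
        rw [MulAut.conj_apply, mul_inv_eq_iff_eq_mul] at h7
        exact h7.symm
      rwa [hcen, mem_bot] at h6
    exact ns_inner h4 hpf hp (by rw [← hx, orderOf_injective _ hinj])
  · obtain ⟨B, hB⟩ := exists_std hpf h2 hσ hc'
    refine ns_of_conj (g := (lift (cj B))⁻¹) ?_
    have he : (lift (cj B))⁻¹ * (lift (cj A * fld σ)) * ((lift (cj B))⁻¹)⁻¹ =
        (lift (fld σ) : MulAut (P2 F)) := by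
      rw [hB, map_mul, map_mul, map_inv]
      group
    rw [he]
    exact ns_field hpf hp hσ h2

end Fin

/-- **S3830, row `PSL_2(q)`** -/
theorem irow_psl2 {K : Type*} [Group K] [Finite K] [IsSimpleGroup K] {F : Type} [Field F] [Fintype F]
    (e : Nonempty (K ≃* Matrix.ProjectiveSpecialLinearGroup (Fin 2) F)) {p : ℕ} [Fact p.Prime] (hp : 5 ≤ p)
    (hna : ¬ IsMulCommutative K) : IRow p K := by
  obtain ⟨e⟩ := e
  have h4 : 4 ≤ Fintype.card F := by
    by_contra hlt
    have h1 : 1 < Fintype.card F := Fintype.one_lt_card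
    have h2 : Nat.card (P2 F) ∣ Fintype.card F * (Fintype.card F ^ 2 - 1) := by
      have h3 := Cfsg.Agent.H109.EndPsl.card_sl2 (F := F)
      rw [Nat.card_eq_fintype_card (α := F)] at h3
      rw [← h3]
      exact Subgroup.card_quotient_dvd_card _
    have h3 := Cfsg.Agent.H481.TBound.sixty_le hna
    rw [Nat.card_congr e.toEquiv] at h3
    obtain hq | hq : Fintype.card F = 2 ∨ Fintype.card F = 3 := by omega
    · rw [hq] at h2
      have := Nat.le_of_dvd (by norm_num) h2
      norm_num at this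
      omega
    · rw [hq] at h2
      have := Nat.le_of_dvd (by norm_num) h2
      norm_num at this
      omega
  exact IRow.congr e (irow h4 Fact.out hp)

end Cfsg.Agent.H383.IRow.Psl2

private theorem dce_3736f586fae7 : _root_.True := by
  try have : _root_.True := by simp only [_root_.Cfsg.Agent.H390.PslSpec.specSet.eq_1]
  exact _root_.True.intro
end

-- part: H255/Inv/Face
section
set_option linter.all false

/-!
# Exceptional groups of odd characteristic: interface (helper255, S3830, task 2567)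

* `NodeOK cs h T X i` : `⟨X_i, X_{-i}⟩` is the image of `SL₂(F)`, `F` of odd characteristic, and some toral involution
  acts on it as `diag(1, -1)`;
* `ConnJ M J` : the subdiagram `J` is connected;
* `CompOK p cs h T X J` : `M_J` is perfect, contains a non-central involution, and the elements of order `p` of the torus
  act on it by inner automorphisms, or `|Z(M_J)|` is odd;
* `DatOK r p Y` : a filtered root group datum of characteristic `r` with these properties.
-/

set_option autoImplicit false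
set_option linter.unusedSectionVars false

namespace Cfsg.Agent.H255.Inv

open Cfsg CoxeterSystem Cfsg.Agent.ChevalleyStructure.CoxeterGeom Cfsg.Agent.Tits.Roots Cfsg.Agent.Tits.Core
  Cfsg.Agent.Nodes.Reps Cfsg.Agent.Nodes.BNOf Cfsg.Agent.Nodes.StabComb Cfsg.Agent.Nodes.Bruhat
  Cfsg.Agent.Nodes.LeviDec Cfsg.Agent.H53.HC Cfsg.Agent.KFacts.RgdBorelTits
open Cfsg.Agent.ChevalleyStructure.SL2Hom (up lo)
open scoped commutatorElement

section

variable {I W Y : Type*} [Fintype I] [DecidableEq I] [Group W] [Group Y] {M : CoxeterMatrix I}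

/-- `⟨X_i, X_{-i}⟩` is an image of `SL₂(F)` and some toral involution acts on it as `diag(1, -1)` -/
def NodeOK (T : Subgroup Y) (X : (I → ℤ) → Subgroup Y) (i : I) : Prop :=
  ∃ (F : Type) (_ : Field F) (_ : Finite F) (φ : Matrix.SpecialLinearGroup (Fin 2) F →* Y) (y : Y),
    (2 : F) ≠ 0 ∧ (∀ a, φ (up a) ∈ X (sr i)) ∧ (∀ u ∈ X (sr i), ∃ a, u = φ (up a)) ∧
    (∀ a, φ (lo a) ∈ X (-sr i)) ∧ (∀ u ∈ X (-sr i), ∃ a, u = φ (lo a)) ∧ y ∈ T ∧ orderOf y = 2 ∧
    (∀ a, y * φ (up a) * y⁻¹ = φ (up (-a))) ∧ ∀ a, y * φ (lo a) * y⁻¹ = φ (lo (-a))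

/-- the subdiagram `J` is connected -/
def ConnJ (M : CoxeterMatrix I) (J : Set I) : Prop :=
  ∀ K : Set I, K ⊆ J → K.Nonempty → K ≠ J → ∃ a ∈ K, ∃ b ∈ J, b ∉ K ∧ M a b ≠ 2

/-- `M_J` is perfect and contains a non-central involution; `T` acts on it by inner automorphisms up to an exponent prime
to `p`, or the centre has odd order -/
def CompOK (p : ℕ) (cs : CoxeterSystem M W) {A : I → I → ℤ} (h : IsCartan M A) (T : Subgroup Y)
    (X : (I → ℤ) → Subgroup Y) (J : Set I) : Prop :=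
  ⁅MJ cs h X J, MJ cs h X J⁆ = MJ cs h X J ∧
  (∃ y ∈ MJ cs h X J, orderOf y = 2 ∧ ∃ a ∈ MJ cs h X J, y * a ≠ a * y) ∧
  ((∀ t ∈ T, ∃ k : ℕ, k.Coprime p ∧ ∃ s ∈ MJ cs h X J, ∀ a ∈ MJ cs h X J, t ^ k * a * (t ^ k)⁻¹ = s * a * s⁻¹) ∨
    Odd (Nat.card ↥(Subgroup.center ↥(MJ cs h X J))))

end

/-- A filtered root group datum of characteristic `r` as for the exceptional groups of odd characteristic. -/
def DatOK (r p : ℕ) (Y : Type*) [Group Y] : Prop :=
  ∃ (l : ℕ) (M : CoxeterMatrix (Fin l)) (A : Fin l → Fin l → ℤ) (h : IsCartan M A) (T : Subgroup Y) (n : Fin l → Y)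
    (X : (Fin l → ℤ) → Subgroup Y) (R : RGD M.toCoxeterSystem h r T n X) (F : (Fin l → ℤ) → ℝ → Subgroup Y),
    2 ≤ l ∧ Finite M.Group ∧ Nodes.RGDLib.G1 M.toCoxeterSystem h X = ⊤ ∧ Filt R F ∧
    KFacts.RgdCharP.Conn M ∧ (∀ s ∈ T, ∀ t ∈ T, s * t = t * s) ∧ (∀ i, NodeOK T X i) ∧
    ∀ J : Set (Fin l), J ≠ Set.univ → J.Nontrivial → ConnJ M J → CompOK p M.toCoxeterSystem h T X J

end Cfsg.Agent.H255.Inv
end

-- part: H803/Inv/Rel
section
set_option linter.all false
open scoped Cfsg.Agent.FastGrp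

/-!
# Solvability of pairs and linear sections (helper803, for S3830)

* `sol_of_rel` : transfer of solvability of `⟨g, a⟩` along a relation between the spaces;
* `rest` : restriction to an invariant subspace, `sol_rest`, `exists_min`, `rest_irred`;
* `sol_of_not_ns` : `x` induced by `g ∈ Γ` with `¬ NS x`, `y ∈ Γ` an involution modulo the center: `⟨g, y⟩` is solvable.
-/

set_option autoImplicit false
set_option linter.unusedSectionVars false

namespace Cfsg.Agent.H803.Inv

open Cfsg Subgroup Cfsg.Agent.H459.Inv Cfsg.Agent.H459.Iface Cfsg.Agent.H952.Rc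
open Cfsg.Agent.SignalizersComponents.ComponentExists

universe u v

/-- **Transfer of solvability of pairs along a relation.** -/
theorem sol_of_rel {G G' X Y : Type*} [Group G] [Group G'] [MulAction G X] [MulAction G' Y] [FaithfulSMul G' Y]
    (R : X → Y → Prop) (h1 : ∀ y, ∃ x, R x y) (h2 : ∀ x y y', R x y → R x y' → y = y') {g a : G} {g' a' : G'}
    (hg : ∀ x y, R (g • x) (g' • y) ↔ R x y) (ha : ∀ x y, R (a • x) (a' • y) ↔ R x y)
    (h : Group.IsSolvable ↥(closure ({g, a} : Set G))) : Group.IsSolvable ↥(closure ({g', a'} : Set G')) := by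
  set C : Subgroup (G × G') := closure ({(g, g'), (a, a')} : Set (G × G')) with hC
  -- elements of `C` preserve `R`
  have hR : ∀ c ∈ C, ∀ x y, R (c.1 • x) (c.2 • y) ↔ R x y := by
    intro c hc
    induction hc using closure_induction with
    | mem c hc =>
      rcases hc with rfl | rfl
      · exact hg
      · exact ha
    | one => intro x y; rw [Prod.fst_one, Prod.snd_one, one_smul, one_smul]
    | mul c d _ _ hc hd =>
      intro x y
      rw [Prod.fst_mul, Prod.snd_mul, mul_smul, mul_smul, hc, hd]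
    | inv c _ hc =>
      intro x y
      rw [← hc, Prod.fst_inv, Prod.snd_inv, smul_inv_smul, smul_inv_smul]
  have hf : C.map (MonoidHom.fst G G') = closure ({g, a} : Set G) := by
    rw [hC, MonoidHom.map_closure, Set.image_pair]
    rfl
  have hs : C.map (MonoidHom.snd G G') = closure ({g', a'} : Set G') := by
    rw [hC, MonoidHom.map_closure, Set.image_pair]
    rfl
  have hinj : Function.Injective ((MonoidHom.fst G G').subgroupMap C) := by
    rw [injective_iff_map_eq_one]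
    rintro ⟨c, hc⟩ h3
    have h4 : c.1 = 1 := congrArg Subtype.val h3
    have h5 : c.2 = 1 := by
      apply FaithfulSMul.eq_of_smul_eq_smul (α := Y)
      intro y
      obtain ⟨x, hx⟩ := h1 y
      have h6 := (hR c hc x y).2 hx
      rw [h4, one_smul] at h6
      rw [one_smul]
      exact h2 x _ _ h6 hx
    exact Subtype.ext (Prod.ext h4 h5)
  have h7 : Group.IsSolvable ↥(C.map (MonoidHom.fst G G')) := by rw [hf]; exact h
  have h8 : Group.IsSolvable C := Group.isSolvable_of_isSolvable_injective hinj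
  rw [← hs]
  exact isSolvable_map h8 _

section Rest

variable {F : Type u} {V : Type v} [Field F] [AddCommGroup V] [Module F V]

/-- the restriction to an invariant subspace -/
def rest (g : V ≃ₗ[F] V) (W : Submodule F V) (h : ∀ v, g v ∈ W ↔ v ∈ W) : W ≃ₗ[F] W where
  toFun w := ⟨g w, (h w).2 w.2⟩
  invFun w := ⟨g.symm w, by rw [← h, g.apply_symm_apply]; exact w.2⟩
  map_add' u v := Subtype.ext (map_add g (u : V) v)
  map_smul' a u := Subtype.ext (map_smul g a (u : V))
  left_inv u := Subtype.ext (g.symm_apply_apply _)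
  right_inv u := Subtype.ext (g.apply_symm_apply _)

theorem rest_apply (g : V ≃ₗ[F] V) (W : Submodule F V) (h : ∀ v, g v ∈ W ↔ v ∈ W) (w : W) :
    (rest g W h w : V) = g w := rfl

theorem rest_pow_apply (g : V ≃ₗ[F] V) (W : Submodule F V) (h : ∀ v, g v ∈ W ↔ v ∈ W) (n : ℕ) (w : W) :
    ((rest g W h ^ n) w : V) = (g ^ n) w := by
  induction n with
  | zero => rfl
  | succ n ih =>
    rw [pow_succ', pow_succ']
    show g (((rest g W h ^ n) w : W) : V) = g ((g ^ n) w)
    rw [ih]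

theorem rest_pow_one {g : V ≃ₗ[F] V} {W : Submodule F V} (h : ∀ v, g v ∈ W ↔ v ∈ W) {n : ℕ} (hg : g ^ n = 1) :
    rest g W h ^ n = 1 := by
  apply LinearEquiv.ext
  intro w
  apply Subtype.ext
  rw [rest_pow_apply, hg]
  rfl

theorem rest_ne_one {g : V ≃ₗ[F] V} {W : Submodule F V} (h : ∀ v, g v ∈ W ↔ v ∈ W) {w : V} (hw : w ∈ W)
    (hne : g w ≠ w) : rest g W h ≠ 1 := by
  intro h1
  apply hne
  have h2 := rest_apply g W h ⟨w, hw⟩
  rw [h1] at h2
  exact h2.symm

theorem sol_rest {g y : V ≃ₗ[F] V} {W : Submodule F V} (hg : ∀ v, g v ∈ W ↔ v ∈ W) (hy : ∀ v, y v ∈ W ↔ v ∈ W)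
    (h : Group.IsSolvable ↥(closure ({g, y} : Set (V ≃ₗ[F] V)))) :
    Group.IsSolvable ↥(closure ({rest g W hg, rest y W hy} : Set (W ≃ₗ[F] W))) := by
  refine sol_of_rel (X := V) (Y := W) (fun v w => v = w) (fun w => ⟨w, rfl⟩)
    (fun v w w' h1 h2 => Subtype.ext (h1.symm.trans h2)) ?_ ?_ h
  · intro v w
    exact g.injective.eq_iff
  · intro v w
    exact y.injective.eq_iff

/-- a minimal nonzero invariant subspace -/
theorem exists_min [FiniteDimensional F V] (g : V ≃ₗ[F] V) {W₀ : Submodule F V} (hW₀ : W₀ ≠ ⊥)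
    (hg : ∀ v ∈ W₀, g v ∈ W₀) : ∃ W ≤ W₀, W ≠ ⊥ ∧ (∀ v ∈ W, g v ∈ W) ∧
      ∀ U ≤ W, (∀ v ∈ U, g v ∈ U) → U = ⊥ ∨ U = W := by
  have hwf : WellFounded (fun U U' : Submodule F V => U < U') := wellFounded_lt
  obtain ⟨W, ⟨h1, h2, h3⟩, hmin⟩ := hwf.has_min {U : Submodule F V | U ≤ W₀ ∧ U ≠ ⊥ ∧ ∀ v ∈ U, g v ∈ U}
    ⟨W₀, le_refl _, hW₀, hg⟩
  refine ⟨W, h1, h2, h3, fun U hU hgU => ?_⟩
  by_contra hcon
  push Not at hcon
  exact hmin U ⟨hU.trans h1, hcon.1, hgU⟩ (lt_of_le_of_ne hU hcon.2)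

theorem rest_irred {g : V ≃ₗ[F] V} {W : Submodule F V} (h : ∀ v, g v ∈ W ↔ v ∈ W)
    (hmin : ∀ U ≤ W, (∀ v ∈ U, g v ∈ U) → U = ⊥ ∨ U = W) (U : Submodule F W)
    (hU : ∀ w ∈ U, rest g W h w ∈ U) : U = ⊥ ∨ U = ⊤ := by
  have h1 : U.map W.subtype ≤ W := by
    rintro _ ⟨u, _, rfl⟩
    exact u.2
  rcases hmin (U.map W.subtype) h1 (by
    rintro _ ⟨u, hu, rfl⟩
    exact ⟨_, hU u hu, rfl⟩) with h2 | h2
  · left
    rw [eq_bot_iff]
    intro u hu
    have h3 : (u : V) ∈ U.map W.subtype := ⟨u, hu, rfl⟩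
    rw [h2, Submodule.mem_bot] at h3
    exact (Submodule.mem_bot F).2 (Subtype.ext h3)
  · right
    rw [eq_top_iff]
    intro w _
    have h3 : (w : V) ∈ U.map W.subtype := by rw [h2]; exact w.2
    obtain ⟨u, hu, hu'⟩ := h3
    have h4 : u = w := Subtype.ext hu'
    rwa [← h4]

end Rest

section Center

variable {F : Type u} {V : Type v} [Field F] [AddCommGroup V] [Module F V] {Γ : Subgroup (V ≃ₗ[F] V)}

theorem sol_of_not_ns {x : MulAut (↥Γ ⧸ center ↥Γ)} {g : V ≃ₗ[F] V} (hx : Comp x g.toEquiv) (hgΓ : g ∈ Γ)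
    (hns : ¬ NS x) {y : V ≃ₗ[F] V} (hyΓ : y ∈ Γ) (hy2 : y * y = 1) (hyc : (⟨y, hyΓ⟩ : Γ) ∉ center ↥Γ) :
    Group.IsSolvable ↥(closure ({g, y} : Set (V ≃ₗ[F] V))) := by
  set π := QuotientGroup.mk' (center ↥Γ) with hπ
  have hxg : x = MulAut.conj (π ⟨g, hgΓ⟩) := by
    ext k
    obtain ⟨h, rfl⟩ := QuotientGroup.mk'_surjective (center ↥Γ) k
    rw [MulAut.conj_apply, ← map_mul, ← map_inv, ← map_mul]
    apply hx.apply
    intro v
    change g (h.1 (g.symm (g v))) = g (h.1 v)
    rw [g.symm_apply_apply]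
  have hy : orderOf (π ⟨y, hyΓ⟩) = 2 := by
    have : Fact (Nat.Prime 2) := ⟨Nat.prime_two⟩
    apply orderOf_eq_prime
    · rw [pow_two, ← map_mul]
      have h1 : (⟨y, hyΓ⟩ : Γ) * ⟨y, hyΓ⟩ = 1 := Subtype.ext hy2
      rw [h1, map_one]
    · intro h1
      exact hyc ((QuotientGroup.eq_one_iff _).1 h1)
  have h1 : Group.IsSolvable ↥(closure ({π ⟨g, hgΓ⟩, π ⟨y, hyΓ⟩} : Set (↥Γ ⧸ center ↥Γ))) := by
    by_contra hcon
    apply hns
    rw [hxg]
    exact ns_of_inner hy hcon
  have h2 := isSolvable_comap π (by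
    apply Group.isSolvable_of_comm
    rintro ⟨a, ha⟩ ⟨b, hb⟩
    have h2 : a ∈ center ↥Γ := (QuotientGroup.eq_one_iff a).1 ha
    exact Subtype.ext (mem_center_iff.1 h2 b).symm) h1
  have h3 : closure ({g, y} : Set (V ≃ₗ[F] V)) ≤
      ((closure ({π ⟨g, hgΓ⟩, π ⟨y, hyΓ⟩} : Set (↥Γ ⧸ center ↥Γ))).comap π).map Γ.subtype := by
    rw [closure_le]
    rintro z (rfl | rfl)
    · exact ⟨⟨z, hgΓ⟩, Subgroup.subset_closure (Set.mem_insert _ _), rfl⟩
    · exact ⟨⟨z, hyΓ⟩, Subgroup.subset_closure (Set.mem_insert_of_mem _ rfl), rfl⟩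
  exact isSolvable_of_le h3 (isSolvable_map h2 _)

end Center

end Cfsg.Agent.H803.Inv
end

-- part: H255/Inv/TwTor
section
prune_inst 0x155041604c6210000018058431200444240004b200400000080002400308aa4228804001342001161a180041200900600110008002400000042000000001000000000406a0080000800090000080000000000000000000000000000000000004000000000
set_option linter.all false
open scoped Cfsg.Agent.FastGrp
private noncomputable def lq2628445d7d {T : Sort _} (f :
    type_of% (@_root_.List.cons.{0}) →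
    type_of% (@_root_.List.nil.{0}) →
    type_of% (@_root_.Prod.mk.{0, 0}) →
    type_of% (@_root_.List.cons.{0} (Prod Nat (Prod Nat (List (List Int))))) → T) : T :=
  f (@_root_.List.cons.{0}) (@_root_.List.nil.{0}) (@_root_.Prod.mk.{0, 0}) (@_root_.List.cons.{0} (Prod Nat (Prod Nat (List (List Int)))))

-- part: H292/S38/Tab
section
/-!
# The connected subdiagrams of the exceptional diagrams (helper292, S3830, piece O8c)

`sound` : `J` a set of nodes, not all nodes: either `J` is the union of two sets without edges between them, or there is an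
integral matrix `B` supported on `J` with `B A_J = A_J B = δ`, `0 < δ ≤ 8`.
-/

set_option autoImplicit false

namespace Cfsg.Agent.H292.S38.Tab

open Cfsg.Agent.ChevalleyStructure.CoxeterGeom Cfsg.Agent.Nodes.RGDChev
open Cfsg.Lie Cfsg.Agent.ChevalleyStructure Cfsg.Agent.ChevalleyStructure.CoxeterGeomTypes

/-- the Cartan matrix -/
def AG2 : List (List ℤ) :=
  [[2,-3],[-1,2]]

/-- the table of the subsets -/
def TG2 : List (ℕ × ℕ × List (List ℤ)) :=
  (beta% delta% lq2628445d7d fun a b c _ =>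
 (a (c 1<|c 0 b)<|a (c 2<|c 0 (a (a 1<|b)<|b))<|a (c 2<|c 0 (a b<|a (a 0<|a 1<|b)<|b))<|b))

/-- the Cartan matrix -/
def AB2 : List (List ℤ) :=
  [[2,-2],[-1,2]]

/-- the table of the subsets -/
def TB2 : List (ℕ × ℕ × List (List ℤ)) :=
  (beta% delta% lq2628445d7d fun a b c _ =>
 (a (c 1<|c 0 b)<|a (c 2<|c 0 (a (a 1<|b)<|b))<|a (c 2<|c 0 (a b<|a (a 0<|a 1<|b)<|b))<|b))

/-- the Cartan matrix -/
def AD4 : List (List ℤ) :=
  (beta% delta% lq2628445d7d fun a b _ _ =>
 (a (a 2<|a (-1)<|a 0<|a 0<|b)<|a (a (-1)<|a 2<|a (-1)<|a (-1)<|b)<|a (a 0<|a (-1)<|a 2<|a 0<|b)<|a (a 0<|a (-1)<|a 0<|a 2<|b)<|b))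

/-- the table of the subsets -/
def TD4 : List (ℕ × ℕ × List (List ℤ)) :=
  (beta% delta% lq2628445d7d fun a b c _ =>
 (a (c 1<|c 0 b)<|a (c 2<|c 0 (a (a 1<|b)<|b))<|a (c 2<|c 0 (a b<|a (a 0<|a 1<|b)<|b))<|a (c 3<|c 0 (a (a 2<|a 1<|b)<|a (a 1<|a 2<|b)<|b))<|a (c 2<|c 0 (a b<|a b<|a (a 0<|a 0<|a 1<|b)<|b))<|a (c 0<|c 1 b)<|
 a (c 3<|c 0 (a b<|a (a 0<|a 2<|a 1<|b)<|a (a 0<|a 1<|a 2<|b)<|b))<|a (c 4<|c 0 (a (a 3<|a 2<|a 1<|b)<|a (a 2<|a 4<|a 2<|b)<|a (a 1<|a 2<|a 3<|b)<|b))<|a (c 2<|c 0 (a b<|a b<|a b<|a (a 0<|a 0<|a 0<|a 1<|b)<|b))<|a (c 0<|c 1 b)<|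
 a (c 3<|c 0 (a b<|a (a 0<|a 2<|a 0<|a 1<|b)<|a b<|a (a 0<|a 1<|a 0<|a 2<|b)<|b))<|a (c 4<|c 0 (a (a 3<|a 2<|a 0<|a 1<|b)<|a (a 2<|a 4<|a 0<|a 2<|b)<|a b<|a (a 1<|a 2<|a 0<|a 3<|b)<|b))<|a (c 0<|c 4 b)<|a (c 0<|c 1 b)<|
 a (c 4<|c 0 (a b<|a (a 0<|a 4<|a 2<|a 2<|b)<|a (a 0<|a 2<|a 3<|a 1<|b)<|a (a 0<|a 2<|a 1<|a 3<|b)<|b))<|b))

/-- the Cartan matrix -/
def AF4 : List (List ℤ) :=
  (beta% delta% lq2628445d7d fun a b _ _ =>
 (a (a 2<|a (-1)<|a 0<|a 0<|b)<|a (a (-1)<|a 2<|a (-2)<|a 0<|b)<|a (a 0<|a (-1)<|a 2<|a (-1)<|b)<|a (a 0<|a 0<|a (-1)<|a 2<|b)<|b))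

/-- the table of the subsets -/
def TF4 : List (ℕ × ℕ × List (List ℤ)) :=
  (beta% delta% lq2628445d7d fun a b c _ =>
 (a (c 1<|c 0 b)<|a (c 2<|c 0 (a (a 1<|b)<|b))<|a (c 2<|c 0 (a b<|a (a 0<|a 1<|b)<|b))<|a (c 3<|c 0 (a (a 2<|a 1<|b)<|a (a 1<|a 2<|b)<|b))<|a (c 2<|c 0 (a b<|a b<|a (a 0<|a 0<|a 1<|b)<|b))<|a (c 0<|c 1 b)<|
 a (c 2<|c 0 (a b<|a (a 0<|a 2<|a 2<|b)<|a (a 0<|a 1<|a 2<|b)<|b))<|a (c 2<|c 0 (a (a 2<|a 2<|a 2<|b)<|a (a 2<|a 4<|a 4<|b)<|a (a 1<|a 2<|a 3<|b)<|b))<|a (c 2<|c 0 (a b<|a b<|a b<|a (a 0<|a 0<|a 0<|a 1<|b)<|b))<|a (c 0<|c 1 b)<|a (c 0<|c 2 b)<|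
 a (c 0<|c 3 b)<|a (c 3<|c 0 (a b<|a b<|a (a 0<|a 0<|a 2<|a 1<|b)<|a (a 0<|a 0<|a 1<|a 2<|b)<|b))<|a (c 0<|c 1 b)<|a (c 2<|c 0 (a b<|a (a 0<|a 3<|a 4<|a 2<|b)<|a (a 0<|a 2<|a 4<|a 2<|b)<|a (a 0<|a 1<|a 2<|a 2<|b)<|b))<|b))

/-- the Cartan matrix -/
def AE8 : List (List ℤ) :=
  (beta% delta% lq2628445d7d fun a b _ _ =>
 (a (a 2<|a 0<|a (-1)<|a 0<|a 0<|a 0<|a 0<|a 0<|b)<|a (a 0<|a 2<|a 0<|a (-1)<|a 0<|a 0<|a 0<|a 0<|b)<|a (a (-1)<|a 0<|a 2<|a (-1)<|a 0<|a 0<|a 0<|a 0<|b)<|a (a 0<|a (-1)<|a (-1)<|a 2<|a (-1)<|a 0<|a 0<|a 0<|b)<|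
 a (a 0<|a 0<|a 0<|a (-1)<|a 2<|a (-1)<|a 0<|a 0<|b)<|a (a 0<|a 0<|a 0<|a 0<|a (-1)<|a 2<|a (-1)<|a 0<|b)<|a (a 0<|a 0<|a 0<|a 0<|a 0<|a (-1)<|a 2<|a (-1)<|b)<|a (a 0<|a 0<|a 0<|a 0<|a 0<|a 0<|a (-1)<|a 2<|b)<|b))

/-- the table of the subsets -/
def TE8 : List (ℕ × ℕ × List (List ℤ)) :=
  (beta% delta% lq2628445d7d fun a b c d =>
 (let e:=(let e:=(let e:=(let e:=(let e:=(let e:=(d (c 0<|c 1 b)<|
 d (c 7<|c 0 (a b<|a b<|a (a 0<|a 0<|a 6<|a 5<|a 4<|a 3<|a 2<|a 1<|b)<|a (a 0<|a 0<|a 5<|a 10<|a 8<|a 6<|a 4<|a 2<|b)<|a (a 0<|a 0<|a 4<|a 8<|a 12<|a 9<|a 6<|a 3<|b)<|a (a 0<|a 0<|a 3<|a 6<|a 9<|a 12<|a 8<|a 4<|b)<|a (a 0<|a 0<|a 2<|a 4<|a 6<|a 8<|a 10<|a 5<|b)<|a (a 0<|a 0<|a 1<|a 2<|a 3<|a 4<|a 5<|a 6<|b)<|b))<|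
 d (c 8<|c 0 (a (a 7<|a 0<|a 6<|a 5<|a 4<|a 3<|a 2<|a 1<|b)<|a b<|a (a 6<|a 0<|a 12<|a 10<|a 8<|a 6<|a 4<|a 2<|b)<|a (a 5<|a 0<|a 10<|a 15<|a 12<|a 9<|a 6<|a 3<|b)<|a (a 4<|a 0<|a 8<|a 12<|a 16<|a 12<|a 8<|a 4<|b)<|a (a 3<|a 0<|a 6<|a 9<|a 12<|a 15<|a 10<|a 5<|b)<|a (a 2<|a 0<|a 4<|a 6<|a 8<|a 10<|a 12<|a 6<|b)<|a (a 1<|a 0<|a 2<|a 3<|a 4<|a 5<|a 6<|a 7<|b)<|b))<|
 d (c 4<|c 0 (a b<|a (a 0<|a 7<|a 5<|a 10<|a 8<|a 6<|a 4<|a 2<|b)<|a (a 0<|a 5<|a 7<|a 10<|a 8<|a 6<|a 4<|a 2<|b)<|a (a 0<|a 10<|a 10<|a 20<|a 16<|a 12<|a 8<|a 4<|b)<|a (a 0<|a 8<|a 8<|a 16<|a 16<|a 12<|a 8<|a 4<|b)<|a (a 0<|a 6<|a 6<|a 12<|a 12<|a 12<|a 8<|a 4<|b)<|a (a 0<|a 4<|a 4<|a 8<|a 8<|a 8<|a 8<|a 4<|b)<|a (a 0<|a 2<|a 2<|a 4<|a 4<|a 4<|a 4<|a 4<|b)<|b))<|b);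
 (d (c 0<|c 5 b)<|
 d (c 6<|c 0 (a b<|a b<|a b<|a (a 0<|a 0<|a 0<|a 5<|a 4<|a 3<|a 2<|a 1<|b)<|a (a 0<|a 0<|a 0<|a 4<|a 8<|a 6<|a 4<|a 2<|b)<|a (a 0<|a 0<|a 0<|a 3<|a 6<|a 9<|a 6<|a 3<|b)<|a (a 0<|a 0<|a 0<|a 2<|a 4<|a 6<|a 8<|a 4<|b)<|a (a 0<|a 0<|a 0<|a 1<|a 2<|a 3<|a 4<|a 5<|b)<|b))<|
 d (c 0<|c 1 b)<|
 d (c 7<|c 0 (a b<|a (a 0<|a 6<|a 0<|a 5<|a 4<|a 3<|a 2<|a 1<|b)<|a b<|a (a 0<|a 5<|a 0<|a 10<|a 8<|a 6<|a 4<|a 2<|b)<|a (a 0<|a 4<|a 0<|a 8<|a 12<|a 9<|a 6<|a 3<|b)<|a (a 0<|a 3<|a 0<|a 6<|a 9<|a 12<|a 8<|a 4<|b)<|a (a 0<|a 2<|a 0<|a 4<|a 6<|a 8<|a 10<|a 5<|b)<|a (a 0<|a 1<|a 0<|a 2<|a 3<|a 4<|a 5<|a 6<|b)<|b))<|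
 e));
 (let e:=(d (c 0<|c 1 b)<|d (c 0<|c 4 b)<|d (c 0<|c 5 b)<|d (c 0<|c 2 b)<|e);
 (d (c 0<|c 15 b)<|d (c 5<|c 0 (a b<|a b<|a b<|a b<|a (a 0<|a 0<|a 0<|a 0<|a 4<|a 3<|a 2<|a 1<|b)<|a (a 0<|a 0<|a 0<|a 0<|a 3<|a 6<|a 4<|a 2<|b)<|a (a 0<|a 0<|a 0<|a 0<|a 2<|a 4<|a 6<|a 3<|b)<|a (a 0<|a 0<|a 0<|a 0<|a 1<|a 2<|a 3<|a 4<|b)<|b))<|d (c 0<|c 1 b)<|
 d (c 0<|c 2 b)<|e)));
 (let e:=(let e:=(d (c 0<|c 1 b)<|d (c 0<|c 12 b)<|d (c 0<|c 13 b)<|d (c 0<|c 14 b)<|
 e);
 (d (c 0<|c 5 b)<|d (c 0<|c 8 b)<|d (c 0<|c 1 b)<|d (c 0<|c 10 b)<|e));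
 (let e:=(d (c 0<|c 1 b)<|
 d (c 0<|c 4 b)<|d (c 0<|c 5 b)<|d (c 0<|c 2 b)<|e);
 (d (c 0<|c 31 b)<|
 d (c 4<|c 0 (a b<|a b<|a b<|a b<|a b<|a (a 0<|a 0<|a 0<|a 0<|a 0<|a 3<|a 2<|a 1<|b)<|a (a 0<|a 0<|a 0<|a 0<|a 0<|a 2<|a 4<|a 2<|b)<|a (a 0<|a 0<|a 0<|a 0<|a 0<|a 1<|a 2<|a 3<|b)<|b))<|d (c 0<|c 1 b)<|d (c 0<|c 2 b)<|e))));
 (let e:=(let e:=(let e:=(d (c 0<|c 1 b)<|d (c 0<|c 28 b)<|d (c 0<|c 29 b)<|d (c 0<|c 30 b)<|e);
 (d (c 0<|c 5 b)<|d (c 0<|c 24 b)<|d (c 0<|c 1 b)<|d (c 0<|c 26 b)<|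
 e));
 (let e:=(d (c 0<|c 1 b)<|d (c 0<|c 4 b)<|d (c 0<|c 5 b)<|d (c 0<|c 2 b)<|e);
 (d (c 0<|c 15 b)<|
 d (c 0<|c 16 b)<|d (c 0<|c 1 b)<|d (c 0<|c 2 b)<|e)));
 (let e:=(let e:=(d (c 0<|c 1 b)<|d (c 0<|c 12 b)<|d (c 0<|c 13 b)<|d (c 0<|c 14 b)<|e);
 (d (c 0<|c 5 b)<|d (c 0<|c 8 b)<|d (c 0<|c 1 b)<|d (c 0<|c 10 b)<|e));
 (let e:=(d (c 0<|c 1 b)<|d (c 0<|c 4 b)<|d (c 0<|c 5 b)<|
 d (c 0<|c 2 b)<|e);
 (d (c 0<|c 63 b)<|
 d (c 3<|c 0 (a b<|a b<|a b<|a b<|a b<|a b<|a (a 0<|a 0<|a 0<|a 0<|a 0<|a 0<|a 2<|a 1<|b)<|a (a 0<|a 0<|a 0<|a 0<|a 0<|a 0<|a 1<|a 2<|b)<|b))<|d (c 0<|c 1 b)<|d (c 0<|c 2 b)<|e)))));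
 (let e:=(let e:=(let e:=(let e:=(d (c 0<|c 1 b)<|d (c 0<|c 60 b)<|d (c 0<|c 61 b)<|d (c 0<|c 62 b)<|e);
 (d (c 0<|c 5 b)<|d (c 0<|c 56 b)<|d (c 0<|c 1 b)<|d (c 0<|c 58 b)<|
 e));
 (let e:=(d (c 0<|c 1 b)<|d (c 0<|c 4 b)<|d (c 0<|c 5 b)<|d (c 0<|c 2 b)<|e);
 (d (c 0<|c 15 b)<|
 d (c 0<|c 48 b)<|d (c 0<|c 1 b)<|d (c 0<|c 2 b)<|e)));
 (let e:=(let e:=(d (c 0<|c 1 b)<|d (c 0<|c 12 b)<|d (c 0<|c 13 b)<|d (c 0<|c 14 b)<|e);
 (d (c 0<|c 5 b)<|d (c 0<|c 8 b)<|d (c 0<|c 1 b)<|d (c 0<|c 10 b)<|e));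
 (let e:=(d (c 0<|c 1 b)<|d (c 0<|c 4 b)<|d (c 0<|c 5 b)<|
 d (c 0<|c 2 b)<|e);
 (d (c 0<|c 31 b)<|d (c 0<|c 32 b)<|d (c 0<|c 1 b)<|d (c 0<|c 2 b)<|e))));
 (let e:=(let e:=(let e:=(d (c 0<|c 1 b)<|
 d (c 0<|c 28 b)<|d (c 0<|c 29 b)<|d (c 0<|c 30 b)<|e);
 (d (c 0<|c 5 b)<|d (c 0<|c 24 b)<|d (c 0<|c 1 b)<|d (c 0<|c 26 b)<|e));
 (let e:=(d (c 0<|c 1 b)<|d (c 0<|c 4 b)<|d (c 0<|c 5 b)<|d (c 0<|c 2 b)<|e);
 (d (c 0<|c 15 b)<|d (c 0<|c 16 b)<|
 d (c 0<|c 1 b)<|d (c 0<|c 2 b)<|e)));
 (let e:=(let e:=(d (c 0<|c 1 b)<|d (c 0<|c 12 b)<|d (c 0<|c 13 b)<|d (c 0<|c 14 b)<|e);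
 (d (c 0<|c 5 b)<|d (c 0<|c 8 b)<|d (c 0<|c 1 b)<|d (c 0<|c 10 b)<|e));
 (let e:=(d (c 0<|c 1 b)<|d (c 0<|c 4 b)<|d (c 0<|c 5 b)<|d (c 0<|c 2 b)<|
 e);
 (d (c 2<|c 0 (a (a 4<|a 4<|a 6<|a 8<|a 6<|a 4<|a 2<|b)<|a (a 4<|a 7<|a 8<|a 12<|a 9<|a 6<|a 3<|b)<|a (a 6<|a 8<|a 12<|a 16<|a 12<|a 8<|a 4<|b)<|a (a 8<|a 12<|a 16<|a 24<|a 18<|a 12<|a 6<|b)<|a (a 6<|a 9<|a 12<|a 18<|a 15<|a 10<|a 5<|b)<|a (a 4<|a 6<|a 8<|a 12<|a 10<|a 8<|a 4<|b)<|a (a 2<|a 3<|a 4<|a 6<|a 5<|a 4<|a 3<|b)<|b))<|
 d (c 2<|c 0 (a b<|a b<|a b<|a b<|a b<|a b<|a b<|a (a 0<|a 0<|a 0<|a 0<|a 0<|a 0<|a 0<|a 1<|b)<|b))<|d (c 0<|c 1 b)<|d (c 0<|c 2 b)<|e))))));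
 (let e:=(let e:=(let e:=(let e:=(let e:=(d (c 0<|c 1 b)<|
 d (c 6<|c 0 (a b<|a b<|a (a 0<|a 0<|a 5<|a 4<|a 3<|a 2<|a 1<|b)<|a (a 0<|a 0<|a 4<|a 8<|a 6<|a 4<|a 2<|b)<|a (a 0<|a 0<|a 3<|a 6<|a 9<|a 6<|a 3<|b)<|a (a 0<|a 0<|a 2<|a 4<|a 6<|a 8<|a 4<|b)<|a (a 0<|a 0<|a 1<|a 2<|a 3<|a 4<|a 5<|b)<|b))<|
 d (c 7<|c 0 (a (a 6<|a 0<|a 5<|a 4<|a 3<|a 2<|a 1<|b)<|a b<|a (a 5<|a 0<|a 10<|a 8<|a 6<|a 4<|a 2<|b)<|a (a 4<|a 0<|a 8<|a 12<|a 9<|a 6<|a 3<|b)<|a (a 3<|a 0<|a 6<|a 9<|a 12<|a 8<|a 4<|b)<|a (a 2<|a 0<|a 4<|a 6<|a 8<|a 10<|a 5<|b)<|a (a 1<|a 0<|a 2<|a 3<|a 4<|a 5<|a 6<|b)<|b))<|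
 d (c 4<|c 0 (a b<|a (a 0<|a 6<|a 4<|a 8<|a 6<|a 4<|a 2<|b)<|a (a 0<|a 4<|a 6<|a 8<|a 6<|a 4<|a 2<|b)<|a (a 0<|a 8<|a 8<|a 16<|a 12<|a 8<|a 4<|b)<|a (a 0<|a 6<|a 6<|a 12<|a 12<|a 8<|a 4<|b)<|a (a 0<|a 4<|a 4<|a 8<|a 8<|a 8<|a 4<|b)<|a (a 0<|a 2<|a 2<|a 4<|a 4<|a 4<|a 4<|b)<|b))<|
 e);
 (d (c 0<|c 5 b)<|
 d (c 5<|c 0 (a b<|a b<|a b<|a (a 0<|a 0<|a 0<|a 4<|a 3<|a 2<|a 1<|b)<|a (a 0<|a 0<|a 0<|a 3<|a 6<|a 4<|a 2<|b)<|a (a 0<|a 0<|a 0<|a 2<|a 4<|a 6<|a 3<|b)<|a (a 0<|a 0<|a 0<|a 1<|a 2<|a 3<|a 4<|b)<|b))<|d (c 0<|c 1 b)<|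
 d (c 6<|c 0 (a b<|a (a 0<|a 5<|a 0<|a 4<|a 3<|a 2<|a 1<|b)<|a b<|a (a 0<|a 4<|a 0<|a 8<|a 6<|a 4<|a 2<|b)<|a (a 0<|a 3<|a 0<|a 6<|a 9<|a 6<|a 3<|b)<|a (a 0<|a 2<|a 0<|a 4<|a 6<|a 8<|a 4<|b)<|a (a 0<|a 1<|a 0<|a 2<|a 3<|a 4<|a 5<|b)<|b))<|e));
 (let e:=(d (c 0<|c 1 b)<|d (c 0<|c 4 b)<|d (c 0<|c 5 b)<|d (c 0<|c 2 b)<|e);
 (d (c 0<|c 15 b)<|d (c 4<|c 0 (a b<|a b<|a b<|a b<|a (a 0<|a 0<|a 0<|a 0<|a 3<|a 2<|a 1<|b)<|a (a 0<|a 0<|a 0<|a 0<|a 2<|a 4<|a 2<|b)<|a (a 0<|a 0<|a 0<|a 0<|a 1<|a 2<|a 3<|b)<|b))<|d (c 0<|c 1 b)<|d (c 0<|c 2 b)<|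
 e)));
 (let e:=(let e:=(d (c 0<|c 1 b)<|d (c 0<|c 12 b)<|d (c 0<|c 13 b)<|
 d (c 0<|c 14 b)<|e);
 (d (c 0<|c 5 b)<|d (c 0<|c 8 b)<|d (c 0<|c 1 b)<|d (c 0<|c 10 b)<|e));
 (let e:=(d (c 0<|c 1 b)<|d (c 0<|c 4 b)<|d (c 0<|c 5 b)<|d (c 0<|c 2 b)<|e);
 (d (c 0<|c 31 b)<|d (c 3<|c 0 (a b<|a b<|a b<|a b<|a b<|a (a 0<|a 0<|a 0<|a 0<|a 0<|a 2<|a 1<|b)<|a (a 0<|a 0<|a 0<|a 0<|a 0<|a 1<|a 2<|b)<|b))<|d (c 0<|c 1 b)<|d (c 0<|c 2 b)<|
 e))));
 (let e:=(let e:=(let e:=(d (c 0<|c 1 b)<|d (c 0<|c 28 b)<|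
 d (c 0<|c 29 b)<|d (c 0<|c 30 b)<|e);
 (d (c 0<|c 5 b)<|d (c 0<|c 24 b)<|d (c 0<|c 1 b)<|d (c 0<|c 26 b)<|e));
 (let e:=(d (c 0<|c 1 b)<|d (c 0<|c 4 b)<|d (c 0<|c 5 b)<|d (c 0<|c 2 b)<|e);
 (d (c 0<|c 15 b)<|d (c 0<|c 16 b)<|d (c 0<|c 1 b)<|
 d (c 0<|c 2 b)<|e)));
 (let e:=(let e:=(d (c 0<|c 1 b)<|d (c 0<|c 12 b)<|d (c 0<|c 13 b)<|d (c 0<|c 14 b)<|e);
 (d (c 0<|c 5 b)<|
 d (c 0<|c 8 b)<|d (c 0<|c 1 b)<|d (c 0<|c 10 b)<|e));
 (let e:=(d (c 0<|c 1 b)<|d (c 0<|c 4 b)<|d (c 0<|c 5 b)<|d (c 0<|c 2 b)<|e);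
 (d (c 3<|c 0 (a (a 4<|a 3<|a 5<|a 6<|a 4<|a 2<|b)<|a (a 3<|a 6<|a 6<|a 9<|a 6<|a 3<|b)<|a (a 5<|a 6<|a 10<|a 12<|a 8<|a 4<|b)<|a (a 6<|a 9<|a 12<|a 18<|a 12<|a 6<|b)<|a (a 4<|a 6<|a 8<|a 12<|a 10<|a 5<|b)<|a (a 2<|a 3<|a 4<|a 6<|a 5<|a 4<|b)<|b))<|
 d (c 2<|c 0 (a b<|a b<|a b<|a b<|a b<|a b<|a (a 0<|a 0<|a 0<|a 0<|a 0<|a 0<|a 1<|b)<|b))<|d (c 0<|c 1 b)<|d (c 0<|c 2 b)<|e)))));
 (let e:=(let e:=(let e:=(let e:=(d (c 0<|c 1 b)<|
 d (c 5<|c 0 (a b<|a b<|a (a 0<|a 0<|a 4<|a 3<|a 2<|a 1<|b)<|a (a 0<|a 0<|a 3<|a 6<|a 4<|a 2<|b)<|a (a 0<|a 0<|a 2<|a 4<|a 6<|a 3<|b)<|a (a 0<|a 0<|a 1<|a 2<|a 3<|a 4<|b)<|b))<|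
 d (c 6<|c 0 (a (a 5<|a 0<|a 4<|a 3<|a 2<|a 1<|b)<|a b<|a (a 4<|a 0<|a 8<|a 6<|a 4<|a 2<|b)<|a (a 3<|a 0<|a 6<|a 9<|a 6<|a 3<|b)<|a (a 2<|a 0<|a 4<|a 6<|a 8<|a 4<|b)<|a (a 1<|a 0<|a 2<|a 3<|a 4<|a 5<|b)<|b))<|
 d (c 4<|c 0 (a b<|a (a 0<|a 5<|a 3<|a 6<|a 4<|a 2<|b)<|a (a 0<|a 3<|a 5<|a 6<|a 4<|a 2<|b)<|a (a 0<|a 6<|a 6<|a 12<|a 8<|a 4<|b)<|a (a 0<|a 4<|a 4<|a 8<|a 8<|a 4<|b)<|a (a 0<|a 2<|a 2<|a 4<|a 4<|a 4<|b)<|b))<|
 e);
 (d (c 0<|c 5 b)<|d (c 4<|c 0 (a b<|a b<|a b<|a (a 0<|a 0<|a 0<|a 3<|a 2<|a 1<|b)<|a (a 0<|a 0<|a 0<|a 2<|a 4<|a 2<|b)<|a (a 0<|a 0<|a 0<|a 1<|a 2<|a 3<|b)<|b))<|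
 d (c 0<|c 1 b)<|d (c 5<|c 0 (a b<|a (a 0<|a 4<|a 0<|a 3<|a 2<|a 1<|b)<|a b<|a (a 0<|a 3<|a 0<|a 6<|a 4<|a 2<|b)<|a (a 0<|a 2<|a 0<|a 4<|a 6<|a 3<|b)<|a (a 0<|a 1<|a 0<|a 2<|a 3<|a 4<|b)<|b))<|e));
 (let e:=(d (c 0<|c 1 b)<|d (c 0<|c 4 b)<|d (c 0<|c 5 b)<|d (c 0<|c 2 b)<|e);
 (d (c 0<|c 15 b)<|d (c 3<|c 0 (a b<|a b<|a b<|a b<|a (a 0<|a 0<|a 0<|a 0<|a 2<|a 1<|b)<|a (a 0<|a 0<|a 0<|a 0<|a 1<|a 2<|b)<|b))<|d (c 0<|c 1 b)<|d (c 0<|c 2 b)<|
 e)));
 (let e:=(let e:=(d (c 0<|c 1 b)<|
 d (c 0<|c 12 b)<|d (c 0<|c 13 b)<|d (c 0<|c 14 b)<|e);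
 (d (c 0<|c 5 b)<|d (c 0<|c 8 b)<|d (c 0<|c 1 b)<|d (c 0<|c 10 b)<|e));
 (let e:=(d (c 0<|c 1 b)<|d (c 0<|c 4 b)<|d (c 0<|c 5 b)<|d (c 0<|c 2 b)<|e);
 (d (c 4<|c 0 (a (a 4<|a 2<|a 4<|a 4<|a 2<|b)<|a (a 2<|a 5<|a 4<|a 6<|a 3<|b)<|a (a 4<|a 4<|a 8<|a 8<|a 4<|b)<|a (a 4<|a 6<|a 8<|a 12<|a 6<|b)<|a (a 2<|a 3<|a 4<|a 6<|a 5<|b)<|b))<|d (c 2<|c 0 (a b<|a b<|a b<|a b<|a b<|a (a 0<|a 0<|a 0<|a 0<|a 0<|a 1<|b)<|b))<|
 d (c 0<|c 1 b)<|d (c 0<|c 2 b)<|e))));
 (let e:=(let e:=(let e:=(d (c 0<|c 1 b)<|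
 d (c 4<|c 0 (a b<|a b<|a (a 0<|a 0<|a 3<|a 2<|a 1<|b)<|a (a 0<|a 0<|a 2<|a 4<|a 2<|b)<|a (a 0<|a 0<|a 1<|a 2<|a 3<|b)<|b))<|d (c 5<|c 0 (a (a 4<|a 0<|a 3<|a 2<|a 1<|b)<|a b<|a (a 3<|a 0<|a 6<|a 4<|a 2<|b)<|a (a 2<|a 0<|a 4<|a 6<|a 3<|b)<|a (a 1<|a 0<|a 2<|a 3<|a 4<|b)<|b))<|
 d (c 4<|c 0 (a b<|a (a 0<|a 4<|a 2<|a 4<|a 2<|b)<|a (a 0<|a 2<|a 4<|a 4<|a 2<|b)<|a (a 0<|a 4<|a 4<|a 8<|a 4<|b)<|a (a 0<|a 2<|a 2<|a 4<|a 4<|b)<|b))<|
 e);
 (d (c 0<|c 5 b)<|
 d (c 3<|c 0 (a b<|a b<|a b<|a (a 0<|a 0<|a 0<|a 2<|a 1<|b)<|a (a 0<|a 0<|a 0<|a 1<|a 2<|b)<|b))<|d (c 0<|c 1 b)<|d (c 4<|c 0 (a b<|a (a 0<|a 3<|a 0<|a 2<|a 1<|b)<|a b<|a (a 0<|a 2<|a 0<|a 4<|a 2<|b)<|a (a 0<|a 1<|a 0<|a 2<|a 3<|b)<|b))<|e));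
 (let e:=(d (c 0<|c 1 b)<|d (c 0<|c 4 b)<|d (c 0<|c 5 b)<|d (c 0<|c 2 b)<|e);
 (d (c 5<|c 0 (a (a 4<|a 1<|a 3<|a 2<|b)<|a (a 1<|a 4<|a 2<|a 3<|b)<|a (a 3<|a 2<|a 6<|a 4<|b)<|a (a 2<|a 3<|a 4<|a 6<|b)<|b))<|
 d (c 2<|c 0 (a b<|a b<|a b<|a b<|a (a 0<|a 0<|a 0<|a 0<|a 1<|b)<|b))<|d (c 0<|c 1 b)<|d (c 0<|c 2 b)<|e)));
 (let e:=(let e:=(d (c 0<|c 1 b)<|
 d (c 3<|c 0 (a b<|a b<|a (a 0<|a 0<|a 2<|a 1<|b)<|a (a 0<|a 0<|a 1<|a 2<|b)<|b))<|d (c 4<|c 0 (a (a 3<|a 0<|a 2<|a 1<|b)<|a b<|a (a 2<|a 0<|a 4<|a 2<|b)<|a (a 1<|a 0<|a 2<|a 3<|b)<|b))<|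
 d (c 4<|c 0 (a b<|a (a 0<|a 3<|a 1<|a 2<|b)<|a (a 0<|a 1<|a 3<|a 2<|b)<|a (a 0<|a 2<|a 2<|a 4<|b)<|b))<|e);
 (d (c 0<|c 5 b)<|d (c 2<|c 0 (a b<|a b<|a b<|a (a 0<|a 0<|a 0<|a 1<|b)<|b))<|d (c 0<|c 1 b)<|d (c 3<|c 0 (a b<|a (a 0<|a 2<|a 0<|a 1<|b)<|a b<|a (a 0<|a 1<|a 0<|a 2<|b)<|b))<|e));
 (a (c 1<|c 0 b)<|a (c 2<|c 0 (a (a 1<|b)<|b))<|a (c 2<|c 0 (a b<|a (a 0<|a 1<|b)<|b))<|a (c 0<|c 1 b)<|a (c 2<|c 0 (a b<|a b<|a (a 0<|a 0<|a 1<|b)<|b))<|a (c 3<|c 0 (a (a 2<|a 0<|a 1<|b)<|a b<|a (a 1<|a 0<|a 2<|b)<|b))<|a (c 0<|c 2 b)<|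
 e)))))))

/-- an entry of a matrix -/
def row (A : List (List ℤ)) (i j : ℕ) : ℤ := (A.getD i []).getD j 0

/-- the set `K` separates the set `m` -/
def sepC (A : List (List ℤ)) (l m K : ℕ) : Bool :=
  (List.range l).any (fun i => K.testBit i) && ((List.range l).any (fun i => m.testBit i && !K.testBit i) &&
    ((List.range l).all (fun i => !K.testBit i || m.testBit i) &&
      (List.range l).all (fun a => !K.testBit a ||
        (List.range l).all (fun b => !m.testBit b || (K.testBit b || row A a b == 0)))))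

/-- `B` is `d` times the inverse matrix -/
def invC (A : List (List ℤ)) (l m d : ℕ) (B : List (List ℤ)) : Bool :=
  Nat.ble d 8 && ((List.range l).all (fun i => (List.range l).all fun j =>
      row B i j == 0 || (m.testBit i && m.testBit j)) &&
    (List.range l).all (fun i => !m.testBit i || (List.range l).all fun k => !m.testBit k ||
      (((List.range l).map fun j => row B i j * row A j k).sum == (if i = k then (d : ℤ) else 0) &&
        ((List.range l).map fun j => row A i j * row B j k).sum == (if i = k then (d : ℤ) else 0))))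

/-- the test of one entry -/
def chk (A : List (List ℤ)) (l m : ℕ) (e : ℕ × ℕ × List (List ℤ)) : Bool :=
  if e.1 = 0 then sepC A l m e.2.1 else invC A l m e.1 e.2.2

/-- the test of the table -/
def chkAll (A : List (List ℤ)) (l : ℕ) (T : List (ℕ × ℕ × List (List ℤ))) : Bool :=
  (List.range (2 ^ l - 1)).all fun m => chk A l m (T.getD m (1, 0, []))

theorem chk_G2 : chkAll AG2 2 TG2 = true := by decide +kernel

theorem chk_B2 : chkAll AB2 2 TB2 = true := by decide +kernel

theorem chk_D4 : chkAll AD4 4 TD4 = true := by decide +kernel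

theorem chk_F4 : chkAll AF4 4 TF4 = true := by decide +kernel

private theorem _root_.Cfsg.Agent.KOf9c891b.e0.{ku, kv} {α : Type kv} {M : List α → Sort ku} (φ : ∀ l, M l) {z : M List.nil} {s : ∀ a l, M l → M (List.cons a l)} (h0 : φ List.nil = z) (hs : ∀ a l, φ (List.cons a l) = s a l (φ l)) (l : List α) : φ l = @List.rec α M z s l := List.rec h0 (fun a l ih => (hs a l).trans (congrArg (s a l) ih)) l
private noncomputable def _root_.Cfsg.Agent.KOf9c891b.k1.{ku0} : type_of% @List.all.{ku0} := @(fun x0 x1 x2 => @List.rec.{(ku0+1), ku0} @x0 @(fun x3 => (@x0 → @Bool) → @Bool) @(fun x3 => @Bool.true) @(fun x3 x4 x5 x6 => @Bool.rec.{1} @(fun x7 => @Bool) @Bool.false (@x5 @x6) (@x6 @x3)) @x1 @x2)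
private theorem _root_.Cfsg.Agent.KOf9c891b.e1.{ku0} : @List.all.{ku0} = @_root_.Cfsg.Agent.KOf9c891b.k1.{ku0} := by delta _root_.Cfsg.Agent.KOf9c891b.k1; funext a0 a1 a2; refine (congrFun (_root_.Cfsg.Agent.KOf9c891b.e0 (fun a1 a2 => @List.all.{ku0} a0 a1 a2) ?_ (fun c0 c1 => ?_) a1) a2 :) <;> (rfl')
private theorem _root_.Cfsg.Agent.KOf9c891b.e2.{ku} {M : Nat → Sort ku} (φ : ∀ n, M n) {z : M Nat.zero} {s : ∀ n, M n → M (Nat.succ n)} (h0 : φ Nat.zero = z) (hs : ∀ n, φ (Nat.succ n) = s n (φ n)) (n : Nat) : φ n = @Nat.rec M z s n := Nat.rec h0 (fun n ih => (hs n).trans (congrArg (s n) ih)) n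
private noncomputable def _root_.Cfsg.Agent.KOf9c891b.k3 : type_of% @List.range.loop := @(fun x0 x1 => @Nat.rec.{1} @(fun x2 => (@List.{0} ℕ) → @List.{0} ℕ) @(fun x2 => @x2) @(fun x2 x3 x4 => @x3 (@x2 :: @x4)) @x0 @x1)
private theorem _root_.Cfsg.Agent.KOf9c891b.e3 : @List.range.loop = @_root_.Cfsg.Agent.KOf9c891b.k3 := by delta _root_.Cfsg.Agent.KOf9c891b.k3; funext a0 a1; refine (congrFun (_root_.Cfsg.Agent.KOf9c891b.e2 (fun a0 a1 => @List.range.loop a0 a1) ?_ (fun c0 => ?_) a0) a1 :) <;> (rfl')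
private noncomputable def _root_.Cfsg.Agent.KOf9c891b.oEq.{ku} (α : Sort ku) (a b : Nat) (f t : α) : α := @Decidable.rec (a = b) (fun _ => α) (fun _ => f) (fun _ => t) (Nat.decEq a b)
private noncomputable def _root_.Cfsg.Agent.KOf9c891b.k4.{ku} (α : Sort ku) (a b : Nat) (f t : α) : α := @Bool.rec (fun _ => α) f t (Nat.beq a b)
private theorem _root_.Cfsg.Agent.KOf9c891b.e4.{ku} : @_root_.Cfsg.Agent.KOf9c891b.oEq.{ku} = @_root_.Cfsg.Agent.KOf9c891b.k4.{ku} := funext fun α => funext fun a => funext fun b => funext fun f => funext fun t => by delta _root_.Cfsg.Agent.KOf9c891b.oEq _root_.Cfsg.Agent.KOf9c891b.k4; cases h : Nat.beq a b <;> cases Nat.decEq a b <;> rename_i g <;> first | rfl | exact absurd g (Nat.ne_of_beq_eq_false h) | exact absurd (Nat.eq_of_beq_eq_true h) g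
private noncomputable def _root_.Cfsg.Agent.KOf9c891b.k5 : type_of% @Nat.decEq := @(fun x0 x1 => @Bool.rec.{1} @(fun x2 => (@Eq.{1} _ (@Nat.beq @x0 @x1) @x2) → @Decidable (@Eq.{1} _ @x0 @x1)) @(fun x2 => @Decidable.isFalse _ (@Nat.ne_of_beq_eq_false _ _ @x2)) @(fun x2 => @Decidable.isTrue _ (@Nat.eq_of_beq_eq_true _ _ @x2)) (@Nat.beq @x0 @x1) (@Eq.refl.{1} _ (@Nat.beq @x0 @x1)))
private theorem _root_.Cfsg.Agent.KOf9c891b.e5 : @Nat.decEq = @_root_.Cfsg.Agent.KOf9c891b.k5 := by delta _root_.Cfsg.Agent.KOf9c891b.k5; rfl'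
private noncomputable def _root_.Cfsg.Agent.KOf9c891b.k6 : type_of% @Int.decEq := @(fun x0 x1 => @Int.rec.{1} @(fun x2 => @Decidable (@Eq.{1} _ @x2 @x1)) @(fun x2 => @Int.rec.{1} @(fun x3 => @Decidable (@Eq.{1} _ (@Int.ofNat @x2) @x3)) @(fun x3 => @Decidable.rec.{1} _ @(fun x4 => @Decidable (@Eq.{1} _ (@Int.ofNat @x2) (@Int.ofNat @x3))) @(fun x4 => @Decidable.isFalse _ (@Int.decEq._proof_2 @x2 @x3 @x4)) @(fun x4 => @Decidable.isTrue _ (@Int.decEq._proof_1 @x2 @x3 @x4)) (@Cfsg.Agent.KOf9c891b.k5 @x2 @x3)) @(fun x3 => @Decidable.isFalse _ (@Int.decEq._proof_3 @x2 @x3)) @x1) @(fun x2 => @Int.rec.{1} @(fun x3 => @Decidable (@Eq.{1} _ (@Int.negSucc @x2) @x3)) @(fun x3 => @Decidable.isFalse _ (@Int.decEq._proof_4 @x2 @x3)) @(fun x3 => @Decidable.rec.{1} _ @(fun x4 => @Decidable (@Eq.{1} _ (@Int.negSucc @x2) (@Int.negSucc @x3))) @(fun x4 => @Decidable.isFalse _ (@Int.decEq._proof_6 @x2 @x3 @x4)) @(fun x4 => @Decidable.isTrue _ (@Int.decEq._proof_5 @x2 @x3 @x4))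 (@Cfsg.Agent.KOf9c891b.k5 @x2 @x3)) @x1) @x0)
private theorem _root_.Cfsg.Agent.KOf9c891b.e6 : @Int.decEq = @_root_.Cfsg.Agent.KOf9c891b.k6 := by delta _root_.Cfsg.Agent.KOf9c891b.k6; rewrite [← Cfsg.Agent.KOf9c891b.e5]; rfl'
private noncomputable def _root_.Cfsg.Agent.KOf9c891b.k9.{ku0, ku1} : type_of% @List.map.{ku0, ku1} := @(fun x0 x1 x2 x3 => @List.rec.{(ku1+1), ku0} @x0 @(fun x4 => @List.{ku1} @x1) [] @(fun x4 x5 x6 => (@x2 @x4) :: @x6) @x3)
private theorem _root_.Cfsg.Agent.KOf9c891b.e9.{ku0, ku1} : @List.map.{ku0, ku1} = @_root_.Cfsg.Agent.KOf9c891b.k9.{ku0, ku1} := by delta _root_.Cfsg.Agent.KOf9c891b.k9; funext a0 a1 a2 a3; refine (_root_.Cfsg.Agent.KOf9c891b.e0 (fun a3 => @List.map.{ku0, ku1} a0 a1 a2 a3) ?_ (fun c0 c1 => ?_) a3 :) <;> (rfl')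
private noncomputable def _root_.Cfsg.Agent.KOf9c891b.k12.{ku0} : type_of% @List.get?Internal.{ku0} := @(fun x0 x1 x2 => @List.rec.{(ku0+1), ku0} @x0 @(fun x3 => ℕ → @Option.{ku0} @x0) @(fun x3 => @Option.none.{ku0} _) @(fun x3 x4 x5 x6 => @Nat.rec.{(ku0+1)} @(fun x7 => @Option.{ku0} @x0) (@Option.some.{ku0} _ @x3) @(fun x7 x8 => @x5 @x7) @x6) @x1 @x2)
private theorem _root_.Cfsg.Agent.KOf9c891b.e12.{ku0} : @List.get?Internal.{ku0} = @_root_.Cfsg.Agent.KOf9c891b.k12.{ku0} := by delta _root_.Cfsg.Agent.KOf9c891b.k12; funext a0 a1 a2; refine (congrFun (_root_.Cfsg.Agent.KOf9c891b.e0 (fun a1 a2 => @List.get?Internal.{ku0} a0 a1 a2) ?_ (fun c0 c1 => ?_) a1) a2 :) <;> [(funext b0; (rfl')); (funext b0; (cases b0 with | @zero  => (rfl') | @succ b0_0 => (rfl')))]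
private noncomputable def _root_.Cfsg.Agent.KOf9c891b.k13 : (by first | exact type_of% @Cfsg.Agent.H292.S38.Tab.invC | exact Unit : Sort _) := by first | (refine @Subtype.val _ (fun g => @Cfsg.Agent.H292.S38.Tab.invC = @g) (@Subtype.mk _ _ (@(fun x0 x1 x2 x3 x4 => @Bool.rec.{1} @(fun x5 => @Bool) @Bool.false (@Bool.rec.{1} @(fun x5 => @Bool) @Bool.false (@Cfsg.Agent.KOf9c891b.k1.{0} _ (@List.range.loop @x1 []) @(fun x5 => @Bool.rec.{1} @(fun x6 => @Bool) (@Cfsg.Agent.KOf9c891b.k1.{0} _ (@List.range.loop @x1 []) @(fun x6 => @Bool.rec.{1} @(fun x7 => @Bool) (@Bool.rec.{1} @(fun x7 => @Bool) @Bool.false (@Decidable.rec.{1} _ @(fun x7 => @Bool) @(fun x7 => @Bool.false) @(fun x7 => @Bool.true) (@Cfsg.Agent.KOf9c891b.k6 (@List.foldr.{0, 0} _ _ @(fun x7 x8 => @Int.add @x7 @x8) (@Int.ofNat (nat_lit 0)) (@Cfsg.Agent.KOf9c891b.k9.{0, 0} _ _ @(fun x7 => @Int.mul (@Option.rec.{1, 0} ℤ @(fun x8 => ℤ) (@Int.ofNat (nat_lit 0)) @(fun x8 => @x8) (@List.get?Internal.{0}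 _ (@Option.rec.{1, 0} (@List.{0} ℤ) @(fun x8 => @List.{0} ℤ) [] @(fun x8 => @x8) (@List.get?Internal.{0} _ @x0 @x5)) @x7)) (@Option.rec.{1, 0} ℤ @(fun x8 => ℤ) (@Int.ofNat (nat_lit 0)) @(fun x8 => @x8) (@List.get?Internal.{0} _ (@Option.rec.{1, 0} (@List.{0} ℤ) @(fun x8 => @List.{0} ℤ) [] @(fun x8 => @x8) (@List.get?Internal.{0} _ @x4 @x7)) @x6))) (@List.range.loop @x1 []))) (@Cfsg.Agent.KOf9c891b.oEq.{1} ℤ @x5 @x6 (@Int.ofNat (nat_lit 0)) (@Int.ofNat @x3)))) (@Decidable.rec.{1} _ @(fun x7 => @Bool) @(fun x7 => @Bool.false) @(fun x7 => @Bool.true) (@Cfsg.Agent.KOf9c891b.k6 (@List.foldr.{0, 0} _ _ @(fun x7 x8 => @Int.add @x7 @x8) (@Int.ofNat (nat_lit 0)) (@Cfsg.Agent.KOf9c891b.k9.{0, 0} _ _ @(fun x7 => @Int.mul (@Option.rec.{1, 0} ℤ @(fun x8 => ℤ) (@Int.ofNat (nat_lit 0)) @(fun x8 => @x8) (@List.get?Internal.{0} _ (@Option.rec.{1, 0} (@List.{0} ℤ) @(fun x8 => @List.{0} ℤ) [] @(fun x8 => @x8) (@List.get?Internal.{0} _ @x4 @x5)) @x7)) (@Option.rec.{1, 0}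 ℤ @(fun x8 => ℤ) (@Int.ofNat (nat_lit 0)) @(fun x8 => @x8) (@List.get?Internal.{0} _ (@Option.rec.{1, 0} (@List.{0} ℤ) @(fun x8 => @List.{0} ℤ) [] @(fun x8 => @x8) (@List.get?Internal.{0} _ @x0 @x7)) @x6))) (@List.range.loop @x1 []))) (@Cfsg.Agent.KOf9c891b.oEq.{1} ℤ @x5 @x6 (@Int.ofNat (nat_lit 0)) (@Int.ofNat @x3))))) @Bool.true (@Bool.rec.{1} @(fun x7 => @Bool) @Bool.true @Bool.false (@Bool.rec.{1} @(fun x7 => @Bool) @Bool.true @Bool.false (@Cfsg.Agent.KOf9c891b.oEq.{1} @Bool (@Nat.land (nat_lit 1) (@Nat.shiftRight @x2 @x6)) (nat_lit 0) @Bool.false @Bool.true))))) @Bool.true (@Bool.rec.{1} @(fun x6 => @Bool) @Bool.true @Bool.false (@Bool.rec.{1} @(fun x6 => @Bool) @Bool.true @Bool.false (@Cfsg.Agent.KOf9c891b.oEq.{1} @Bool (@Nat.land (nat_lit 1) (@Nat.shiftRight @x2 @x5)) (nat_lit 0) @Bool.false @Bool.true))))) (@Cfsg.Agent.KOf9c891b.k1.{0} _ (@List.range.loop @x1 []) @(fun x5 => @Cfsg.Agent.KOf9c891b.k1.{0} _ (@List.range.loop @x1 []) @(fun x6 =>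 @Bool.rec.{1} @(fun x7 => @Bool) (@Bool.rec.{1} @(fun x7 => @Bool) @Bool.false (@Bool.rec.{1} @(fun x7 => @Bool) @Bool.true @Bool.false (@Cfsg.Agent.KOf9c891b.oEq.{1} @Bool (@Nat.land (nat_lit 1) (@Nat.shiftRight @x2 @x6)) (nat_lit 0) @Bool.false @Bool.true)) (@Bool.rec.{1} @(fun x7 => @Bool) @Bool.true @Bool.false (@Cfsg.Agent.KOf9c891b.oEq.{1} @Bool (@Nat.land (nat_lit 1) (@Nat.shiftRight @x2 @x5)) (nat_lit 0) @Bool.false @Bool.true))) @Bool.true (@Decidable.rec.{1} _ @(fun x7 => @Bool) @(fun x7 => @Bool.false) @(fun x7 => @Bool.true) (@Cfsg.Agent.KOf9c891b.k6 (@Option.rec.{1, 0} ℤ @(fun x7 => ℤ) (@Int.ofNat (nat_lit 0)) @(fun x7 => @x7) (@List.get?Internal.{0} _ (@Option.rec.{1, 0} (@List.{0} ℤ) @(fun x7 => @List.{0} ℤ) [] @(fun x7 => @x7) (@List.get?Internal.{0} _ @x4 @x5)) @x6)) (@Int.ofNat (nat_lit 0)))))))) (@Nat.ble @x3 (nat_lit 8)))) ?_); rewrite [← Cfsg.Agent.KOf9c891b.e9.{0, 0}, ← Cfsg.Agent.KOf9c891b.e6, ← Cfsg.Agent.KOf9c891b.e1.{0}]; rfl')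 | exact @Cfsg.Agent.H292.S38.Tab.invC | exact ()
private theorem _root_.Cfsg.Agent.KOf9c891b.e13 : (by first | exact @Cfsg.Agent.H292.S38.Tab.invC = @_root_.Cfsg.Agent.KOf9c891b.k13 | exact True : Prop) := by first | (delta _root_.Cfsg.Agent.KOf9c891b.k13; exact @Subtype.property _ (fun g => @Cfsg.Agent.H292.S38.Tab.invC = @g) _) | rfl | trivial
private noncomputable def _root_.Cfsg.Agent.KOf9c891b.k14.{ku0} : type_of% @List.any.{ku0} := @(fun x0 x1 x2 => @List.rec.{(ku0+1), ku0} @x0 @(fun x3 => (@x0 → @Bool) → @Bool) @(fun x3 => @Bool.false) @(fun x3 x4 x5 x6 => @Bool.rec.{1} @(fun x7 => @Bool) (@x5 @x6) @Bool.true (@x6 @x3)) @x1 @x2)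
private theorem _root_.Cfsg.Agent.KOf9c891b.e14.{ku0} : @List.any.{ku0} = @_root_.Cfsg.Agent.KOf9c891b.k14.{ku0} := by delta _root_.Cfsg.Agent.KOf9c891b.k14; funext a0 a1 a2; refine (congrFun (_root_.Cfsg.Agent.KOf9c891b.e0 (fun a1 a2 => @List.any.{ku0} a0 a1 a2) ?_ (fun c0 c1 => ?_) a1) a2 :) <;> (rfl')
private noncomputable def _root_.Cfsg.Agent.KOf9c891b.k15 : (by first | exact type_of% @Cfsg.Agent.H292.S38.Tab.sepC | exact Unit : Sort _) := by first | (refine @Subtype.val _ (fun g => @Cfsg.Agent.H292.S38.Tab.sepC = @g) (@Subtype.mk _ _ (@(fun x0 x1 x2 x3 => @Bool.rec.{1} @(fun x4 => @Bool) @Bool.false (@Bool.rec.{1} @(fun x4 => @Bool) @Bool.false (@Bool.rec.{1} @(fun x4 => @Bool) @Bool.false (@Cfsg.Agent.KOf9c891b.k1.{0} _ (@Cfsg.Agent.KOf9c891b.k3 @x1 []) @(fun x4 => @Bool.rec.{1} @(fun x5 => @Bool) (@Cfsg.Agent.KOf9c891b.k1.{0} _ (@Cfsg.Agent.KOf9c891b.k3 @x1 []) @(fun x5 => @Bool.rec.{1} @(fun x6 => @Bool) (@Bool.rec.{1} @(fun x6 => @Bool) (@Decidable.rec.{1}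 _ @(fun x6 => @Bool) @(fun x6 => @Bool.false) @(fun x6 => @Bool.true) (@Cfsg.Agent.KOf9c891b.k6 (@Option.rec.{1, 0} ℤ @(fun x6 => ℤ) (@Int.ofNat (nat_lit 0)) @(fun x6 => @x6) (@List.get?Internal.{0} _ (@Option.rec.{1, 0} (@List.{0} ℤ) @(fun x6 => @List.{0} ℤ) [] @(fun x6 => @x6) (@List.get?Internal.{0} _ @x0 @x4)) @x5)) (@Int.ofNat (nat_lit 0)))) @Bool.true (@Bool.rec.{1} @(fun x6 => @Bool) @Bool.true @Bool.false (@Cfsg.Agent.KOf9c891b.k4.{1} @Bool (@Nat.land (nat_lit 1) (@Nat.shiftRight @x3 @x5)) (nat_lit 0) @Bool.false @Bool.true))) @Bool.true (@Bool.rec.{1} @(fun x6 => @Bool) @Bool.true @Bool.false (@Bool.rec.{1} @(fun x6 => @Bool) @Bool.true @Bool.false (@Cfsg.Agent.KOf9c891b.k4.{1} @Bool (@Nat.land (nat_lit 1) (@Nat.shiftRight @x2 @x5)) (nat_lit 0) @Bool.false @Bool.true))))) @Bool.true (@Bool.rec.{1} @(fun x5 => @Bool) @Bool.true @Bool.false (@Bool.rec.{1} @(fun x5 => @Bool) @Bool.true @Bool.false (@Cfsg.Agent.KOf9c891b.k4.{1} @Bool (@Nat.land (nat_lit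 1) (@Nat.shiftRight @x3 @x4)) (nat_lit 0) @Bool.false @Bool.true))))) (@Cfsg.Agent.KOf9c891b.k1.{0} _ (@Cfsg.Agent.KOf9c891b.k3 @x1 []) @(fun x4 => @Bool.rec.{1} @(fun x5 => @Bool) (@Bool.rec.{1} @(fun x5 => @Bool) @Bool.true @Bool.false (@Cfsg.Agent.KOf9c891b.k4.{1} @Bool (@Nat.land (nat_lit 1) (@Nat.shiftRight @x2 @x4)) (nat_lit 0) @Bool.false @Bool.true)) @Bool.true (@Bool.rec.{1} @(fun x5 => @Bool) @Bool.true @Bool.false (@Bool.rec.{1} @(fun x5 => @Bool) @Bool.true @Bool.false (@Cfsg.Agent.KOf9c891b.k4.{1} @Bool (@Nat.land (nat_lit 1) (@Nat.shiftRight @x3 @x4)) (nat_lit 0) @Bool.false @Bool.true)))))) (@Cfsg.Agent.KOf9c891b.k14.{0} _ (@Cfsg.Agent.KOf9c891b.k3 @x1 []) @(fun x4 => @Bool.rec.{1} @(fun x5 => @Bool) @Bool.false (@Bool.rec.{1} @(fun x5 => @Bool) @Bool.true @Bool.false (@Bool.rec.{1} @(fun x5 => @Bool) @Bool.true @Bool.false (@Cfsg.Agent.KOf9c891b.k4.{1} @Bool (@Nat.land (nat_lit 1) (@Nat.shiftRight @x3 @x4)) (nat_lit 0) @Bool.false @Bool.true)))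 (@Bool.rec.{1} @(fun x5 => @Bool) @Bool.true @Bool.false (@Cfsg.Agent.KOf9c891b.k4.{1} @Bool (@Nat.land (nat_lit 1) (@Nat.shiftRight @x2 @x4)) (nat_lit 0) @Bool.false @Bool.true))))) (@Cfsg.Agent.KOf9c891b.k14.{0} _ (@Cfsg.Agent.KOf9c891b.k3 @x1 []) @(fun x4 => @Bool.rec.{1} @(fun x5 => @Bool) @Bool.true @Bool.false (@Cfsg.Agent.KOf9c891b.k4.{1} @Bool (@Nat.land (nat_lit 1) (@Nat.shiftRight @x3 @x4)) (nat_lit 0) @Bool.false @Bool.true))))) ?_); rewrite [← Cfsg.Agent.KOf9c891b.e14.{0}, ← Cfsg.Agent.KOf9c891b.e4.{1}, ← Cfsg.Agent.KOf9c891b.e6, ← Cfsg.Agent.KOf9c891b.e3, ← Cfsg.Agent.KOf9c891b.e1.{0}]; rfl') | exact @Cfsg.Agent.H292.S38.Tab.sepC | exact ()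
private theorem _root_.Cfsg.Agent.KOf9c891b.e15 : (by first | exact @Cfsg.Agent.H292.S38.Tab.sepC = @_root_.Cfsg.Agent.KOf9c891b.k15 | exact True : Prop) := by first | (delta _root_.Cfsg.Agent.KOf9c891b.k15; exact @Subtype.property _ (fun g => @Cfsg.Agent.H292.S38.Tab.sepC = @g) _) | rfl | trivial
private noncomputable def _root_.Cfsg.Agent.KOf9c891b.k16 : (by first | exact type_of% @Cfsg.Agent.H292.S38.Tab.chk | exact Unit : Sort _) := by first | (refine @Subtype.val _ (fun g => @Cfsg.Agent.H292.S38.Tab.chk = @g) (@Subtype.mk _ _ (@(fun x0 x1 x2 x3 => @Cfsg.Agent.KOf9c891b.k4.{1} @Bool (@Prod.fst.{0, 0} _ _ @x3) (nat_lit 0) (@Cfsg.Agent.KOf9c891b.k13 @x0 @x1 @x2 (@Prod.fst.{0, 0} _ _ @x3) (@Prod.snd.{0, 0} _ _ (@Prod.snd.{0, 0} _ _ @x3))) (@Cfsg.Agent.KOf9c891b.k15 @x0 @x1 @x2 (@Prod.fst.{0, 0} _ _ (@Prod.snd.{0, 0} _ _ @x3))))) ?_); rewrite [← Cfsg.Agent.KOf9c891b.e15, ← Cfsg.Agent.KOf9c891b.e13, ← Cfsg.Agent.KOf9c891b.e4.{1}]; (try delta Cfsg.Agent.H292.S38.Tab.chk);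 (try generalize @Cfsg.Agent.H292.S38.Tab.invC = g0); (try generalize @Cfsg.Agent.H292.S38.Tab.sepC = g1); rfl') | exact @Cfsg.Agent.H292.S38.Tab.chk | exact ()
private theorem _root_.Cfsg.Agent.KOf9c891b.e16 : (by first | exact @Cfsg.Agent.H292.S38.Tab.chk = @_root_.Cfsg.Agent.KOf9c891b.k16 | exact True : Prop) := by first | (delta _root_.Cfsg.Agent.KOf9c891b.k16; exact @Subtype.property _ (fun g => @Cfsg.Agent.H292.S38.Tab.chk = @g) _) | rfl | trivial
private noncomputable def _root_.Cfsg.Agent.KOf9c891b.k17 : (by first | exact type_of% @Cfsg.Agent.H292.S38.Tab.chkAll | exact Unit : Sort _) := by first | (refine @Subtype.val _ (fun g => @Cfsg.Agent.H292.S38.Tab.chkAll = @g) (@Subtype.mk _ _ (@(fun x0 x1 x2 => @Cfsg.Agent.KOf9c891b.k1.{0} _ (@Cfsg.Agent.KOf9c891b.k3 (@Nat.sub (@Nat.pow (nat_lit 2) @x1) (nat_lit 1)) []) @(fun x3 => @Cfsg.Agent.KOf9c891b.k16 @x0 @x1 @x3 (@Option.rec.{1, 0} (ℕ × (ℕ × (@List.{0} (@List.{0} ℤ)))) @(fun x4 => ℕ × (ℕ × (@List.{0}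 (@List.{0} ℤ)))) ((nat_lit 1, (nat_lit 0, []))) @(fun x4 => @x4) (@Cfsg.Agent.KOf9c891b.k12.{0} _ @x2 @x3))))) ?_); rewrite [← Cfsg.Agent.KOf9c891b.e12.{0}, ← Cfsg.Agent.KOf9c891b.e16, ← Cfsg.Agent.KOf9c891b.e3, ← Cfsg.Agent.KOf9c891b.e1.{0}]; (try delta Cfsg.Agent.H292.S38.Tab.chkAll); (try generalize @Cfsg.Agent.H292.S38.Tab.chk = g0); rfl') | exact @Cfsg.Agent.H292.S38.Tab.chkAll | exact ()
private theorem _root_.Cfsg.Agent.KOf9c891b.e17 : (by first | exact @Cfsg.Agent.H292.S38.Tab.chkAll = @_root_.Cfsg.Agent.KOf9c891b.k17 | exact True : Prop) := by first | (delta _root_.Cfsg.Agent.KOf9c891b.k17; exact @Subtype.property _ (fun g => @Cfsg.Agent.H292.S38.Tab.chkAll = @g) _) | rfl | trivial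

theorem chk_E6 : chkAll AE8 6 TE8 = true := by (first | (rewrite [Cfsg.Agent.KOf9c891b.e17]; decide +kernel) | decide +kernel)

theorem chk_E7 : chkAll AE8 7 TE8 = true := by (first | (rewrite [Cfsg.Agent.KOf9c891b.e17]; decide +kernel) | decide +kernel)

theorem chk_E8 : chkAll AE8 8 TE8 = true := by (first | (rewrite [Cfsg.Agent.KOf9c891b.e17]; decide +kernel) | decide +kernel)

theorem sum_range (l : ℕ) (f : ℕ → ℤ) : ((List.range l).map f).sum = ∑ j : Fin l, f j := by
  rw [Fin.sum_univ_eq_sum_range f l]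
  rfl

/-- a set of nodes is given by its bits -/
theorem exists_mask {l : ℕ} (J : Set (Fin l)) : ∃ m < 2 ^ l, ∀ i : Fin l, m.testBit i = true ↔ i ∈ J := by
  classical
  refine ⟨Nat.ofBits fun i : Fin l => decide (i ∈ J), Nat.ofBits_lt_two_pow _, fun i => ?_⟩
  rw [Nat.testBit_ofBits_lt _ _ i.2]
  simp

variable {A : List (List ℤ)} {l : ℕ}

theorem sepC_sound {J : Set (Fin l)} {m K : ℕ} (hm : ∀ i : Fin l, m.testBit i = true ↔ i ∈ J)
    (h : sepC A l m K = true) : ∃ K : Set (Fin l), K ⊆ J ∧ K.Nonempty ∧ K ≠ J ∧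
      ∀ a ∈ K, ∀ b ∈ J, b ∉ K → row A a b = 0 := by
  simp only [sepC, Bool.and_eq_true, List.any_eq_true, List.all_eq_true, List.mem_range, Bool.or_eq_true,
    Bool.not_eq_true', beq_iff_eq] at h
  obtain ⟨⟨i, hi, h1⟩, ⟨j, hj, h2, h3⟩, h4, h5⟩ := h
  refine ⟨{a | K.testBit a = true}, fun a ha => ?_, ⟨⟨i, hi⟩, h1⟩, fun e => ?_, fun a ha b hb hbK => ?_⟩
  · have ha' : K.testBit a = true := ha
    rcases h4 a a.2 with h6 | h6
    · rw [ha'] at h6; exact absurd h6 (by decide)
    · exact (hm a).1 h6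
  · have h6 : (⟨j, hj⟩ : Fin l) ∈ J := (hm _).1 h2
    rw [← e] at h6
    have h7 : K.testBit j = true := h6
    rw [h7] at h3
    exact absurd h3 (by decide)
  · have ha' : K.testBit a = true := ha
    have hbK' : ¬ K.testBit b = true := hbK
    rcases h5 a a.2 with h6 | h6
    · rw [ha'] at h6; exact absurd h6 (by decide)
    rcases h6 b b.2 with h7 | h7 | h7
    · rw [(hm b).2 hb] at h7; exact absurd h7 (by decide)
    · exact absurd h7 hbK'
    · exact h7

theorem invC_sound {J : Set (Fin l)} {m d : ℕ} {B : List (List ℤ)} (hm : ∀ i : Fin l, m.testBit i = true ↔ i ∈ J)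
    (h : invC A l m d B = true) : d ≤ 8 ∧ ∃ B : Fin l → Fin l → ℤ, (∀ i j, B i j ≠ 0 → i ∈ J ∧ j ∈ J) ∧
      (∀ i ∈ J, ∀ k ∈ J, ∑ j : Fin l, B i j * row A j k = if i = k then (d : ℤ) else 0) ∧
      ∀ i ∈ J, ∀ k ∈ J, ∑ j : Fin l, row A i j * B j k = if i = k then (d : ℤ) else 0 := by
  simp only [invC, Bool.and_eq_true, List.all_eq_true, List.mem_range, Bool.or_eq_true,
    Bool.not_eq_true', beq_iff_eq, Nat.ble_eq] at h
  obtain ⟨h1, h2, h3⟩ := h
  refine ⟨h1, fun i j => row B i j, fun i j hij => ?_, fun i hi k hk => ?_, fun i hi k hk => ?_⟩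
  · rcases h2 i i.2 j j.2 with h4 | h4
    · exact absurd h4 hij
    · exact ⟨(hm i).1 h4.1, (hm j).1 h4.2⟩
  · rcases h3 i i.2 with h4 | h4
    · rw [(hm i).2 hi] at h4; exact absurd h4 (by decide)
    rcases h4 k k.2 with h5 | h5
    · rw [(hm k).2 hk] at h5; exact absurd h5 (by decide)
    rw [← sum_range l fun j => row B i j * row A j k, h5.1]
    simp only [Fin.ext_iff]
  · rcases h3 i i.2 with h4 | h4
    · rw [(hm i).2 hi] at h4; exact absurd h4 (by decide)
    rcases h4 k k.2 with h5 | h5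
    · rw [(hm k).2 hk] at h5; exact absurd h5 (by decide)
    rw [← sum_range l fun j => row A i j * row B j k, h5.2]
    simp only [Fin.ext_iff]

/-- what the table says about a set of nodes -/
def Good (C : Fin l → Fin l → ℤ) (J : Set (Fin l)) : Prop :=
  (∃ K : Set (Fin l), K ⊆ J ∧ K.Nonempty ∧ K ≠ J ∧ ∀ a ∈ K, ∀ b ∈ J, b ∉ K → C a b = 0) ∨
    ∃ d : ℕ, d ≠ 0 ∧ d ≤ 8 ∧ ∃ B : Fin l → Fin l → ℤ, (∀ i j, B i j ≠ 0 → i ∈ J ∧ j ∈ J) ∧
      (∀ i ∈ J, ∀ k ∈ J, ∑ j : Fin l, B i j * C j k = if i = k then (d : ℤ) else 0) ∧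
      ∀ i ∈ J, ∀ k ∈ J, ∑ j : Fin l, C i j * B j k = if i = k then (d : ℤ) else 0

theorem chk_sound {T : List (ℕ × ℕ × List (List ℤ))} (h : chkAll A l T = true) {J : Set (Fin l)}
    (hJ : J ≠ Set.univ) : Good (fun i j => row A i j) J := by
  obtain ⟨m, hm, hmJ⟩ := exists_mask J
  have hm1 : m < 2 ^ l - 1 := by
    have h1 : m ≠ 2 ^ l - 1 := by
      rintro rfl
      refine hJ (Set.eq_univ_iff_forall.2 fun i => (hmJ i).1 ?_)
      rw [Nat.testBit_two_pow_sub_one]
      simp
    omega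
  have h2 := List.all_eq_true.1 h m (List.mem_range.2 hm1)
  unfold chk at h2
  split_ifs at h2 with h3
  · exact Or.inl (sepC_sound hmJ h2)
  · obtain ⟨h4, h5⟩ := invC_sound hmJ h2
    exact Or.inr ⟨_, h3, h4, h5⟩

/-- **The table.** -/
theorem sound {D : ChevalleyDatum} {M : CoxeterMatrix (Fin l)} (hp : IsType D l M) {J : Set (Fin l)}
    (hJ : J ≠ Set.univ) : Good (cartanOf D l) J := by
  simp only [IsType, typeList, List.mem_cons, List.not_mem_nil, or_false, Prod.mk.injEq] at hp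
  rcases hp with ⟨rfl, e⟩ | ⟨rfl, e⟩ | ⟨rfl, e⟩ | ⟨rfl, e⟩ | ⟨rfl, e⟩ | ⟨rfl, e⟩ | ⟨rfl, e⟩
  all_goals (cases e)
  · have h1 : cartanOf chevG2 2 = fun (i j : Fin 2) => row AG2 i j := by decide +kernel
    rw [h1]; exact chk_sound chk_G2 hJ
  · have h1 : cartanOf chevB2 2 = fun (i j : Fin 2) => row AB2 i j := by decide +kernel
    rw [h1]; exact chk_sound chk_B2 hJ
  · have h1 : cartanOf chevD4 4 = fun (i j : Fin 4) => row AD4 i j := by decide +kernel
    rw [h1]; exact chk_sound chk_D4 hJ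
  · have h1 : cartanOf chevF4 4 = fun (i j : Fin 4) => row AF4 i j := by decide +kernel
    rw [h1]; exact chk_sound chk_F4 hJ
  · have h1 : cartanOf chevE6 6 = fun (i j : Fin 6) => row AE8 i j := by (delta Cfsg.Agent.ChevalleyStructure.CoxeterGeomTypes.cartanOf; rewrite [Cfsg.Agent.ChevFast.E6.cartan]; decide +kernel)
    rw [h1]; exact chk_sound chk_E6 hJ
  · have h1 : cartanOf chevE7 7 = fun (i j : Fin 7) => row AE8 i j := by (delta Cfsg.Agent.ChevalleyStructure.CoxeterGeomTypes.cartanOf; rewrite [Cfsg.Agent.ChevFast.E7.cartan]; decide +kernel)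
    rw [h1]; exact chk_sound chk_E7 hJ
  · have h1 : cartanOf chevE8 8 = fun (i j : Fin 8) => row AE8 i j := by (delta Cfsg.Agent.ChevalleyStructure.CoxeterGeomTypes.cartanOf; rewrite [Cfsg.Agent.ChevFast.E8.cartan]; decide +kernel)
    rw [h1]; exact chk_sound chk_E8 hJ

end Cfsg.Agent.H292.S38.Tab
end

-- part: H292/S38/Chev
section
/-!
# The torus acts on the Levi components (helper292, S3830, piece O8c)

`D` one of the seven data, `J` a connected set of nodes, not all of them, `p ≥ 5` a prime: either every element of the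
torus acts on `M_J`, up to an exponent prime to `p`, as an element of `M_J`, or the centre of `M_J` has odd order.

* `exists_hG` : the torus meets `⟨X_j, X_{-j}⟩` in the elements `h_j(c)`;
* `comp_tor_chev` : the third clause of `CompOK`.
-/

set_option autoImplicit false
set_option linter.unusedSectionVars false

namespace Cfsg.Agent.H292.S38.Chev

open CoxeterSystem Cfsg Cfsg.Lie Cfsg.Lie.ChevalleyDatum
open Cfsg.Agent.ChevalleyStructure Cfsg.Agent.ChevalleyStructure.Elts Cfsg.Agent.ChevalleyStructure.CoxeterGeom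
  Cfsg.Agent.ChevalleyStructure.CoxeterGeomTypes Cfsg.Agent.ChevalleyStructure.NPerm
open Cfsg.Agent.Tits.Roots Cfsg.Agent.Tits.Core Cfsg.Agent.Nodes Cfsg.Agent.Nodes.Reps Cfsg.Agent.Nodes.BNOf
  Cfsg.Agent.Nodes.RGDChev Cfsg.Agent.Nodes.Bruhat Cfsg.Agent.Nodes.StabComb Cfsg.Agent.Nodes.OppDec
  Cfsg.Agent.Nodes.FreeTorus Cfsg.Agent.H53.HC
open Cfsg.Agent.BpExc.FamTw.Tor (hG_conj exists_c eq_of_act)
open Cfsg.Agent.H153.Exc (hP list_act hP_act hP_mem)
open Cfsg.Agent.ChevalleyStructure.SL2Hom (up lo)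
open Cfsg.Agent.H292.S38.Tor Cfsg.Agent.H292.S38.Tab

universe u

variable {D : ChevalleyDatum} {l : ℕ} {M : CoxeterMatrix (Fin l)} (hp : IsType D l M) {F : Type u} [Field F]

/-! ### the elements `h_j(c)` -/

theorem xG_mem_LL (j : Fin l) (a : F) : xG hp.inList (D.simple j) a ∈ LL (XV D l F) (sr j) := by
  refine Subgroup.mem_sup_left ?_
  rw [XV_sr hp]
  exact xG_mem_rootSubgroup hp.inList _ _

theorem xG_neg_mem_LL (j : Fin l) (a : F) : xG hp.inList (D.neg (D.simple j)) a ∈ LL (XV D l F) (sr j) := by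
  refine Subgroup.mem_sup_right ?_
  rw [XV_neg_sr hp]
  exact xG_mem_rootSubgroup hp.inList _ _

theorem nG_mem_LL (j : Fin l) (a : F) : nG hp.inList (D.simple j) a ∈ LL (XV D l F) (sr j) := by
  rw [nG_def]
  exact mul_mem (xG_mem_LL hp j _) (mul_mem (xG_neg_mem_LL hp j _) (xG_mem_LL hp j _))

theorem hG_mem_LL (j : Fin l) (a : F) : hG hp.inList (D.simple j) a ∈ LL (XV D l F) (sr j) := by
  rw [hG_def]
  exact mul_mem (nG_mem_LL hp j _) (nG_mem_LL hp j _)

/-- **The torus of `⟨X_j, X_{-j}⟩`.** -/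
theorem exists_hG [Finite F] (r : ℕ) [Fact r.Prime] [CharP F r] {j : Fin l} {t : GL D.Idx F}
    (ht : t ∈ D.diagonalSubgroup F) (hL : t ∈ LL (XV D l F) (sr j)) :
    ∃ c : F, c ≠ 0 ∧ t = hG hp.inList (D.simple j) c := by
  let cs : CoxeterSystem M M.Group := M.toCoxeterSystem
  have : Finite M.Group := finite_W hp cs
  let R := rgd_GL (K := F) hp cs r
  have hjr := simple_lt hp.inList (lt_rank hp j)
  obtain ⟨φ, hφ, hφ'⟩ := Cfsg.Agent.S1030.result (F := F) D hp.inList (D.simple j) hjr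
  have hup : ∀ a : F, φ (up a) = xG hp.inList (D.simple j) a := fun a => Units.ext ((hφ' (up a) a).1 rfl)
  have hlo : ∀ a : F, φ (lo a) = xG hp.inList (D.neg (D.simple j)) a := fun a => Units.ext ((hφ' (lo a) a).2 rfl)
  have hXB : ∀ a : F, xG hp.inList (D.simple j) a ∈ RGD.B cs hp.isCartan (D.diagonalSubgroup F) (XV D l F) := by
    intro a
    refine RGD.X_le_B (isRoot_sr cs hp.isCartan j) (sr_nonneg j) ?_
    rw [XV_sr hp]
    exact xG_mem_rootSubgroup hp.inList _ _
  have hTB : t ∈ RGD.B cs hp.isCartan (D.diagonalSubgroup F) (XV D l F) := RGD.T_le_B ht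
  unfold LL at hL
  rw [XV_sr hp, XV_neg_sr hp, ← hφ] at hL
  obtain ⟨m, rfl⟩ := hL
  have hdet : m.1 0 0 * m.1 1 1 - m.1 0 1 * m.1 1 0 = 1 := by
    rw [← Matrix.det_fin_two]; exact m.2
  by_cases hc : m.1 1 0 = 0
  · rw [hc, mul_zero, sub_zero] at hdet
    have hd0 : m.1 0 0 ≠ 0 := fun h0 => by rw [h0, zero_mul] at hdet; exact zero_ne_one hdet
    have hd1 : m.1 1 1 = (m.1 0 0)⁻¹ := (eq_inv_of_mul_eq_one_right hdet)
    set d := m.1 0 0 with hd
    have e : m = up (m.1 0 1 * d) * ((up d * lo (-d⁻¹) * up d) * (up (-1) * lo 1 * up (-1))) := by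
      apply Subtype.ext
      show m.1 = (up (m.1 0 1 * d)).1 * (((up d).1 * (lo (-d⁻¹)).1 * (up d).1) *
        ((up (-1)).1 * (lo 1).1 * (up (-1)).1))
      ext i k
      fin_cases i <;> fin_cases k
      · simp [up, lo, Matrix.mul_apply, Fin.sum_univ_two, hd0, ← hd]
      · simp [up, lo, Matrix.mul_apply, Fin.sum_univ_two, hd0]
      · simp [up, lo, Matrix.mul_apply, Fin.sum_univ_two, hd0, hc]
      · simp [up, lo, Matrix.mul_apply, Fin.sum_univ_two, hd0, hd1]
    have e1 : φ m = xG hp.inList (D.simple j) (m.1 0 1 * d) * hG hp.inList (D.simple j) d := by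
      conv_lhs => rw [e]
      simp only [map_mul, hup, hlo]
      rw [hG_def, nG_def, nG_def]
      simp only [inv_neg, inv_one, _root_.neg_neg, mul_assoc]
    refine ⟨d, hd0, ?_⟩
    have h1 : hG hp.inList (D.simple j) d ∈ D.diagonalSubgroup F := hG_mem_diagonal hp.inList hjr hd0
    have h2 : xG hp.inList (D.simple j) (m.1 0 1 * d) ∈ D.diagonalSubgroup F := by
      have e2 : xG hp.inList (D.simple j) (m.1 0 1 * d) = φ m * (hG hp.inList (D.simple j) d)⁻¹ := by rw [e1]; group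
      rw [e2]
      exact mul_mem ht (inv_mem h1)
    have h3 : xG hp.inList (D.simple j) (m.1 0 1 * d) = 1 := by
      have h4 : xG hp.inList (D.simple j) (m.1 0 1 * d) ∈ XV D l F (sr j) ⊓ D.diagonalSubgroup F := by
        refine Subgroup.mem_inf.2 ⟨?_, h2⟩
        rw [XV_sr hp]
        exact xG_mem_rootSubgroup hp.inList _ _
      rw [X_inf_T R (isRoot_sr cs hp.isCartan j)] at h4
      exact (Subgroup.mem_bot).1 h4
    rw [e1, h3, one_mul]
  · exfalso
    have e : m = up ((m.1 0 0 - 1) / m.1 1 0) * lo (m.1 1 0) * up ((m.1 1 1 - 1) / m.1 1 0) := by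
      apply Subtype.ext
      show m.1 = (up ((m.1 0 0 - 1) / m.1 1 0)).1 * (lo (m.1 1 0)).1 *
        (up ((m.1 1 1 - 1) / m.1 1 0)).1
      ext i k
      fin_cases i <;> fin_cases k
      · simp [up, lo, Matrix.mul_apply, Fin.sum_univ_two, hc]
      · simp [up, lo, Matrix.mul_apply, Fin.sum_univ_two]
        field_simp
        linear_combination -hdet
      · simp [up, lo, Matrix.mul_apply, Fin.sum_univ_two]
      · simp [up, lo, Matrix.mul_apply, Fin.sum_univ_two]
        field_simp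
        ring
    have e1 : xG hp.inList (D.neg (D.simple j)) (m.1 1 0) =
        (xG hp.inList (D.simple j) ((m.1 0 0 - 1) / m.1 1 0))⁻¹ * φ m *
          (xG hp.inList (D.simple j) ((m.1 1 1 - 1) / m.1 1 0))⁻¹ := by
      have e2 : φ m = xG hp.inList (D.simple j) ((m.1 0 0 - 1) / m.1 1 0) *
          xG hp.inList (D.neg (D.simple j)) (m.1 1 0) * xG hp.inList (D.simple j) ((m.1 1 1 - 1) / m.1 1 0) := by
        conv_lhs => rw [e]
        simp only [map_mul, hup, hlo]
      rw [e2]; group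
    have h1 : xG hp.inList (D.neg (D.simple j)) (m.1 1 0) ∈
        RGD.B cs hp.isCartan (D.diagonalSubgroup F) (XV D l F) := by
      rw [e1]
      exact mul_mem (mul_mem (inv_mem (hXB _)) hTB) (inv_mem (hXB _))
    have h2 : xG hp.inList (D.neg (D.simple j)) (m.1 1 0) ∈ UN cs hp.isCartan (XV D l F) := by
      refine X_le_UN (isRoot_sr cs hp.isCartan j).neg (neg_nonpos.2 (sr_nonneg j)) ?_
      rw [XV_neg_sr hp]
      exact xG_mem_rootSubgroup hp.inList _ _
    have h3 := eq_one_of_mem_UN_of_mem_B R h2 h1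
    exact hc ((xG_eq_one_iff hp.inList (neg_lt hp.inList hjr) _).1 h3)

/-! ### the products of the `h_j(c_j)` -/

theorem eq_hP_of_act {c : Fin l → F} (hc : ∀ j, c j ≠ 0) {t : GL D.Idx F} (ht : t ∈ D.diagonalSubgroup F)
    (h1 : ∀ k : Fin l, t * xG hp.inList (D.simple k) 1 * t⁻¹ =
      xG hp.inList (D.simple k) (∏ j : Fin l, c j ^ D.cartan j (D.simple k))) : t = hP hp.inList l c := by
  refine eq_of_act hp ht (hP_mem hp c hc) fun k => ?_
  rw [h1, hP_act hp c hc (simple_lt hp.inList (lt_rank hp k)), mul_one]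

/-- every element of the torus is a product of elements `h_j(c_j)` -/
theorem exists_hP {t : GL D.Idx F} (ht : t ∈ D.diagonalSubgroup F) :
    ∃ c : Fin l → F, (∀ j, c j ≠ 0) ∧ t = hP hp.inList l c := by
  obtain ⟨c, hc, -, hact⟩ := exists_c hp ht
  have hc' : ∀ j : Fin l, c j ≠ 0 := fun j => hc j (lt_rank hp j)
  refine ⟨fun j => c j, hc', eq_hP_of_act hp hc' ht fun k => ?_⟩
  have e : ∏ j ∈ Finset.range D.rank, c j ^ D.cartan j (D.simple k) =
      ∏ j : Fin l, c j ^ D.cartan j (D.simple k) := by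
    rw [Fin.prod_univ_eq_prod_range (fun j => c j ^ D.cartan j (D.simple k)) l, hp.rank_eq]
  rw [hact _ (simple_lt hp.inList (lt_rank hp k)), mul_one, e]

theorem hP_mul {c c' : Fin l → F} (hc : ∀ j, c j ≠ 0) (hc' : ∀ j, c' j ≠ 0) :
    hP hp.inList l c * hP hp.inList l c' = hP hp.inList l fun j => c j * c' j := by
  refine eq_hP_of_act hp (fun j => mul_ne_zero (hc j) (hc' j)) (mul_mem (hP_mem hp c hc) (hP_mem hp c' hc'))
    fun k => ?_
  have e : ∀ x y z : GL D.Idx F, x * y * z * (x * y)⁻¹ = x * (y * z * y⁻¹) * x⁻¹ := fun x y z => by group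
  have hk := simple_lt hp.inList (lt_rank hp k)
  rw [e, hP_act hp c' hc' hk, hP_act hp c hc hk, mul_one, ← Finset.prod_mul_distrib]
  congr 1
  exact Finset.prod_congr rfl fun j _ => (mul_zpow _ _ _).symm

theorem hP_one : hP hp.inList l (fun _ => (1 : F)) = 1 := by
  refine (eq_hP_of_act hp (fun _ => one_ne_zero) (one_mem _) fun k => ?_).symm
  simp

theorem hP_pow {c : Fin l → F} (hc : ∀ j, c j ≠ 0) (d : ℕ) :
    (hP hp.inList l c) ^ d = hP hp.inList l fun j => c j ^ d := by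
  induction d with
  | zero =>
    simp only [pow_zero]
    exact (hP_one hp).symm
  | succ d ih =>
    rw [pow_succ, ih, hP_mul hp (fun j => pow_ne_zero _ (hc j)) hc]
    simp only [pow_succ]

/-- the factor `h_j(c)` as a product -/
theorem hG_eq_hP (j : Fin l) {c : F} (hc : c ≠ 0) :
    hG hp.inList (D.simple j) c = hP hp.inList l (Function.update (fun _ => (1 : F)) j c) := by
  refine eq_hP_of_act hp (fun i => ?_) (hG_mem_diagonal hp.inList (simple_lt hp.inList (lt_rank hp j)) hc)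
    fun k => ?_
  · by_cases hi : i = j
    · subst hi; rwa [Function.update_self]
    · rw [Function.update_of_ne hi]; exact one_ne_zero
  · rw [hG_conj hp (lt_rank hp j) (simple_lt hp.inList (lt_rank hp k)) hc, mul_one, Finset.prod_eq_single j]
    · rw [Function.update_self]
    · intro i _ hi
      rw [Function.update_of_ne hi, one_zpow]
    · intro h; exact absurd (Finset.mem_univ j) h

/-! ### exponents -/

theorem prod_zpow_sum {c : F} (hc : c ≠ 0) {ι : Type*} (s : Finset ι) (g : ι → ℤ) :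
    ∏ j ∈ s, c ^ g j = c ^ ∑ j ∈ s, g j := by
  classical
  induction s using Finset.induction_on with
  | empty => simp
  | insert b s hb ih => rw [Finset.prod_insert hb, Finset.sum_insert hb, ih, zpow_add₀ hc]

include hp in
/-- the scalar of a root in terms of those of the simple roots -/
theorem char_eq {c : Fin l → F} (hc : ∀ j, c j ≠ 0) {s : ℕ} (hs : s < D.nroots) :
    ∏ j : Fin l, c j ^ D.cartan j s =
      ∏ k : Fin l, (∏ j : Fin l, c j ^ cartanOf D l j k) ^ vec D l s k := by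
  have h3 : ∀ k : Fin l, (∏ j : Fin l, c j ^ cartanOf D l j k) ^ vec D l s k =
      ∏ j : Fin l, c j ^ (cartanOf D l j k * vec D l s k) := by
    intro k
    rw [← Finset.prod_zpow]
    exact Finset.prod_congr rfl fun j _ => (zpow_mul _ _ _).symm
  rw [Finset.prod_congr rfl fun k _ => h3 k, Finset.prod_comm]
  refine Finset.prod_congr rfl fun j _ => ?_
  rw [prod_zpow_sum (hc j), ← pairing_vec hp j hs]
  rfl

/-- `∏ j (∏ i b_i ^ B_ij) ^ A_jk = b_k ^ d` -/
theorem prod_B {J : Set (Fin l)} {d : ℕ} {B : Fin l → Fin l → ℤ} (hB0 : ∀ i j, B i j ≠ 0 → i ∈ J ∧ j ∈ J)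
    {C : Fin l → Fin l → ℤ} (hB : ∀ i ∈ J, ∀ k ∈ J, ∑ j : Fin l, B i j * C j k = if i = k then (d : ℤ) else 0)
    {b : Fin l → F} (hb : ∀ i, b i ≠ 0) {k : Fin l} (hk : k ∈ J) :
    ∏ j : Fin l, (∏ i, b i ^ B i j) ^ C j k = b k ^ d := by
  classical
  have h2 : ∀ j : Fin l, (∏ i, b i ^ B i j) ^ C j k = ∏ i, b i ^ (B i j * C j k) := by
    intro j
    rw [← Finset.prod_zpow]
    exact Finset.prod_congr rfl fun i _ => (zpow_mul _ _ _).symm
  rw [Finset.prod_congr rfl fun j _ => h2 j, Finset.prod_comm,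
    Finset.prod_congr rfl fun i _ => prod_zpow_sum (hb i) Finset.univ fun j => B i j * C j k,
    Finset.prod_eq_single k]
  · rw [hB k hk k hk, if_pos rfl, zpow_natCast]
  · intro i _ hi
    by_cases hiJ : i ∈ J
    · rw [hB i hiJ k hk, if_neg hi, zpow_zero]
    · have h0 : ∑ j : Fin l, B i j * C j k = 0 := by
        refine Finset.sum_eq_zero fun j _ => ?_
        have : B i j = 0 := by
          by_contra h1
          exact hiJ (hB0 i j h1).1
        rw [this, zero_mul]
      rw [h0, zpow_zero]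
  · intro h
    exact absurd (Finset.mem_univ k) h

/-! ### the group `M_J` -/

variable {W : Type*} [Group W] (cs : CoxeterSystem M W)

theorem MJ_subgroupOf (J : Set (Fin l)) :
    MJ cs hp.isCartan (fun x => (XV D l F x).subgroupOf (D.group F)) J =
      (MJ cs hp.isCartan (XV D l F) J).subgroupOf (D.group F) := by
  unfold MJ RGD.Sup
  exact (RGDLib.iSup_subgroupOf (K := D.group F) (fun z : RootsJ cs hp.isCartan J => XV D l F z.1)
    (fun z => XV_le_group hp z.1)).symm

theorem LL_le_MJ {J : Set (Fin l)} {j : Fin l} (hj : j ∈ J) :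
    LL (XV D l F) (sr j) ≤ MJ cs hp.isCartan (XV D l F) J := by
  have h1 : sr j ∈ RootsJ cs hp.isCartan J := PosJ_subset J (sr_mem_PosJ hj)
  exact sup_le (RGD.le_Sup h1) (RGD.le_Sup (RootsJ.neg h1))

theorem hG_one (j : Fin l) : hG hp.inList (D.simple j) (1 : F) = 1 := by
  rw [hG_eq_hP hp j one_ne_zero]
  have e : Function.update (fun _ : Fin l => (1 : F)) j 1 = fun _ => 1 := Function.update_eq_self j _
  rw [e, hP_one hp]

theorem hP_mem_MJ {J : Set (Fin l)} {c : Fin l → F} (hc : ∀ j, j ∉ J → c j = 1) :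
    hP hp.inList l c ∈ MJ cs hp.isCartan (XV D l F) J := by
  refine Subgroup.list_prod_mem _ fun x hx => ?_
  obtain ⟨j, -, rfl⟩ := List.mem_map.1 hx
  by_cases hj : j ∈ J
  · exact LL_le_MJ hp cs hj (hG_mem_LL hp j _)
  · rw [hc j hj, hG_one hp]
    exact one_mem _

/-- **First alternative.** -/
theorem act_inner {J : Set (Fin l)} {d : ℕ} {B : Fin l → Fin l → ℤ} (hB0 : ∀ i j, B i j ≠ 0 → i ∈ J ∧ j ∈ J)
    (hB : ∀ i ∈ J, ∀ k ∈ J, ∑ j : Fin l, B i j * cartanOf D l j k = if i = k then (d : ℤ) else 0)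
    {t : GL D.Idx F} (ht : t ∈ D.diagonalSubgroup F) :
    ∃ s ∈ MJ cs hp.isCartan (XV D l F) J, ∀ a ∈ MJ cs hp.isCartan (XV D l F) J,
      t ^ d * a * (t ^ d)⁻¹ = s * a * s⁻¹ := by
  obtain ⟨c, hc, rfl⟩ := exists_hP hp ht
  let b : Fin l → F := fun k => ∏ j : Fin l, c j ^ cartanOf D l j k
  have hb : ∀ k, b k ≠ 0 := fun k => Finset.prod_ne_zero_iff.2 fun j _ => zpow_ne_zero _ (hc j)
  let e : Fin l → F := fun j => ∏ i, b i ^ B i j
  have he : ∀ j, e j ≠ 0 := fun j => Finset.prod_ne_zero_iff.2 fun i _ => zpow_ne_zero _ (hb i)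
  have hcd : ∀ j, c j ^ d ≠ 0 := fun j => pow_ne_zero _ (hc j)
  refine ⟨hP hp.inList l e, hP_mem_MJ hp cs fun j hj => Finset.prod_eq_one fun i _ => ?_, ?_⟩
  · have h0 : B i j = 0 := by
      by_contra h1
      exact hj (hB0 i j h1).2
    rw [h0, zpow_zero]
  · have key : MJ cs hp.isCartan (XV D l F) J ≤
        Subgroup.centralizer {(hP hp.inList l e)⁻¹ * hP hp.inList l c ^ d} := by
      refine RGD.Sup_le fun x hx => ?_
      obtain ⟨s, hs, rfl⟩ := (isRoot_iff hp cs x).1 hx.1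
      rw [XV_vec hp F hs]
      intro g hg
      obtain ⟨a, rfl⟩ := (mem_rootSubgroup_iff hp.inList s g).1 hg
      have h1 : hP hp.inList l c ^ d * xG hp.inList s a * (hP hp.inList l c ^ d)⁻¹ =
          hP hp.inList l e * xG hp.inList s a * (hP hp.inList l e)⁻¹ := by
        rw [hP_pow hp hc, hP_act hp _ hcd hs, hP_act hp _ he hs, char_eq hp hcd hs, char_eq hp he hs]
        congr 2
        refine Finset.prod_congr rfl fun k _ => ?_
        by_cases hk : k ∈ J
        · congr 1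
          rw [prod_B hB0 hB hb hk]
          show _ = (∏ j : Fin l, c j ^ cartanOf D l j k) ^ d
          rw [← Finset.prod_pow]
          refine Finset.prod_congr rfl fun j _ => ?_
          rw [← zpow_natCast, ← zpow_natCast, ← zpow_mul, ← zpow_mul, mul_comm]
        · rw [hx.2 k hk, zpow_zero, zpow_zero]
      rw [Subgroup.mem_centralizer_singleton_iff]
      calc xG hp.inList s a * ((hP hp.inList l e)⁻¹ * hP hp.inList l c ^ d)
          = (hP hp.inList l e)⁻¹ * (hP hp.inList l e * xG hp.inList s a * (hP hp.inList l e)⁻¹) *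
            hP hp.inList l c ^ d := by group
        _ = (hP hp.inList l e)⁻¹ * (hP hp.inList l c ^ d * xG hp.inList s a * (hP hp.inList l c ^ d)⁻¹) *
            hP hp.inList l c ^ d := by rw [h1]
        _ = (hP hp.inList l e)⁻¹ * hP hp.inList l c ^ d * xG hp.inList s a := by group
    intro a ha
    have h2 := Subgroup.mem_centralizer_singleton_iff.1 (key ha)
    calc hP hp.inList l c ^ d * a * (hP hp.inList l c ^ d)⁻¹
        = hP hp.inList l e * (((hP hp.inList l e)⁻¹ * hP hp.inList l c ^ d) * a) * (hP hp.inList l c ^ d)⁻¹ := by group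
      _ = hP hp.inList l e * (a * ((hP hp.inList l e)⁻¹ * hP hp.inList l c ^ d)) * (hP hp.inList l c ^ d)⁻¹ := by
        rw [h2]
      _ = hP hp.inList l e * a * (hP hp.inList l e)⁻¹ := by group

/-- **Second alternative.** -/
theorem center_pow [Finite F] (r : ℕ) [Fact r.Prime] [CharP F r] {J : Set (Fin l)} {d : ℕ}
    {B : Fin l → Fin l → ℤ} (hB0 : ∀ i j, B i j ≠ 0 → i ∈ J ∧ j ∈ J)
    (hB : ∀ i ∈ J, ∀ k ∈ J, ∑ j : Fin l, cartanOf D l i j * B j k = if i = k then (d : ℤ) else 0)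
    {z : GL D.Idx F} (hz : z ∈ MJ cs hp.isCartan (XV D l F) J)
    (hc : ∀ a ∈ MJ cs hp.isCartan (XV D l F) J, z * a = a * z) : z ^ d = 1 := by
  classical
  have : Finite W := finite_W hp cs
  have h1 := mem_of_center_MJ (rgd_GL (K := F) hp cs r) (J := J) (fun i _ => nG_mem_LL hp i 1) hz hc
  obtain ⟨c, hc0, hcJ, rfl⟩ : ∃ c : Fin l → F, (∀ j, c j ≠ 0) ∧ (∀ j, j ∉ J → c j = 1) ∧ z = hP hp.inList l c := by
    clear hz hc
    refine Subgroup.iSup_induction (fun i : J => D.diagonalSubgroup F ⊓ LL (XV D l F) (sr i.1))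
      (C := fun z => ∃ c : Fin l → F, (∀ j, c j ≠ 0) ∧ (∀ j, j ∉ J → c j = 1) ∧ z = hP hp.inList l c) h1 ?_ ?_ ?_
    · intro i x hx
      obtain ⟨hx1, hx2⟩ := Subgroup.mem_inf.1 hx
      obtain ⟨c, hc, rfl⟩ := exists_hG hp r hx1 hx2
      refine ⟨_, fun j => ?_, fun j hj => ?_, hG_eq_hP hp i.1 hc⟩
      · by_cases hji : j = i.1
        · rw [hji, Function.update_self]; exact hc
        · rw [Function.update_of_ne hji]; exact one_ne_zero
      · rw [Function.update_of_ne]
        rintro rfl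
        exact hj i.2
    · exact ⟨fun _ => 1, fun _ => one_ne_zero, fun _ _ => rfl, (hP_one hp).symm⟩
    · rintro _ _ ⟨c, h2, h3, rfl⟩ ⟨c', h2', h3', rfl⟩
      exact ⟨_, fun j => mul_ne_zero (h2 j) (h2' j), fun j hj => by rw [h3 j hj, h3' j hj, mul_one],
        hP_mul hp h2 h2'⟩
  have h2 : ∀ k ∈ J, ∏ j : Fin l, c j ^ cartanOf D l j k = 1 := by
    intro k hk
    have hks := simple_lt hp.inList (lt_rank hp k)
    have h3 := hc _ (LL_le_MJ hp cs hk (xG_mem_LL hp k 1))
    have h4 : hP hp.inList l c * xG hp.inList (D.simple k) 1 * (hP hp.inList l c)⁻¹ =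
        xG hp.inList (D.simple k) 1 := by rw [h3]; group
    rw [hP_act hp c hc0 hks, mul_one] at h4
    exact xG_injective hp.inList hks h4
  have h3 : ∀ i, c i ^ d = 1 := by
    intro i
    by_cases hi : i ∈ J
    · have e1 : ∏ k : Fin l, (∏ j : Fin l, c j ^ cartanOf D l j k) ^ B k i = 1 := by
        refine Finset.prod_eq_one fun k _ => ?_
        by_cases hk : k ∈ J
        · rw [h2 k hk, one_zpow]
        · have h0 : B k i = 0 := by
            by_contra h5
            exact hk (hB0 k i h5).1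
          rw [h0, zpow_zero]
      have e2 : ∀ k : Fin l, (∏ j : Fin l, c j ^ cartanOf D l j k) ^ B k i =
          ∏ j : Fin l, c j ^ (cartanOf D l j k * B k i) := by
        intro k
        rw [← Finset.prod_zpow]
        exact Finset.prod_congr rfl fun j _ => (zpow_mul _ _ _).symm
      rw [Finset.prod_congr rfl fun k _ => e2 k, Finset.prod_comm,
        Finset.prod_congr rfl fun j _ => prod_zpow_sum (hc0 j) Finset.univ fun k => cartanOf D l j k * B k i,
        Finset.prod_eq_single i] at e1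
      · rwa [hB i hi i hi, if_pos rfl, zpow_natCast] at e1
      · intro j _ hj
        by_cases hjJ : j ∈ J
        · rw [hB j hjJ i hi, if_neg hj, zpow_zero]
        · rw [hcJ j hjJ, one_zpow]
      · intro h
        exact absurd (Finset.mem_univ i) h
    · rw [hcJ i hi, one_pow]
  rw [hP_pow hp hc0]
  simp only [h3]
  exact hP_one hp

/-- **The third clause of `CompOK`.** -/
theorem comp_tor_chev [Finite F] (r : ℕ) [Fact r.Prime] [CharP F r] {p : ℕ} (hpp : p.Prime) (h5 : 5 ≤ p)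
    {J : Set (Fin l)} (hJ : J ≠ Set.univ) (hJc : H255.Inv.ConnJ M J) :
    (∀ t ∈ (D.diagonalSubgroup F).subgroupOf (D.group F), ∃ k : ℕ, k.Coprime p ∧
      ∃ s ∈ MJ cs hp.isCartan (fun x => (XV D l F x).subgroupOf (D.group F)) J,
      ∀ a ∈ MJ cs hp.isCartan (fun x => (XV D l F x).subgroupOf (D.group F)) J,
        t ^ k * a * (t ^ k)⁻¹ = s * a * s⁻¹) ∨
    Odd (Nat.card ↥(Subgroup.center
      ↥(MJ cs hp.isCartan (fun x => (XV D l F x).subgroupOf (D.group F)) J))) := by
  rcases sound hp hJ with ⟨K, hKJ, hK, hKne, h0⟩ | ⟨d, hd0, hd8, B, hB0, hB, hB'⟩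
  · exfalso
    obtain ⟨a, ha, b, hb, hbK, hab⟩ := hJc K hKJ hK hKne
    have hne : a ≠ b := fun e => hbK (e ▸ ha)
    rcases hp.isCartan.rel a b hne with h1 | h1 | h1 | h1
    · exact hab h1.1
    · have := h0 a ha b hb hbK
      rw [h1.2.1] at this
      exact absurd this (by decide)
    · have := h0 a ha b hb hbK
      rcases h1.2 with h2 | h2 <;> · rw [h2.1] at this; exact absurd this (by decide)
    · have := h0 a ha b hb hbK
      rcases h1.2 with h2 | h2 <;> · rw [h2.1] at this; exact absurd this (by decide)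
  · rw [MJ_subgroupOf hp cs]
    by_cases hdp : d.Coprime p
    · left
      intro t ht
      obtain ⟨s, hs, hact⟩ := act_inner hp cs hB0 hB (t := (t : GL D.Idx F)) ht
      have hsG : s ∈ D.group F := by
        refine (?_ : MJ cs hp.isCartan (XV D l F) J ≤ _) hs
        exact RGD.Sup_le fun x _ => XV_le_group hp x
      refine ⟨d, hdp, ⟨s, hsG⟩, hs, fun a ha => Subtype.ext ?_⟩
      exact hact a ha
    · right
      have hdvd : p ∣ d := by
        by_contra h1
        exact hdp ((Nat.Prime.coprime_iff_not_dvd hpp).2 h1).symm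
      have hdodd : Odd d := by
        obtain ⟨q, rfl⟩ := hdvd
        have hq : q = 1 := by
          have hq0 : q ≠ 0 := by
            rintro rfl
            exact hd0 (mul_zero _)
          have : q < 2 := by
            by_contra h1
            have : 5 * 2 ≤ p * q := Nat.mul_le_mul h5 (by omega)
            omega
          omega
        rw [hq, mul_one]
        exact hpp.odd_of_ne_two (by omega)
      rw [← Nat.not_even_iff_odd]
      intro heven
      have h2 : 2 ∣ Nat.card ↥(Subgroup.center ↥((MJ cs hp.isCartan (XV D l F) J).subgroupOf (D.group F))) :=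
        heven.two_dvd
      have : Fact (Nat.Prime 2) := ⟨Nat.prime_two⟩
      obtain ⟨z, hz⟩ := exists_prime_orderOf_dvd_card' 2 h2
      have hz1 : (((z : ↥((MJ cs hp.isCartan (XV D l F) J).subgroupOf (D.group F))) : ↥(D.group F)) : GL D.Idx F) ^ d = 1 := by
        refine center_pow hp cs r hB0 hB' (Subgroup.mem_subgroupOf.1 z.1.2) fun a ha => ?_
        have haG : a ∈ D.group F := by
          refine (?_ : MJ cs hp.isCartan (XV D l F) J ≤ _) ha
          exact RGD.Sup_le fun x _ => XV_le_group hp x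
        have h3 := Subgroup.mem_center_iff.1 z.2 ⟨⟨a, haG⟩, ha⟩
        exact (congrArg (fun y : ↥((MJ cs hp.isCartan (XV D l F) J).subgroupOf (D.group F)) =>
          ((y : ↥(D.group F)) : GL D.Idx F)) h3).symm
      have hz2 : z ^ d = 1 := Subtype.ext (Subtype.ext (Subtype.ext hz1))
      have h4 := orderOf_dvd_of_pow_eq_one hz2
      rw [hz] at h4
      exact (Nat.not_even_iff_odd.2 hdodd) (even_iff_two_dvd.2 h4)

end Cfsg.Agent.H292.S38.Chev
end

-- part: H973/Inv/TwNode
section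
/-!
# S3830, odd characteristic, O9a: `NodeOK` for `³D₄(q)` and `²E₆(q)` (helper973)

* `nodeOK_fold` : the nodes of a group obtained by folding; the toral involution is `∏ h_s(-1)`, `s` in the class of
  a neighbouring node `j` such that `∑ ⟨r, s^∨⟩` is odd for the roots `r` in the class of `i`;
* `nodeOK_twD4`, `nodeOK_twE6`.
-/

set_option autoImplicit false
set_option linter.unusedSectionVars false

namespace Cfsg.Agent.H973.Inv

open CoxeterSystem Cfsg.Agent.ChevalleyStructure.CoxeterGeom Cfsg.Agent.Tits.Roots Cfsg.Agent.Tits.Core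
  Cfsg.Agent.Nodes.BNOf Cfsg.Agent.Nodes.RGDTwGen Cfsg.Agent.Nodes.RGDChev Cfsg.Agent.Nodes.RGDFold
  Cfsg.Agent.Nodes.RGDFoldSL Cfsg.Agent.Nodes.Reps
open Cfsg.Lie Cfsg.Agent.ChevalleyStructure Cfsg.Agent.ChevalleyStructure.Elts
  Cfsg.Agent.ChevalleyStructure.TwistedU Cfsg.Agent.ChevalleyStructure.TwistedFix
open Cfsg.Agent.ChevalleyStructure.SL2Hom (up lo mem_closure_SL2)

universe u

/-! ### twisted products -/

section Gen

variable {Γ K : Type*} [Group Γ] [Field K]

theorem hv_lo {x : ℕ → K → Γ} {φ : K →+* K} {ψ : ℕ → Matrix.SpecialLinearGroup (Fin 2) K →* Γ} {o : List ℕ}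
    (hx : ∀ r ∈ o, ∀ t, ψ r (lo t) = x r t) (a : K) : hv ψ φ o (lo a) = yv x φ o a := by
  induction o generalizing a with
  | nil => rfl
  | cons r o ih =>
    show ψ r (lo a) * hv ψ φ o (Matrix.SpecialLinearGroup.map φ (lo a)) = x r a * yv x φ o (φ a)
    have e : Matrix.SpecialLinearGroup.map φ (lo a) = lo (φ a) := map_lo φ a
    rw [e, hx r List.mem_cons_self, ih fun s hs => hx s (List.mem_cons_of_mem _ hs)]

/-- conjugation of a twisted product by an element which inverts the factors -/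
theorem conj_yv {x : ℕ → K → Γ} {φ : K →+* K} {o : List ℕ} {y : Γ}
    (h : ∀ r ∈ o, ∀ t, y * x r t * y⁻¹ = x r (-t)) (a : K) : y * yv x φ o a * y⁻¹ = yv x φ o (-a) := by
  induction o generalizing a with
  | nil =>
    show y * 1 * y⁻¹ = 1
    rw [mul_one, mul_inv_cancel]
  | cons r o ih =>
    show y * (x r a * yv x φ o (φ a)) * y⁻¹ = x r (-a) * yv x φ o (φ (-a))
    rw [map_neg, ← ih (fun s hs => h s (List.mem_cons_of_mem _ hs)), ← h r List.mem_cons_self]
    group

end Gen

/-! ### the toral elements -/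

section Tor

variable {D : ChevalleyDatum} (hD : InList D) {K : Type u} [Field K]

theorem conj_prod_h {ks : List ℕ} (hks : ∀ k ∈ ks, k < D.rank) {s : ℕ} (hs : s < D.nroots) (t : K) :
    (ks.map fun k => hG hD (D.simple k) (-1 : K)).prod * xG hD s t *
      ((ks.map fun k => hG hD (D.simple k) (-1 : K)).prod)⁻¹ =
      xG hD s ((-1 : K) ^ (ks.map fun k => D.cartan k s).sum * t) := by
  induction ks generalizing t with
  | nil =>
    rw [List.map_nil, List.prod_nil, List.map_nil, List.sum_nil, zpow_zero, one_mul, one_mul, inv_one, mul_one]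
  | cons k ks ih =>
    rw [List.map_cons, List.prod_cons, List.map_cons, List.sum_cons, mul_inv_rev]
    have h1 := ih (fun k' hk' => hks k' (List.mem_cons_of_mem _ hk')) t
    have h2 := Cfsg.Agent.ChevalleyStructure.BruhatSplit.hG_simple_conj hD (hks k List.mem_cons_self) hs
      (neg_ne_zero.2 (one_ne_zero (α := K))) ((-1 : K) ^ (ks.map fun k => D.cartan k s).sum * t)
    rw [← h1] at h2
    rw [zpow_add₀ (neg_ne_zero.2 (one_ne_zero (α := K))), mul_assoc ((-1 : K) ^ D.cartan k s), ← h2]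
    group

theorem conj_prod_h_odd {ks : List ℕ} (hks : ∀ k ∈ ks, k < D.rank) {s : ℕ} (hs : s < D.nroots)
    (ho : Odd (ks.map fun k => D.cartan k s).sum) (t : K) :
    (ks.map fun k => hG hD (D.simple k) (-1 : K)).prod * xG hD s t *
      ((ks.map fun k => hG hD (D.simple k) (-1 : K)).prod)⁻¹ = xG hD s (-t) := by
  rw [conj_prod_h hD hks hs, ho.neg_one_zpow, neg_one_mul]

theorem hv_hS_neg (φ : K →+* K) {o : List ℕ} (ho : ∀ s ∈ o, s < D.nroots) :
    hv (psi hD K) φ o (hS (-1)) = (o.map fun s => hG hD s (-1 : K)).prod := by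
  induction o with
  | nil => rfl
  | cons s o ih =>
    show psi hD K s (hS (-1)) * hv (psi hD K) φ o (Matrix.SpecialLinearGroup.map φ (hS (-1))) = _
    rw [map_hS, map_neg, map_one, ih fun s' hs' => ho s' (List.mem_cons_of_mem _ hs'),
      psi_hS hD (ho s List.mem_cons_self), List.map_cons, List.prod_cons]

end Tor

/-! ### the nodes -/

section Node

variable {D : ChevalleyDatum} {l : ℕ} {M' : CoxeterMatrix (Fin l)} {hp : IsType D l M'} {K : Type} [Field K] {m : ℕ}
  {J : Fin m → List (Fin l)} {L : List (List ℕ)} {σ : GL D.Idx K →* GL D.Idx K} {ρ ρ' : ℕ → ℕ}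
    {f : ℕ → K → K} {G : Subgroup (GL D.Idx K)} {i : Fin m} {r : ℕ} {o : List ℕ} {φ : K →+* K}

theorem coe_Phi_lo (FG : FoldGrp hp K J L σ ρ ρ' f G) (N : NodeOK D J L ρ i r o) (hf : ∀ s ∈ r :: o, ∀ t, f s t = φ t)
    (a : Fx φ (o.length + 1)) : ((Phi FG N hf (lo a) : ↥G) : GL D.Idx K) =
      yv (fun s => xG hp.inList (D.neg s)) φ (r :: o) (a : K) := by
  show Ph hp K N φ (Matrix.SpecialLinearGroup.map _ (lo a)) = _
  rw [map_lo]
  exact hv_lo (fun s hs t => psi_lo hp.inList (N.lt s hs) t) _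

theorem hS_neg_one_sq {F : Type*} [Field F] : (hS (-1) : Matrix.SpecialLinearGroup (Fin 2) F) * hS (-1) = 1 := by
  apply Subtype.ext
  rw [Matrix.SpecialLinearGroup.coe_mul, coe_hS (neg_ne_zero.2 one_ne_zero), Matrix.mul_fin_two,
    Matrix.SpecialLinearGroup.coe_one, Matrix.one_fin_two]
  simp

/-- **The nodes of a folded group in odd characteristic.** -/
theorem nodeOK_fold [Finite K] (h2 : (2 : K) ≠ 0) {W : Type*} [Group W] {M : CoxeterMatrix (Fin m)}
    {cs : CoxeterSystem M W} {A : Fin m → Fin m → ℤ} {h : IsCartan M A} {p : ℕ}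
    (FG : FoldGrp hp K J L σ ρ ρ' f G) (N : NodeOK D J L ρ i r o) (hf : ∀ s ∈ r :: o, ∀ t, f s t = φ t)
    (R : RGD cs h p ((D.diagonalSubgroup K ⊓ G).subgroupOf G) (fun i => (⟨nI hp K (J i), FG.nG i⟩ : ↥G))
      (fun z => (R D hp K J σ z).subgroupOf G))
    {j : Fin m} {r' : ℕ} {o' : List ℕ} (N' : NodeOK D J L ρ j r' o') (hf' : ∀ s ∈ r' :: o', ∀ t, f s t = φ t)
    (hrk : ∀ k ∈ (J j).map (fun k : Fin l => (k : ℕ)), k < D.rank)
    (hpos : ∀ s ∈ r :: o, Odd (((J j).map (fun k : Fin l => (k : ℕ))).map fun k => D.cartan k s).sum)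
    (hneg : ∀ s ∈ r :: o, D.neg s < D.nroots ∧
      Odd (((J j).map (fun k : Fin l => (k : ℕ))).map fun k => D.cartan k (D.neg s)).sum) :
    Cfsg.Agent.H255.Inv.NodeOK ((D.diagonalSubgroup K ⊓ G).subgroupOf G)
      (fun z => (Cfsg.Agent.Nodes.RGDFold.R D hp K J σ z).subgroupOf G) i := by
  have hsn := hS_neg_one_sq (F := Fx φ (o'.length + 1))
  set y : ↥G := Phi FG N' hf' (hS (-1)) with hy
  have hcy : (y : GL D.Idx K) =
      (((J j).map (fun k : Fin l => (k : ℕ))).map fun k => hG hp.inList (D.simple k) (-1 : K)).prod := by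
    rw [hy]
    show Ph hp K N' φ (Matrix.SpecialLinearGroup.map _ (hS (-1))) = _
    rw [map_hS, map_neg, map_one]
    show hv (psi hp.inList K) φ (r' :: o') (hS (-1)) = _
    rw [hv_hS_neg hp.inList φ N'.lt, ← N'.Jn, List.map_map, List.map_map]
    rfl
  have h2F : (2 : Fx φ (o.length + 1)) ≠ 0 := by
    intro h
    exact h2 (congrArg (fun x : Fx φ (o.length + 1) => (x : K)) h)
  have hup : ∀ a, y * Phi FG N hf (up a) * y⁻¹ = Phi FG N hf (up (-a)) := by
    intro a
    apply Subtype.ext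
    rw [Subgroup.coe_mul, Subgroup.coe_mul, Subgroup.coe_inv, coe_Phi_up, coe_Phi_up, hcy]
    exact conj_yv (fun s hs t => conj_prod_h_odd hp.inList hrk (N.lt s hs) (hpos s hs) t) _
  have hlo : ∀ a, y * Phi FG N hf (lo a) * y⁻¹ = Phi FG N hf (lo (-a)) := by
    intro a
    apply Subtype.ext
    rw [Subgroup.coe_mul, Subgroup.coe_mul, Subgroup.coe_inv, coe_Phi_lo, coe_Phi_lo, hcy]
    exact conj_yv (x := fun s => xG hp.inList (D.neg s))
      (fun s hs t => conj_prod_h_odd hp.inList hrk (hneg s hs).1 (hneg s hs).2 t) _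
  have hmem : ∀ g : ↥G, g ∈ (Cfsg.Agent.Nodes.RGDFold.R D hp K J σ (sr i)).subgroupOf G ↔
      ∃ a, g = Phi FG N hf (up a) := mem_X_iff FG N hf
  have hmem' : ∀ g : ↥G, g ∈ (Cfsg.Agent.Nodes.RGDFold.R D hp K J σ (-sr i)).subgroupOf G ↔
      ∃ a, g = Phi FG N hf (lo a) := by
    intro g
    have h1 := R.conj i _ (isRoot_sr cs h i)
    rw [rep_simple_sr] at h1
    have h3 : g ∈ (Cfsg.Agent.Nodes.RGDFold.R D hp K J σ (-sr i)).subgroupOf G ↔
        (⟨nI hp K (J i), FG.nG i⟩ : ↥G)⁻¹ * g * (⟨nI hp K (J i), FG.nG i⟩ : ↥G) ∈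
          (Cfsg.Agent.Nodes.RGDFold.R D hp K J σ (sr i)).subgroupOf G := by
      rw [← h1, mem_cj]
    rw [h3, hmem]
    have hw := Phi_wS FG N hf
    constructor
    · rintro ⟨a, ha⟩
      refine ⟨-a, ?_⟩
      rw [lo_eq, neg_neg, map_mul, map_mul, map_inv, hw, ← ha]
      group
    · rintro ⟨a, rfl⟩
      refine ⟨-a, ?_⟩
      rw [lo_eq, map_mul, map_mul, map_inv, hw]
      group
  refine ⟨Fx φ (o.length + 1), inferInstance, inferInstance, Phi FG N hf, y, h2F, fun a => (hmem _).2 ⟨a, rfl⟩,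
    fun u hu => (hmem u).1 hu, fun a => (hmem' _).2 ⟨a, rfl⟩, fun u hu => (hmem' u).1 hu,
    Phi_hS FG N' hf' (neg_ne_zero.2 one_ne_zero), ?_, hup, hlo⟩
  refine orderOf_eq_prime (by rw [pow_two, hy, ← map_mul, hsn, map_one]) ?_
  intro h1
  have h3 := hup 1
  rw [h1, one_mul, inv_one, mul_one] at h3
  have h4 := Phi_up_injective FG N hf h3
  apply h2F
  have h5 : (1 : Fx φ (o.length + 1)) + 1 = 0 := by
    nth_rewrite 1 [h4]
    exact neg_add_cancel 1
  rw [← h5]
  norm_num

end Node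

/-! ### the groups -/

theorem nodeOK_twD4 {K : Type} [Field K] [Fintype K] {q : ℕ} (h2 : (2 : K) ≠ 0) (hK : Fintype.card K = q ^ 3)
    {φ : K →+* K} (hφ : ∀ x, φ x = x ^ q) (i : Fin 2) :
    Cfsg.Agent.H255.Inv.NodeOK (Nodes.RGDTwD4.T K q) (Nodes.RGDTwD4.X φ q) i := by
  obtain ⟨p, hp'⟩ := CharP.exists K
  have : Fact p.Prime := ⟨CharP.char_is_prime K p⟩
  have R := Nodes.RGDTwD4.rgd (K := K) CoxeterMatrix.G₂.toCoxeterSystem hK hφ p
  have hf : ∀ i, ∀ s ∈ Nodes.RGDTwNode.D4.rep i :: Nodes.RGDTwNode.D4.rest i, ∀ t : K,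
      ((Nodes.RGDTwD4.eps s : ℤ) : K) * φ t = φ t :=
    fun i s hs t => by rw [Nodes.RGDTwNode.D4.eps_one i s hs, Int.cast_one, one_mul]
  have key : ∀ i j : Fin 2, (∀ k ∈ (Nodes.RGDTwD4.J j).map (fun k : Fin 4 => (k : ℕ)), k < chevD4.rank) →
      (∀ s ∈ Nodes.RGDTwNode.D4.rep i :: Nodes.RGDTwNode.D4.rest i,
        Odd (((Nodes.RGDTwD4.J j).map (fun k : Fin 4 => (k : ℕ))).map fun k => chevD4.cartan k s).sum) →
      (∀ s ∈ Nodes.RGDTwNode.D4.rep i :: Nodes.RGDTwNode.D4.rest i, chevD4.neg s < chevD4.nroots ∧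
        Odd (((Nodes.RGDTwD4.J j).map (fun k : Fin 4 => (k : ℕ))).map fun k => chevD4.cartan k (chevD4.neg s)).sum) →
      Cfsg.Agent.H255.Inv.NodeOK (Nodes.RGDTwD4.T K q) (Nodes.RGDTwD4.X φ q) i := by
    intro i j h1 h3 h4
    exact nodeOK_fold h2 (Nodes.RGDTwD4.foldGrp hφ (D4Fixed.twisted_le_fix hK hφ)) (Nodes.RGDTwNode.D4.nodeOK i)
      (hf i) R (Nodes.RGDTwNode.D4.nodeOK j) (hf j) h1 h3 h4
  fin_cases i
  · exact key 0 1 (by decide +kernel) (by decide +kernel) (by decide +kernel)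
  · exact key 1 0 (by decide +kernel) (by decide +kernel) (by decide +kernel)

theorem nodeOK_twE6 {K : Type} [Field K] [Fintype K] {q : ℕ} (h2 : (2 : K) ≠ 0)
    {φ : K →+* K} (hφ : ∀ x, φ x = x ^ q) (hqq : ∀ t : K, (t ^ q) ^ q = t) (i : Fin 4) :
    Cfsg.Agent.H255.Inv.NodeOK (Nodes.RGDTwE6.T K q) (Nodes.RGDTwE6.X φ q) i := by
  obtain ⟨p, hp'⟩ := CharP.exists K
  have : Fact p.Prime := ⟨CharP.char_is_prime K p⟩
  have R := Nodes.RGDTwE6.rgd (K := K) CoxeterMatrix.F₄.toCoxeterSystem hφ hqq p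
  have hf : ∀ i, ∀ s ∈ Nodes.RGDTwNode.E6.rep i :: Nodes.RGDTwNode.E6.rest i, ∀ t : K,
      ((TwistedE6Sigma.eps s : ℤ) : K) * φ t = φ t :=
    fun i s hs t => by rw [Nodes.RGDTwNode.E6.eps_one i s hs, Int.cast_one, one_mul]
  have key : ∀ i j : Fin 4, (∀ k ∈ (Nodes.RGDTwE6.J j).map (fun k : Fin 6 => (k : ℕ)), k < chevE6.rank) →
      (∀ s ∈ Nodes.RGDTwNode.E6.rep i :: Nodes.RGDTwNode.E6.rest i,
        Odd (((Nodes.RGDTwE6.J j).map (fun k : Fin 6 => (k : ℕ))).map fun k => chevE6.cartan k s).sum) →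
      (∀ s ∈ Nodes.RGDTwNode.E6.rep i :: Nodes.RGDTwNode.E6.rest i, chevE6.neg s < chevE6.nroots ∧
        Odd (((Nodes.RGDTwE6.J j).map (fun k : Fin 6 => (k : ℕ))).map fun k => chevE6.cartan k (chevE6.neg s)).sum) →
      Cfsg.Agent.H255.Inv.NodeOK (Nodes.RGDTwE6.T K q) (Nodes.RGDTwE6.X φ q) i := by
    intro i j h1 h3 h4
    exact nodeOK_fold h2 (Nodes.RGDTwE6.foldGrp hφ hqq) (Nodes.RGDTwNode.E6.nodeOK i)
      (hf i) R (Nodes.RGDTwNode.E6.nodeOK j) (hf j) h1 h3 h4
  fin_cases i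
  · exact key 0 1 (by decide +kernel) (by decide +kernel) (by decide +kernel)
  · exact key 1 0 (by decide +kernel) (by decide +kernel) (by decide +kernel)
  · exact key 2 3 (by decide +kernel) (by decide +kernel) (by decide +kernel)
  · exact key 3 2 (by decide +kernel) (by decide +kernel) (by decide +kernel)

end Cfsg.Agent.H973.Inv
end

-- part: H255/Inv/TwTor
section
/-!
# The torus of `²E₆(q)` acts on the Levi components (helper255, S3830, piece O9c)

`comp_tor_twE6` : `t ^ 12`, `t` in the torus, acts on `M_J` as an element of `M_J`.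
-/

set_option autoImplicit false
set_option linter.unusedSectionVars false

namespace Cfsg.Agent.H255.Inv.TwTor

open CoxeterSystem Cfsg Cfsg.Lie Cfsg.Lie.ChevalleyDatum
open Cfsg.Agent.ChevalleyStructure Cfsg.Agent.ChevalleyStructure.Elts Cfsg.Agent.ChevalleyStructure.CoxeterGeom
  Cfsg.Agent.ChevalleyStructure.CoxeterGeomTypes Cfsg.Agent.ChevalleyStructure.NPerm
open Cfsg.Agent.Tits.Roots Cfsg.Agent.Tits.Core Cfsg.Agent.Nodes Cfsg.Agent.Nodes.Reps Cfsg.Agent.Nodes.BNOf
  Cfsg.Agent.Nodes.RGDChev Cfsg.Agent.Nodes.Bruhat Cfsg.Agent.Nodes.StabComb Cfsg.Agent.Nodes.OppDec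
  Cfsg.Agent.Nodes.FreeTorus Cfsg.Agent.H53.HC
open Cfsg.Agent.BpExc.FamTw.Tor (hG_conj exists_c eq_of_act)
open Cfsg.Agent.H153.Exc (hP list_act hP_act hP_mem)
open Cfsg.Agent.ChevalleyStructure.SL2Hom (up lo)
open Cfsg.Agent.H292.S38.Tor Cfsg.Agent.H292.S38.Tab Cfsg.Agent.H292.S38.Chev
open Cfsg.Agent.Nodes.RGDFold Cfsg.Agent.Nodes.RGDFoldSL
open Cfsg.Agent.ChevalleyStructure.TwE6Basic (sg)

universe u

/-! ### tables -/

/-- the graph automorphism on the simple roots -/
def rk : Fin 6 → Fin 6 := ![5, 1, 4, 3, 2, 0]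

/-- the block of a simple root -/
def blk : Fin 6 → Fin 4 := ![3, 0, 2, 1, 2, 3]

/-- `12` times the inverses of the Cartan matrices of the unions of blocks -/
def tab : List (List (List ℤ)) := (beta% delta% lq2628445d7d fun a b _ _ =>
 (a (a (a 0<|a 0<|a 0<|a 0<|a 0<|a 0<|b)<|a (a 0<|a 0<|a 0<|a 0<|a 0<|a 0<|b)<|a (a 0<|a 0<|a 0<|a 0<|a 0<|a 0<|b)<|a (a 0<|a 0<|a 0<|a 0<|a 0<|a 0<|b)<|a (a 0<|a 0<|a 0<|a 0<|a 0<|a 0<|b)<|a (a 0<|a 0<|a 0<|a 0<|a 0<|a 0<|b)<|b)<|
 a (a (a 0<|a 0<|a 0<|a 0<|a 0<|a 0<|b)<|a (a 0<|a 6<|a 0<|a 0<|a 0<|a 0<|b)<|a (a 0<|a 0<|a 0<|a 0<|a 0<|a 0<|b)<|a (a 0<|a 0<|a 0<|a 0<|a 0<|a 0<|b)<|a (a 0<|a 0<|a 0<|a 0<|a 0<|a 0<|b)<|a (a 0<|a 0<|a 0<|a 0<|a 0<|a 0<|b)<|b)<|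
 a (a (a 0<|a 0<|a 0<|a 0<|a 0<|a 0<|b)<|a (a 0<|a 0<|a 0<|a 0<|a 0<|a 0<|b)<|a (a 0<|a 0<|a 0<|a 0<|a 0<|a 0<|b)<|a (a 0<|a 0<|a 0<|a 6<|a 0<|a 0<|b)<|a (a 0<|a 0<|a 0<|a 0<|a 0<|a 0<|b)<|a (a 0<|a 0<|a 0<|a 0<|a 0<|a 0<|b)<|b)<|
 a (a (a 0<|a 0<|a 0<|a 0<|a 0<|a 0<|b)<|a (a 0<|a 8<|a 0<|a 4<|a 0<|a 0<|b)<|a (a 0<|a 0<|a 0<|a 0<|a 0<|a 0<|b)<|a (a 0<|a 4<|a 0<|a 8<|a 0<|a 0<|b)<|a (a 0<|a 0<|a 0<|a 0<|a 0<|a 0<|b)<|a (a 0<|a 0<|a 0<|a 0<|a 0<|a 0<|b)<|b)<|
 a (a (a 0<|a 0<|a 0<|a 0<|a 0<|a 0<|b)<|a (a 0<|a 0<|a 0<|a 0<|a 0<|a 0<|b)<|a (a 0<|a 0<|a 6<|a 0<|a 0<|a 0<|b)<|a (a 0<|a 0<|a 0<|a 0<|a 0<|a 0<|b)<|a (a 0<|a 0<|a 0<|a 0<|a 6<|a 0<|b)<|a (a 0<|a 0<|a 0<|a 0<|a 0<|a 0<|b)<|b)<|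
 a (a (a 0<|a 0<|a 0<|a 0<|a 0<|a 0<|b)<|a (a 0<|a 6<|a 0<|a 0<|a 0<|a 0<|b)<|a (a 0<|a 0<|a 6<|a 0<|a 0<|a 0<|b)<|a (a 0<|a 0<|a 0<|a 0<|a 0<|a 0<|b)<|a (a 0<|a 0<|a 0<|a 0<|a 6<|a 0<|b)<|a (a 0<|a 0<|a 0<|a 0<|a 0<|a 0<|b)<|b)<|
 a (a (a 0<|a 0<|a 0<|a 0<|a 0<|a 0<|b)<|a (a 0<|a 0<|a 0<|a 0<|a 0<|a 0<|b)<|a (a 0<|a 0<|a 9<|a 6<|a 3<|a 0<|b)<|a (a 0<|a 0<|a 6<|a 12<|a 6<|a 0<|b)<|a (a 0<|a 0<|a 3<|a 6<|a 9<|a 0<|b)<|a (a 0<|a 0<|a 0<|a 0<|a 0<|a 0<|b)<|b)<|
 a (a (a 0<|a 0<|a 0<|a 0<|a 0<|a 0<|b)<|a (a 0<|a 12<|a 6<|a 12<|a 6<|a 0<|b)<|a (a 0<|a 6<|a 12<|a 12<|a 6<|a 0<|b)<|a (a 0<|a 12<|a 12<|a 24<|a 12<|a 0<|b)<|a (a 0<|a 6<|a 6<|a 12<|a 12<|a 0<|b)<|a (a 0<|a 0<|a 0<|a 0<|a 0<|a 0<|b)<|b)<|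
 a (a (a 6<|a 0<|a 0<|a 0<|a 0<|a 0<|b)<|a (a 0<|a 0<|a 0<|a 0<|a 0<|a 0<|b)<|a (a 0<|a 0<|a 0<|a 0<|a 0<|a 0<|b)<|a (a 0<|a 0<|a 0<|a 0<|a 0<|a 0<|b)<|a (a 0<|a 0<|a 0<|a 0<|a 0<|a 0<|b)<|a (a 0<|a 0<|a 0<|a 0<|a 0<|a 6<|b)<|b)<|
 a (a (a 6<|a 0<|a 0<|a 0<|a 0<|a 0<|b)<|a (a 0<|a 6<|a 0<|a 0<|a 0<|a 0<|b)<|a (a 0<|a 0<|a 0<|a 0<|a 0<|a 0<|b)<|a (a 0<|a 0<|a 0<|a 0<|a 0<|a 0<|b)<|a (a 0<|a 0<|a 0<|a 0<|a 0<|a 0<|b)<|a (a 0<|a 0<|a 0<|a 0<|a 0<|a 6<|b)<|b)<|
 a (a (a 6<|a 0<|a 0<|a 0<|a 0<|a 0<|b)<|a (a 0<|a 0<|a 0<|a 0<|a 0<|a 0<|b)<|a (a 0<|a 0<|a 0<|a 0<|a 0<|a 0<|b)<|a (a 0<|a 0<|a 0<|a 6<|a 0<|a 0<|b)<|a (a 0<|a 0<|a 0<|a 0<|a 0<|a 0<|b)<|a (a 0<|a 0<|a 0<|a 0<|a 0<|a 6<|b)<|b)<|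
 a (a (a 6<|a 0<|a 0<|a 0<|a 0<|a 0<|b)<|a (a 0<|a 8<|a 0<|a 4<|a 0<|a 0<|b)<|a (a 0<|a 0<|a 0<|a 0<|a 0<|a 0<|b)<|a (a 0<|a 4<|a 0<|a 8<|a 0<|a 0<|b)<|a (a 0<|a 0<|a 0<|a 0<|a 0<|a 0<|b)<|a (a 0<|a 0<|a 0<|a 0<|a 0<|a 6<|b)<|b)<|
 a (a (a 8<|a 0<|a 4<|a 0<|a 0<|a 0<|b)<|a (a 0<|a 0<|a 0<|a 0<|a 0<|a 0<|b)<|a (a 4<|a 0<|a 8<|a 0<|a 0<|a 0<|b)<|a (a 0<|a 0<|a 0<|a 0<|a 0<|a 0<|b)<|a (a 0<|a 0<|a 0<|a 0<|a 8<|a 4<|b)<|a (a 0<|a 0<|a 0<|a 0<|a 4<|a 8<|b)<|b)<|
 a (a (a 8<|a 0<|a 4<|a 0<|a 0<|a 0<|b)<|a (a 0<|a 6<|a 0<|a 0<|a 0<|a 0<|b)<|a (a 4<|a 0<|a 8<|a 0<|a 0<|a 0<|b)<|a (a 0<|a 0<|a 0<|a 0<|a 0<|a 0<|b)<|a (a 0<|a 0<|a 0<|a 0<|a 8<|a 4<|b)<|a (a 0<|a 0<|a 0<|a 0<|a 4<|a 8<|b)<|b)<|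
 a (a (a 10<|a 0<|a 8<|a 6<|a 4<|a 2<|b)<|a (a 0<|a 0<|a 0<|a 0<|a 0<|a 0<|b)<|a (a 8<|a 0<|a 16<|a 12<|a 8<|a 4<|b)<|a (a 6<|a 0<|a 12<|a 18<|a 12<|a 6<|b)<|a (a 4<|a 0<|a 8<|a 12<|a 16<|a 8<|b)<|a (a 2<|a 0<|a 4<|a 6<|a 8<|a 10<|b)<|b)<|
 a (a (a 16<|a 12<|a 20<|a 24<|a 16<|a 8<|b)<|a (a 12<|a 24<|a 24<|a 36<|a 24<|a 12<|b)<|a (a 20<|a 24<|a 40<|a 48<|a 32<|a 16<|b)<|a (a 24<|a 36<|a 48<|a 72<|a 48<|a 24<|b)<|a (a 16<|a 24<|a 32<|a 48<|a 40<|a 20<|b)<|a (a 8<|a 12<|a 16<|a 24<|a 20<|a 16<|b)<|b)<|b))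

/-- the number of a set of blocks -/
def bit (b : Fin 4 → Bool) : ℕ := (bif b 0 then 1 else 0) + (bif b 1 then 2 else 0) + (bif b 2 then 4 else 0) +
  (bif b 3 then 8 else 0)

/-- `12` times the inverse of the Cartan matrix of a union of blocks -/
def Bm (b : Fin 4 → Bool) (i j : Fin 6) : ℤ := ((tab.getD (bit b) []).getD i []).getD j 0

theorem Bm_supp : ∀ (b : Fin 4 → Bool) (i j : Fin 6), Bm b i j ≠ 0 → b (blk i) = true ∧ b (blk j) = true := by
  decide +kernel

theorem Bm_mul : ∀ (b : Fin 4 → Bool) (i k : Fin 6), b (blk i) = true → b (blk k) = true →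
    ∑ j : Fin 6, Bm b i j * cartanOf chevE6 6 j k = if i = k then ((12 : ℕ) : ℤ) else 0 := by decide +kernel

theorem Bm_rk : ∀ (b : Fin 4 → Bool) (i j : Fin 6), Bm b (rk i) (rk j) = Bm b i j := by decide +kernel

theorem vec_zero : ∀ r < 72, ∀ j : Fin 6, V chevE6 Nodes.RGDTwE6.J r (blk j) = 0 → RGDChev.vec chevE6 6 r j = 0 := by
  decide +kernel

theorem rho_simple : ∀ j : Fin 6, TwistedE6Sigma.rho (chevE6.simple j) = chevE6.simple (rk j) := by decide +kernel

theorem eps_simple : ∀ j : Fin 6, TwistedE6Sigma.eps (chevE6.simple j) = 1 := by decide +kernel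

theorem simple_mem : ∀ j : Fin 6, chevE6.simple j ∈ TwistedE6U.L.flatten := by decide +kernel

theorem rk_rk : ∀ j, rk (rk j) = j := by decide +kernel

/-! ### the action on the ambient Levi subgroup -/

section Act

variable {D : ChevalleyDatum} {l : ℕ} {M : CoxeterMatrix (Fin l)} (hp : IsType D l M) {F : Type u} [Field F]
  {W : Type*} [Group W] (cs : CoxeterSystem M W)

theorem act_hP {J : Set (Fin l)} {d : ℕ} {B : Fin l → Fin l → ℤ} (hB0 : ∀ i j, B i j ≠ 0 → i ∈ J ∧ j ∈ J)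
    (hB : ∀ i ∈ J, ∀ k ∈ J, ∑ j : Fin l, B i j * cartanOf D l j k = if i = k then (d : ℤ) else 0)
    {c b e : Fin l → F} (hc : ∀ j, c j ≠ 0) (hb' : ∀ k, b k = ∏ j : Fin l, c j ^ cartanOf D l j k)
    (he' : ∀ j, e j = ∏ i, b i ^ B i j) :
    ∀ a ∈ MJ cs hp.isCartan (XV D l F) J,
      hP hp.inList l c ^ d * a * (hP hp.inList l c ^ d)⁻¹ = hP hp.inList l e * a * (hP hp.inList l e)⁻¹ := by
  have hb : ∀ k, b k ≠ 0 := fun k => by rw [hb']; exact Finset.prod_ne_zero_iff.2 fun j _ => zpow_ne_zero _ (hc j)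
  have he : ∀ j, e j ≠ 0 := fun j => by rw [he']; exact Finset.prod_ne_zero_iff.2 fun i _ => zpow_ne_zero _ (hb i)
  have hcd : ∀ j, c j ^ d ≠ 0 := fun j => pow_ne_zero _ (hc j)
  have key : MJ cs hp.isCartan (XV D l F) J ≤
      Subgroup.centralizer {(hP hp.inList l e)⁻¹ * hP hp.inList l c ^ d} := by
    refine RGD.Sup_le fun x hx => ?_
    obtain ⟨s, hs, rfl⟩ := (isRoot_iff hp cs x).1 hx.1
    rw [XV_vec hp F hs]
    intro g hg
    obtain ⟨a, rfl⟩ := (mem_rootSubgroup_iff hp.inList s g).1 hg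
    have h1 : hP hp.inList l c ^ d * xG hp.inList s a * (hP hp.inList l c ^ d)⁻¹ =
        hP hp.inList l e * xG hp.inList s a * (hP hp.inList l e)⁻¹ := by
      rw [hP_pow hp hc, hP_act hp _ hcd hs, hP_act hp _ he hs, char_eq hp hcd hs, char_eq hp he hs]
      congr 2
      refine Finset.prod_congr rfl fun k _ => ?_
      by_cases hk : k ∈ J
      · congr 1
        have h2 : ∏ j : Fin l, e j ^ cartanOf D l j k = b k ^ d := by
          rw [← prod_B hB0 hB hb hk]
          exact Finset.prod_congr rfl fun j _ => by rw [he']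
        rw [h2, hb', ← Finset.prod_pow]
        refine Finset.prod_congr rfl fun j _ => ?_
        rw [← zpow_natCast, ← zpow_natCast, ← zpow_mul, ← zpow_mul, mul_comm]
      · rw [hx.2 k hk, zpow_zero, zpow_zero]
    rw [Subgroup.mem_centralizer_singleton_iff]
    calc xG hp.inList s a * ((hP hp.inList l e)⁻¹ * hP hp.inList l c ^ d)
        = (hP hp.inList l e)⁻¹ * (hP hp.inList l e * xG hp.inList s a * (hP hp.inList l e)⁻¹) *
          hP hp.inList l c ^ d := by group
      _ = (hP hp.inList l e)⁻¹ * (hP hp.inList l c ^ d * xG hp.inList s a * (hP hp.inList l c ^ d)⁻¹) *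
          hP hp.inList l c ^ d := by rw [h1]
      _ = (hP hp.inList l e)⁻¹ * hP hp.inList l c ^ d * xG hp.inList s a := by group
  intro a ha
  have h2 := Subgroup.mem_centralizer_singleton_iff.1 (key ha)
  calc hP hp.inList l c ^ d * a * (hP hp.inList l c ^ d)⁻¹
      = hP hp.inList l e * (((hP hp.inList l e)⁻¹ * hP hp.inList l c ^ d) * a) * (hP hp.inList l c ^ d)⁻¹ := by group
    _ = hP hp.inList l e * (a * ((hP hp.inList l e)⁻¹ * hP hp.inList l c ^ d)) * (hP hp.inList l c ^ d)⁻¹ := by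
      rw [h2]
    _ = hP hp.inList l e * a * (hP hp.inList l e)⁻¹ := by group

end Act

/-! ### the twisted group -/

theorem six {Γ : Type*} [Group Γ] {a b c d e f : Γ} (h1 : e * f = f * e) (h2 : d * f = f * d) (h3 : c * f = f * c)
    (h4 : b * f = f * b) (h5 : d * e = e * d) :
    a * (b * (c * (d * (e * (f * 1))))) = (a * (f * 1)) * ((b * 1) * ((c * (e * 1)) * (d * 1))) := by
  simp only [mul_one]
  calc a * (b * (c * (d * (e * f)))) = a * (b * (c * ((d * f) * e))) := by rw [h1]; group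
    _ = a * (b * ((c * f) * (d * e))) := by rw [h2]; group
    _ = a * ((b * f) * (c * (d * e))) := by rw [h3]; group
    _ = a * (f * (b * (c * (e * d)))) := by rw [h4, h5]; group
    _ = _ := by group

section Tw

variable {K : Type u} [Field K] {q : ℕ} {φ : K →+* K}

/-- the elements of the Levi subgroups of `²E₆(q)` lie in the Levi subgroups of `E₆(K)` -/
theorem coe_mem_MJ [Fintype K] (hφ : ∀ x, φ x = x ^ q) (hqq : ∀ t : K, (t ^ q) ^ q = t) (J : Set (Fin 4))
    {a : ↥(twistedE6 K q)}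
    (ha : a ∈ MJ CoxeterMatrix.F₄.toCoxeterSystem Nodes.RGDTwE6.isCartan (Nodes.RGDTwE6.X φ q) J) :
    (a : GL chevE6.Idx K) ∈ MJ CoxeterMatrix.E₆.toCoxeterSystem Nodes.RGDTwE6.hp.isCartan (XV chevE6 6 K)
      {j | blk j ∈ J} := by
  have key : MJ CoxeterMatrix.F₄.toCoxeterSystem Nodes.RGDTwE6.isCartan (Nodes.RGDTwE6.X φ q) J ≤
      (MJ CoxeterMatrix.E₆.toCoxeterSystem Nodes.RGDTwE6.hp.isCartan (XV chevE6 6 K) {j | blk j ∈ J}).comap
        (twistedE6 K q).subtype := by
    refine RGD.Sup_le fun z hz g hg => ?_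
    have h1 : (g : GL chevE6.Idx K) ∈ Cfsg.Agent.ChevalleyStructure.TwistedU.rspan
        (xG Nodes.RGDTwE6.hp.inList) {k | k < chevE6.nroots ∧ V chevE6 Nodes.RGDTwE6.J k = z} := (Subgroup.mem_subgroupOf.1 hg).1
    show (g : GL chevE6.Idx K) ∈ MJ CoxeterMatrix.E₆.toCoxeterSystem Nodes.RGDTwE6.hp.isCartan (XV chevE6 6 K)
      {j | blk j ∈ J}
    refine Cfsg.Agent.ChevalleyStructure.TwistedU.rspan_le (xG Nodes.RGDTwE6.hp.inList) ?_ h1
    rintro k ⟨hk, rfl⟩ t
    have h2 : RGDChev.vec chevE6 6 k ∈ RootsJ CoxeterMatrix.E₆.toCoxeterSystem Nodes.RGDTwE6.hp.isCartan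
        {j | blk j ∈ J} := by
      refine ⟨(isRoot_iff Nodes.RGDTwE6.hp _ _).2 ⟨k, hk, rfl⟩, fun j hj => ?_⟩
      exact vec_zero k hk j (hz.2 _ hj)
    refine RGD.le_Sup h2 ?_
    rw [XV_vec Nodes.RGDTwE6.hp K hk]
    exact xG_mem_rootSubgroup _ _ _
  exact key ha

/-- the characters of a torus element fixed by `σ` -/
theorem char_rk [Fintype K] (hφ : ∀ x, φ x = x ^ q) (hqq : ∀ t : K, (t ^ q) ^ q = t) {c : Fin 6 → K}
    (hc : ∀ j, c j ≠ 0) (hG : hP Nodes.RGDTwE6.hp.inList 6 c ∈ twistedE6 K q) (k : Fin 6) :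
    ∏ j : Fin 6, c j ^ cartanOf chevE6 6 j (rk k) = φ (∏ j : Fin 6, c j ^ cartanOf chevE6 6 j k) := by
  have FG := Nodes.RGDTwE6.foldGrp hφ hqq
  have hfix : sg φ (hP Nodes.RGDTwE6.hp.inList 6 c) = hP Nodes.RGDTwE6.hp.inList 6 c := FG.G_le hG
  have hlt : ∀ j : Fin 6, chevE6.simple j < chevE6.nroots := fun j =>
    simple_lt Nodes.RGDTwE6.hp.inList (lt_rank Nodes.RGDTwE6.hp j)
  have hs : ∀ (j : Fin 6) (u : K), sg φ (xG Nodes.RGDTwE6.hp.inList (chevE6.simple j) u) =
      xG Nodes.RGDTwE6.hp.inList (chevE6.simple (rk j)) (φ u) := by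
    intro j u
    have h1 := FG.setup.hσ _ (simple_mem j) u
    rw [rho_simple, eps_simple, Int.cast_one, one_mul] at h1
    exact h1
  have h1 := hP_act Nodes.RGDTwE6.hp c hc (hlt k) 1
  have h2 := congrArg (sg φ) h1
  rw [map_mul, map_mul, map_inv, hfix, hs, hs, map_one, hP_act Nodes.RGDTwE6.hp c hc (hlt (rk k)), mul_one,
    mul_one] at h2
  exact xG_injective Nodes.RGDTwE6.hp.inList (hlt (rk k)) h2

open Cfsg.Agent.Nodes.RGDTwNode in
theorem hf_one (i : Fin 4) : ∀ s ∈ E6.rep i :: E6.rest i, ∀ t : K,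
    (((TwistedE6Sigma.eps s : ℤ) : K) * φ t) = φ t := fun s hs t => by
  rw [E6.eps_one i s hs, Int.cast_one, one_mul]

open Cfsg.Agent.Nodes.RGDTwNode in
/-- the torus elements of the nodes lie in `⟨X_i, X_{-i}⟩` -/
theorem Phi_mem [Fintype K] (hφ : ∀ x, φ x = x ^ q) (hqq : ∀ t : K, (t ^ q) ^ q = t) {J : Set (Fin 4)} {i : Fin 4}
    (hi : i ∈ J) (g : Matrix.SpecialLinearGroup (Fin 2) (Fx φ ((E6.rest i).length + 1))) :
    Phi (Nodes.RGDTwE6.foldGrp hφ hqq) (E6.nodeOK i) (hf_one i) g ∈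
      MJ CoxeterMatrix.F₄.toCoxeterSystem Nodes.RGDTwE6.isCartan (Nodes.RGDTwE6.X φ q) J := by
  obtain ⟨p, hp'⟩ := CharP.exists K
  have : Fact p.Prime := ⟨CharP.char_is_prime K p⟩
  have R := Nodes.RGDTwE6.rgd (K := K) CoxeterMatrix.F₄.toCoxeterSystem hφ hqq p
  have FG := Nodes.RGDTwE6.foldGrp hφ hqq
  have hsr : sr i ∈ RootsJ CoxeterMatrix.F₄.toCoxeterSystem Nodes.RGDTwE6.isCartan J :=
    PosJ_subset J (sr_mem_PosJ hi)
  set MM := MJ CoxeterMatrix.F₄.toCoxeterSystem Nodes.RGDTwE6.isCartan (Nodes.RGDTwE6.X φ q) J with hMM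
  have hup : ∀ a, Phi FG (E6.nodeOK i) (hf_one i) (up a) ∈ Nodes.RGDTwE6.X φ q (sr i) := fun a =>
    (mem_X_iff FG (E6.nodeOK i) (hf_one i) _).2 ⟨a, rfl⟩
  have hlo : ∀ a, Phi FG (E6.nodeOK i) (hf_one i) (lo a) ∈ Nodes.RGDTwE6.X φ q (-sr i) := by
    intro a
    have h1 := R.conj i _ (isRoot_sr CoxeterMatrix.F₄.toCoxeterSystem Nodes.RGDTwE6.isCartan i)
    rw [rep_simple_sr] at h1
    rw [← h1, lo_eq, map_mul, map_mul, map_inv, Phi_wS]
    exact conj_mem_cj.2 (hup _)
  have h2 : (Subgroup.closure (Set.range (up (F := Fx φ ((E6.rest i).length + 1))) ∪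
      Set.range (lo (F := Fx φ ((E6.rest i).length + 1))))) ≤ MM.comap (Phi FG (E6.nodeOK i) (hf_one i)) := by
    rw [Subgroup.closure_le]
    rintro _ (⟨a, rfl⟩ | ⟨a, rfl⟩)
    · exact RGD.le_Sup hsr (hup a)
    · exact RGD.le_Sup (RootsJ.neg hsr) (hlo a)
  exact h2 (Cfsg.Agent.ChevalleyStructure.SL2Hom.mem_closure_SL2 g)

theorem hS_one {F : Type*} [Field F] : (hS (1 : F) : Matrix.SpecialLinearGroup (Fin 2) F) = 1 := by
  apply Subtype.ext
  rw [coe_hS one_ne_zero, Matrix.SpecialLinearGroup.coe_one, Matrix.one_fin_two, inv_one]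

open Cfsg.Agent.Nodes.RGDTwNode in
theorem coe_Phi_hS [Fintype K] (hφ : ∀ x, φ x = x ^ q) (hqq : ∀ t : K, (t ^ q) ^ q = t) (i : Fin 4)
    (d : Fx φ ((E6.rest i).length + 1)) :
    ((Phi (Nodes.RGDTwE6.foldGrp hφ hqq) (E6.nodeOK i) (hf_one i) (hS d) : ↥(twistedE6 K q)) :
      GL chevE6.Idx K) = hv (psi Nodes.RGDTwE6.hp.inList K) φ (E6.rep i :: E6.rest i) (hS (d : K)) := by
  show Ph Nodes.RGDTwE6.hp K (E6.nodeOK i) φ (Matrix.SpecialLinearGroup.map _ (hS d)) = _
  rw [map_hS]
  rfl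

open Cfsg.Agent.Nodes.RGDTwNode in
/-- **The torus of `²E₆(q)` acts on the Levi components by inner automorphisms up to the exponent `12`.** -/
theorem exists_inner [Fintype K] (hφ : ∀ x, φ x = x ^ q) (hqq : ∀ t : K, (t ^ q) ^ q = t) (J : Set (Fin 4)) :
    ∀ t ∈ Nodes.RGDTwE6.T K q,
      ∃ s ∈ MJ CoxeterMatrix.F₄.toCoxeterSystem Nodes.RGDTwE6.isCartan (Nodes.RGDTwE6.X φ q) J,
      ∀ a ∈ MJ CoxeterMatrix.F₄.toCoxeterSystem Nodes.RGDTwE6.isCartan (Nodes.RGDTwE6.X φ q) J,
        t ^ 12 * a * (t ^ 12)⁻¹ = s * a * s⁻¹ := by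
  classical
  rintro ⟨t, htG⟩ ht
  have htD : t ∈ chevE6.diagonalSubgroup K := (Subgroup.mem_subgroupOf.1 ht).1
  obtain ⟨c, hc, rfl⟩ := exists_hP Nodes.RGDTwE6.hp htD
  obtain ⟨b, hbd⟩ : ∃ b : Fin 6 → K, ∀ k, b k = ∏ j : Fin 6, c j ^ cartanOf chevE6 6 j k := ⟨_, fun _ => rfl⟩
  obtain ⟨β, hβ⟩ : ∃ β : Fin 4 → Bool, ∀ i, β i = true ↔ i ∈ J := ⟨fun i => decide (i ∈ J), fun i => by simp⟩
  obtain ⟨e, hed⟩ : ∃ e : Fin 6 → K, ∀ j, e j = ∏ i, b i ^ Bm β i j := ⟨_, fun _ => rfl⟩
  have hb : ∀ k, b k ≠ 0 := fun k => by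
    rw [hbd]; exact Finset.prod_ne_zero_iff.2 fun j _ => zpow_ne_zero _ (hc j)
  have he : ∀ j, e j ≠ 0 := fun j => by
    rw [hed]; exact Finset.prod_ne_zero_iff.2 fun i _ => zpow_ne_zero _ (hb i)
  have hbr : ∀ k, b (rk k) = φ (b k) := fun k => by
    rw [hbd, hbd]; exact char_rk hφ hqq hc htG k
  let ρ : Fin 6 ≃ Fin 6 := ⟨rk, rk, rk_rk, rk_rk⟩
  have her : ∀ j, e (rk j) = φ (e j) := by
    intro j
    rw [hed, hed, map_prod, ← Equiv.prod_comp ρ]
    refine Finset.prod_congr rfl fun i _ => ?_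
    show b (rk i) ^ Bm β (rk i) (rk j) = _
    rw [map_zpow₀, ← hbr, Bm_rk]
  have he1 : ∀ j, blk j ∉ J → e j = 1 := by
    intro j hj
    rw [hed]
    refine Finset.prod_eq_one fun i _ => ?_
    have h0 : Bm β i j = 0 := by
      by_contra h1
      exact hj ((hβ _).1 (Bm_supp β i j h1).2)
    rw [h0, zpow_zero]
  have hact := act_hP Nodes.RGDTwE6.hp CoxeterMatrix.E₆.toCoxeterSystem (J := {j | blk j ∈ J}) (d := 12)
    (B := Bm β) (fun i j h1 => ⟨(hβ _).1 (Bm_supp β i j h1).1, (hβ _).1 (Bm_supp β i j h1).2⟩)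
    (fun i hi k hk => Bm_mul β i k ((hβ _).2 hi) ((hβ _).2 hk)) hc hbd hed
  have FG := Nodes.RGDTwE6.foldGrp hφ hqq
  -- the elements of the blocks
  have key : ∀ (i : Fin 4) (j : Fin 6), blk j = i → e j ∈ Fx φ ((E6.rest i).length + 1) →
      ∃ g ∈ MJ CoxeterMatrix.F₄.toCoxeterSystem Nodes.RGDTwE6.isCartan (Nodes.RGDTwE6.X φ q) J,
        (g : GL chevE6.Idx K) = hv (psi Nodes.RGDTwE6.hp.inList K) φ (E6.rep i :: E6.rest i) (hS (e j)) := by
    intro i j hij hm
    refine ⟨Phi FG (E6.nodeOK i) (hf_one i) (hS ⟨e j, hm⟩), ?_, coe_Phi_hS hφ hqq i _⟩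
    by_cases hi : i ∈ J
    · exact Phi_mem hφ hqq hi _
    · have h1 : (⟨e j, hm⟩ : Fx φ ((E6.rest i).length + 1)) = 1 := Subtype.ext (he1 j (by rw [hij]; exact hi))
      rw [h1, hS_one, map_one]
      exact one_mem _
  have hφφ : ∀ a : K, φ (φ a) = a := fun a => by rw [hφ, hφ, hqq]
  obtain ⟨g0, hg0, h0⟩ := key 0 1 rfl (mem_Fx.2 (her 1).symm)
  obtain ⟨g1, hg1, h1⟩ := key 1 3 rfl (mem_Fx.2 (her 3).symm)
  obtain ⟨g2, hg2, h2⟩ := key 2 2 rfl (mem_Fx.2 (hφφ _))
  obtain ⟨g3, hg3, h3⟩ := key 3 0 rfl (mem_Fx.2 (hφφ _))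
  refine ⟨g3 * (g0 * (g2 * g1)), mul_mem hg3 (mul_mem hg0 (mul_mem hg2 hg1)), fun a ha => ?_⟩
  have hs : ((g3 * (g0 * (g2 * g1)) : ↥(twistedE6 K q)) : GL chevE6.Idx K) = hP Nodes.RGDTwE6.hp.inList 6 e := by
    obtain ⟨H, hH⟩ : ∃ H : Fin 6 → GL chevE6.Idx K, ∀ j, H j = hG Nodes.RGDTwE6.hp.inList (chevE6.simple j) (e j) :=
      ⟨_, fun _ => rfl⟩
    have hc : ∀ i j, H i * H j = H j * H i := fun i j => by
      rw [hH, hH]
      exact OddHalf.Small.ChevCent.diag_comm Nodes.RGDTwE6.hp.inList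
        (hG_mem_diagonal Nodes.RGDTwE6.hp.inList (simple_lt Nodes.RGDTwE6.hp.inList (lt_rank Nodes.RGDTwE6.hp i)) (he i))
        (hG_mem_diagonal Nodes.RGDTwE6.hp.inList (simple_lt Nodes.RGDTwE6.hp.inList (lt_rank Nodes.RGDTwE6.hp j)) (he j))
    have hpsi : ∀ (j : Fin 6) (r : ℕ) (u : K), r = chevE6.simple j → u = e j →
        psi Nodes.RGDTwE6.hp.inList K r (hS u) = H j := by
      rintro j r u rfl rfl
      rw [hH, psi_hS _ (simple_lt Nodes.RGDTwE6.hp.inList (lt_rank Nodes.RGDTwE6.hp j))]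
    have k0 : (g0 : GL chevE6.Idx K) = H 1 * 1 := by
      rw [h0]
      show psi Nodes.RGDTwE6.hp.inList K (E6.rep 0) (hS (e 1)) * 1 = _
      rw [hpsi 1 _ _ (by decide +kernel) rfl]
    have k1 : (g1 : GL chevE6.Idx K) = H 3 * 1 := by
      rw [h1]
      show psi Nodes.RGDTwE6.hp.inList K (E6.rep 1) (hS (e 3)) * 1 = _
      rw [hpsi 3 _ _ (by decide +kernel) rfl]
    have k2 : (g2 : GL chevE6.Idx K) = H 2 * (H 4 * 1) := by
      rw [h2]
      show psi Nodes.RGDTwE6.hp.inList K (E6.rep 2) (hS (e 2)) *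
        (psi Nodes.RGDTwE6.hp.inList K 37 (Matrix.SpecialLinearGroup.map φ (hS (e 2))) * 1) = _
      rw [map_hS, hpsi 2 _ _ (by decide +kernel) rfl, hpsi 4 _ _ (by decide +kernel) (her 2).symm]
    have k3 : (g3 : GL chevE6.Idx K) = H 0 * (H 5 * 1) := by
      rw [h3]
      show psi Nodes.RGDTwE6.hp.inList K (E6.rep 3) (hS (e 0)) *
        (psi Nodes.RGDTwE6.hp.inList K 36 (Matrix.SpecialLinearGroup.map φ (hS (e 0))) * 1) = _
      rw [map_hS, hpsi 0 _ _ (by decide +kernel) rfl, hpsi 5 _ _ (by decide +kernel) (her 0).symm]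
    have k : hP Nodes.RGDTwE6.hp.inList 6 e = H 0 * (H 1 * (H 2 * (H 3 * (H 4 * (H 5 * 1))))) := by
      rw [hH, hH, hH, hH, hH, hH]
      rfl
    rw [k, six (hc 4 5) (hc 3 5) (hc 2 5) (hc 1 5) (hc 3 4), Subgroup.coe_mul, Subgroup.coe_mul, Subgroup.coe_mul,
      k0, k1, k2, k3]
  apply Subtype.ext
  have h4 := hact a (coe_mem_MJ hφ hqq J ha)
  rw [← hs] at h4
  exact h4

end Tw

end Cfsg.Agent.H255.Inv.TwTor
end

private theorem dce_b34a09ea089d : _root_.True := by
  try have : _root_.True := by simp only [_root_.Cfsg.Agent.H292.S38.Tab.sepC.eq_1]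
  try have : _root_.True := by simp only [_root_.Cfsg.Agent.H292.S38.Tab.invC.eq_1]
  try have : _root_.True := by simp only [_root_.Cfsg.Agent.Nodes.RGDFoldSL.Phi.congr_simp]
  try have : _root_.True := by simp only [_root_.Cfsg.Agent.H153.Exc.hP.congr_simp]
  exact _root_.True.intro
end

-- part: H880/Inv/Nondeg_mg
section
prune_inst 0x1500012404c01200000000102020046022000420004004000ce001020801a84008804000b810011412000085400100000000000000000000000000000118008000001406b0480008c00098000000000000000000000000000000000000000000000000000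
set_option linter.all false
open scoped Cfsg.Agent.FastGrp

-- part: H880/Inv/Quasi
section
/-!
# S3830: proper invariant quasisimple subgroups with a centre of odd order (for helper459)

* `ns_of_quasi` : `M < K` invariant under `x`, quasisimple with a centre of odd order, not centralised by `x`, and the
  induction hypothesis: `NS x`.
-/

set_option autoImplicit false
set_option linter.unusedSectionVars false

namespace Cfsg.Agent.H880.Inv

open Cfsg Subgroup Cfsg.Agent.H459.Rad Cfsg.Agent.H459.Inv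
open Cfsg.Agent.SignalizersComponents.Components

open scoped commutatorElement

universe u

/-- an automorphism of a perfect group that is trivial modulo the centre is trivial -/
theorem eq_one_of_perfect {M : Type*} [Group M] (hp : Group.IsPerfect M) {φ : MulAut M}
    (h : ∀ m : M, m⁻¹ * φ m ∈ center M) : φ = 1 := by
  have hperf : commutator M = ⊤ := hp.commutator_eq_top
  have h1 : (⊤ : Subgroup M) ≤ MonoidHom.eqLocus φ.toMonoidHom (MonoidHom.id M) := by
    rw [← hperf, commutator_def, commutator_le]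
    intro a _ b _
    have h2 : ∀ m : M, ∃ z ∈ center M, φ m = m * z := fun m => ⟨_, h m, by group⟩
    obtain ⟨u, hu, hu'⟩ := h2 a
    obtain ⟨v, hv, hv'⟩ := h2 b
    have hcu : ∀ m, Commute u m := fun m => ((mem_center_iff.1 hu) m).symm
    have hcv : ∀ m, Commute v m := fun m => ((mem_center_iff.1 hv) m).symm
    show φ ⁅a, b⁆ = ⁅a, b⁆
    rw [map_commutatorElement, hu', hv', commutatorElement_def, commutatorElement_def]
    have e1 : a * u * (b * v) = a * b * (u * v) := by
      rw [mul_assoc a u, ← mul_assoc u b v, (hcu b).eq, mul_assoc b u v, ← mul_assoc]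
    have e2 : (a * u)⁻¹ * (b * v)⁻¹ = (u * v)⁻¹ * (a⁻¹ * b⁻¹) := by
      have h4 : Commute (v⁻¹) (a⁻¹) := ((hcv a).inv_left).inv_right
      have h5 : Commute (v⁻¹) (u⁻¹) := ((hcv u).inv_left).inv_right
      rw [mul_inv_rev, mul_inv_rev, mul_inv_rev, h5.eq]
      calc u⁻¹ * a⁻¹ * (v⁻¹ * b⁻¹) = u⁻¹ * (a⁻¹ * v⁻¹) * b⁻¹ := by group
        _ = u⁻¹ * (v⁻¹ * a⁻¹) * b⁻¹ := by rw [h4.eq]
        _ = u⁻¹ * v⁻¹ * (a⁻¹ * b⁻¹) := by group
    have hc : Commute (u * v) (a⁻¹ * b⁻¹) := Commute.mul_left (hcu _) (hcv _)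
    calc a * u * (b * v) * (a * u)⁻¹ * (b * v)⁻¹ = (a * u * (b * v)) * ((a * u)⁻¹ * (b * v)⁻¹) := by group
      _ = (a * b * (u * v)) * ((u * v)⁻¹ * (a⁻¹ * b⁻¹)) := by rw [e1, e2]
      _ = a * b * a⁻¹ * b⁻¹ := by group
  ext m
  exact h1 (mem_top m)

variable {K : Type u} [Group K] [Finite K]

/-- the restriction of an automorphism to an invariant subgroup -/
theorem exists_restrict {x : MulAut K} {M : Subgroup K} (hM : ∀ m ∈ M, x m ∈ M) :
    ∃ φ : MulAut M, ∀ m : M, φ m = ⟨x m, hM m m.2⟩ := by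
  let f : M →* M := (x.toMonoidHom.comp M.subtype).codRestrict M (fun m => hM m m.2)
  have hf : Function.Injective f := by
    intro a b hab
    have h1 : x (a : K) = x (b : K) := congrArg Subtype.val hab
    exact Subtype.ext (x.injective h1)
  exact ⟨MulEquiv.ofBijective f (Finite.injective_iff_bijective.1 hf), fun m => rfl⟩

/-- **Proper invariant quasisimple subgroups with a centre of odd order.** -/
theorem ns_of_quasi {p : ℕ} (hp : p.Prime) {x : MulAut K} (hx : x ^ p = 1)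
    (hI : IH.{u} p (Nat.card K)) {M : Subgroup K} (hMt : M ≠ ⊤) (hM : ∀ m ∈ M, x m ∈ M) (hq : IsQuasisimple M)
    (hodd : Odd (Nat.card (center M))) (hne : ∃ m ∈ M, x m ≠ m) : NS x := by
  obtain ⟨φ, hφ⟩ := exists_restrict hM
  have hφp : φ ^ p = 1 := by
    have h1 : ∀ k : ℕ, ∀ m : M, (((φ ^ k) m : M) : K) = (x ^ k) (m : K) := by
      intro k
      induction k with
      | zero => intro m; rfl
      | succ k ih =>
        intro m
        rw [pow_succ', pow_succ', MulAut.mul_apply, MulAut.mul_apply, hφ]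
        show x (((φ ^ k) m : M) : K) = _
        rw [ih]
    ext m
    rw [h1, hx]
    rfl
  have hcen : (center M).map φ.toMonoidHom = center M := (Subgroup.characteristic_iff_map_eq.1 inferInstance) φ
  let ψ : MulAut (M ⧸ center M) := QuotientGroup.congr (center M) (center M) φ hcen
  have hψ : ∀ m : M, ψ (QuotientGroup.mk m) = QuotientGroup.mk (φ m) := fun m => rfl
  have hψp : ψ ^ p = 1 := by
    have h1 : ∀ k : ℕ, ∀ m : M, (ψ ^ k) (QuotientGroup.mk m) = QuotientGroup.mk ((φ ^ k) m) := by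
      intro k
      induction k with
      | zero => intro m; rfl
      | succ k ih =>
        intro m
        rw [pow_succ', pow_succ', MulAut.mul_apply, MulAut.mul_apply, ih, hψ]
    ext m
    obtain ⟨m, rfl⟩ := QuotientGroup.mk_surjective m
    rw [h1, hφp]
    rfl
  have hψ1 : ψ ≠ 1 := by
    intro h
    have h1 : φ = 1 := by
      apply eq_one_of_perfect (quasisimple_isPerfect hq)
      intro m
      have h2 := hψ m
      rw [h] at h2
      exact QuotientGroup.eq.1 h2
    obtain ⟨m, hm, hmx⟩ := hne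
    apply hmx
    have h2 := hφ ⟨m, hm⟩
    rw [h1] at h2
    exact (congrArg Subtype.val h2).symm
  have : Fact p.Prime := ⟨hp⟩
  have hord : orderOf ψ = p := orderOf_eq_prime hψp hψ1
  have hS : IsSimpleGroup (M ⧸ center M) := hq.2
  have hnc : ¬ IsMulCommutative (M ⧸ center M) := by
    intro h
    have h3 : Group.IsSolvable (M ⧸ center M) := Group.isSolvable_of_comm fun a b => h.is_comm.comm a b
    exact quasisimple_not_isSolvable hq (isSolvable_of_quotient (center M)
      (Group.isSolvable_of_comm fun a b => mul_comm' a b) h3)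
  have hlt : Nat.card (M ⧸ center M) < Nat.card K := by
    have h1 : Nat.card (M ⧸ center M) ≤ Nat.card M := Nat.card_le_card_of_surjective _ QuotientGroup.mk_surjective
    have h2 : Nat.card M < Nat.card K := by
      have h3 := Subgroup.card_le_card_group M
      refine lt_of_le_of_ne h3 fun h4 => hMt ?_
      exact Subgroup.eq_top_of_card_eq M h4
    omega
  refine ns_of_odd hM (QuotientGroup.mk' (center M)) (QuotientGroup.mk'_surjective _) ?_ ψ ?_ (hI _ hnc hlt ψ hord)
  · rwa [QuotientGroup.ker_mk']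
  · intro m
    show QuotientGroup.mk _ = ψ (QuotientGroup.mk m)
    rw [hψ, hφ]

end Cfsg.Agent.H880.Inv
end

-- part: H880/Inv/Nondeg
section
/-!
# S3830, the row `PSU_n(q)`: invariant non-degenerate subspaces (for helper459)

* `ns_nondeg` : `A` leaves the non-degenerate subspace `W`, `2 ≤ dim W < n`, invariant, `SU(W)` is quasisimple with a
  centre of odd order, some singular vector of `W` is not an eigenvector of `A`: `NS (toAut A 1)` (with the induction
  hypothesis);
* `odd_center`, `odd_center_two` : the centre of `SU_m(q)`, `q` even;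
* `ih_down` : the induction hypothesis in `Type`.
-/

set_option autoImplicit false
set_option linter.unusedSectionVars false

namespace Cfsg.Agent.H880.Inv

open Matrix Subgroup Module Cfsg Cfsg.Agent.H459.Rad Cfsg.Agent.H459.Iface Cfsg.Agent.H459.Inv Cfsg.Agent.H880.Cl
open Cfsg.Agent.LieClassical.HermBasic Cfsg.Agent.LieClassical.HermSiegel
open Cfsg.Agent.ClassicalGeometry.PSUAutBasic Cfsg.Agent.ClassicalGeometry.HermOrtho
open Cfsg.Agent.ClassicalGeometry.PSUAutCount (toAut gm gm_mul gm_one gm_mul_inv gm_inv_mul semiConj guConj act_guConj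
  herm_gm gm_inv_mulVec gm_mulVec_inv herm_map gm_inj)
open Cfsg.Agent.LieClassical.SUBasic (mem_center_SU_iff suScalar coe_suScalar)

universe u

/-- the induction hypothesis in `Type` -/
theorem ih_down {p N : ℕ} (h : IH.{u} p N) : IH.{0} p N := by
  intro L _ _ _ hc hn
  let e : ULift.{u} L ≃* L := MulEquiv.ulift
  have hf : Finite (ULift.{u} L) := inferInstance
  have hs : IsSimpleGroup (ULift.{u} L) := e.isSimpleGroup
  refine IRow.congr e.symm (h (ULift.{u} L) ?_ ?_)
  · intro h1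
    apply hc
    exact ⟨⟨fun a b => congrArg ULift.down (h1.is_comm.comm (ULift.up a) (ULift.up b))⟩⟩
  · rwa [Nat.card_congr e.toEquiv]

theorem odd_card_of {H : Type*} [Group H] [Finite H] (h : ∀ z : H, z ^ 2 = 1 → z = 1) : Odd (Nat.card H) := by
  by_contra h1
  rw [Nat.not_odd_iff_even] at h1
  have : Fact (Nat.Prime 2) := ⟨Nat.prime_two⟩
  obtain ⟨z, hz⟩ := exists_prime_orderOf_dvd_card' (G := H) 2 h1.two_dvd
  have h2 := h z (by rw [← hz, pow_orderOf_eq_one])
  rw [h2, orderOf_one] at hz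
  omega

theorem eq_one_of_sq {F : Type*} [Field F] [CharP F 2] {c : F} (h : c ^ 2 = 1) : c = 1 := by
  have h1 : (c - 1) ^ 2 = 0 := by
    rw [sub_pow_char_of_commute _ (Commute.one_right c), h, one_pow, sub_self]
  exact sub_eq_zero.1 (pow_eq_zero_iff two_ne_zero |>.1 h1)

/-- the centre of `SU_m(q)`, `m ≥ 3`, `q` even, has odd order -/
theorem odd_center {F : Type*} [Field F] [Fintype F] [CharP F 2] {q m : ℕ} (hF : Fintype.card F = q ^ 2)
    (hm : 3 ≤ m) : Odd (Nat.card (center (SU m F q))) := by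
  have : Finite (SU m F q) := inferInstance
  apply odd_card_of
  rintro ⟨z, hz⟩ h
  obtain ⟨c, hcn, hcq, rfl⟩ := (mem_center_SU_iff hF hm z).1 hz
  have h1 : suScalar q c hcn hcq ^ 2 = 1 := congrArg Subtype.val h
  obtain ⟨d, -, -, hd⟩ := exists_scalar_of_mem_center hF hm hz
  have h2 : ∀ v : Fin m → F, v = (d * d) • v := by
    intro v
    have h3 : act (suScalar q c hcn hcq ^ 2) v = v := by rw [h1, act_one]
    rw [pow_two, act_mul, hd, hd, smul_smul] at h3
    exact h3.symm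
  have h3 := congrFun (h2 (Pi.single ⟨0, by omega⟩ 1)) ⟨0, by omega⟩
  rw [Pi.smul_apply, Pi.single_eq_same, smul_eq_mul, mul_one] at h3
  have h4 : d = 1 := eq_one_of_sq (by rw [pow_two]; exact h3.symm)
  apply Subtype.ext
  apply ext_act
  intro v
  show act (suScalar q c hcn hcq) v = act 1 v
  rw [hd, h4, one_smul, act_one]

/-- the centre of `SU_2(q)`, `q` even, has odd order -/
theorem odd_center_two {F : Type} [Field F] [Fintype F] [CharP F 2] {q : ℕ} (hF : Fintype.card F = q ^ 2) :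
    Odd (Nat.card (center (SU 2 F q))) := by
  classical
  have : Fact (Nat.Prime 2) := ⟨Nat.prime_two⟩
  obtain ⟨m, _, hm⟩ := FiniteField.card F 2
  have hq2 := two_le hF
  rw [hF] at hm
  have h1 : q ∣ 2 ^ (m : ℕ) := by rw [← hm]; exact dvd_pow_self q two_ne_zero
  obtain ⟨n, -, hn⟩ := (Nat.dvd_prime_pow Nat.prime_two).1 h1
  have hn0 : n ≠ 0 := by
    rintro rfl
    rw [pow_zero] at hn
    omega
  have : Fintype (GaloisField 2 n) := Fintype.ofFinite _
  have hcard : Fintype.card (GaloisField 2 n) = q := by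
    rw [← Nat.card_eq_fintype_card, GaloisField.card 2 n hn0, hn]
  obtain ⟨e⟩ := S0281.result hF hcard
  rw [Nat.card_congr (Subgroup.centerCongr e).toEquiv]
  apply odd_card_of
  rintro ⟨z, hz⟩ h
  obtain ⟨r, hr, hr'⟩ := Matrix.SpecialLinearGroup.mem_center_iff.1 hz
  rw [Fintype.card_fin] at hr
  have h2 := eq_one_of_sq hr
  apply Subtype.ext
  apply Subtype.ext
  show (z : Matrix (Fin 2) (Fin 2) (GaloisField 2 n)) = 1
  rw [← hr', h2, map_one]

section

variable {F : Type} [Field F] [Fintype F] {q n : ℕ}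

/-- **Invariant non-degenerate subspaces.** -/
theorem ns_nondeg (hF : Fintype.card F = q ^ 2) (hn : 3 ≤ n) {p : ℕ} (hp : p.Prime) {A : GU n F q}
    (hx : (toAut A 1 : MulAut (PSU n F q)) ^ p = 1) (hI : IH.{0} p (Nat.card (PSU n F q)))
    {W : Submodule F (Fin n → F)}
    (hW : ∀ u ∈ W, (∀ v ∈ W, hermForm n F q u v = 0) → u = 0) (hAW : ∀ w ∈ W, gm A *ᵥ w ∈ W)
    {m : ℕ} (hm : finrank F W = m) (h2 : 2 ≤ m) (hlt : m < n)
    (hq : IsQuasisimple (SU m F q)) (hodd : Odd (Nat.card (center (SU m F q))))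
    {u : Fin n → F} (huW : u ∈ W) (hu0 : u ≠ 0) (huu : hermForm n F q u u = 0)
    (hns : ∀ c : F, gm A *ᵥ u ≠ c • u) : NS (toAut A 1 : MulAut (PSU n F q)) := by
  obtain ⟨r, hr⟩ := CharP.exists F
  have hrp : r.Prime := (CharP.char_is_prime_or_zero F r).resolve_right (CharP.char_ne_zero_of_finite F r)
  have : Fact r.Prime := ⟨hrp⟩
  obtain ⟨φ, hφ, hran⟩ := exists_phi hF hW hm
  have hWp : hermPerp q (W : Set (Fin n → F)) ≠ ⊥ := by
    intro h
    have h1 := finrank_hermPerp_of_nondeg hF W hW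
    rw [h, finrank_bot] at h1
    omega
  have hWb : W ≠ ⊥ := by
    intro h
    rw [h, finrank_bot] at hm
    omega
  obtain ⟨v₀, hv₀, hv₀1⟩ := exists_norm_one_vector hF _ (hermPerp_nondeg hF W hW) hWp
  obtain ⟨w₀, hw₀, hw₀1⟩ := exists_norm_one_vector hF W hW hWb
  have hv₀0 : v₀ ≠ 0 := by
    rintro rfl
    rw [herm_zero_left] at hv₀1
    exact zero_ne_one hv₀1
  obtain ⟨μ, hμ0, hμ⟩ := exists_trace_zero_ne hF
  obtain ⟨c₀, hc₀⟩ := exists_norm_eq hF (c := -1) (by rw [neg_pow_q hF, one_pow])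
  -- elements of the image act as scalars on `W^⊥`
  have hscal : ∀ g f : SU n F q, f ∈ fixP q W → pr n F q f = pr n F q g →
      ∃ c : F, ∀ v ∈ hermPerp q (W : Set (Fin n → F)), act g v = c • v := by
    intro g f hf h
    obtain ⟨z, hz, rfl⟩ := exists_center_mul h
    obtain ⟨c, -, -, hc⟩ := exists_scalar_of_mem_center hF hn hz
    exact ⟨c, fun v hv => by rw [act_mul, hc, act_smul, hf v hv]⟩
  have hinj : Function.Injective ((pr n F q).comp φ) := by
    rw [injective_iff_map_eq_one]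
    intro a ha
    have h1 : φ a ∈ fixP q W := hran ▸ ⟨a, rfl⟩
    have h3 : pr n F q (φ a) = 1 := ha
    rw [pr_eq_one_iff] at h3
    obtain ⟨c, -, -, hc⟩ := exists_scalar_of_mem_center hF hn h3
    have h4 := h1 v₀ hv₀
    rw [hc] at h4
    have h5 : (c - 1) • v₀ = 0 := by rw [sub_smul, one_smul, h4, sub_self]
    have h6 : c = 1 := by
      rcases smul_eq_zero.mp h5 with h | h
      · exact sub_eq_zero.mp h
      · exact absurd h hv₀0
    apply hφ
    rw [map_one]
    apply ext_act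
    intro v
    rw [hc, h6, one_smul, act_one]
  set M : Subgroup (PSU n F q) := ((pr n F q).comp φ).range with hM
  have hMmem : ∀ x, x ∈ M ↔ ∃ f ∈ fixP q W, pr n F q f = x := by
    intro x
    constructor
    · rintro ⟨a, rfl⟩
      exact ⟨φ a, hran ▸ ⟨a, rfl⟩, rfl⟩
    · rintro ⟨f, hf, rfl⟩
      rw [← hran] at hf
      obtain ⟨a, rfl⟩ := hf
      exact ⟨a, rfl⟩
  let e : SU m F q ≃* M := MonoidHom.ofInjective hinj
  have hMq : IsQuasisimple M :=
    SignalizersComponents.Components.isQuasisimple_of_mulEquiv e hq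
  have hMtop : M ≠ ⊤ := by
    intro htop
    -- the transvection with centre `v₀ + c₀ w₀`
    have hvw : hermForm n F q v₀ w₀ = 0 := hv₀ w₀ hw₀
    have hwv : hermForm n F q w₀ v₀ = 0 := herm_eq_zero_swap hF hvw
    have hu : hermForm n F q (v₀ + c₀ • w₀) (v₀ + c₀ • w₀) = 0 := by
      rw [herm_add_left, herm_add_right hF, herm_add_right hF, herm_smul_left, herm_smul_right, herm_smul_left,
        herm_smul_right, hv₀1, hw₀1, hvw, hwv]
      linear_combination hc₀
    have hvu : hermForm n F q v₀ (v₀ + c₀ • w₀) = 1 := by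
      rw [herm_add_right hF, herm_smul_right, hv₀1, hvw, mul_zero, add_zero]
    have hmem : pr n F q (transv hF _ hu μ hμ) ∈ M := by rw [htop]; exact mem_top _
    obtain ⟨f, hf, hfe⟩ := (hMmem _).1 hmem
    obtain ⟨c, hc⟩ := hscal _ f hf hfe
    have h1 := hc v₀ hv₀
    rw [act_transv, hvu, mul_one] at h1
    -- pair with `w₀`
    have h3 := congrArg (fun v => hermForm n F q v w₀) h1
    simp only [herm_add_left, herm_smul_left, hvw, hw₀1] at h3
    have hc₀0 : c₀ ≠ 0 := by
      rintro rfl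
      rw [zero_mul] at hc₀
      exact one_ne_zero (neg_eq_zero.mp hc₀.symm)
    have h4 : μ * c₀ = 0 := by linear_combination h3
    exact (mul_ne_zero hμ0 hc₀0) h4
  have hMinv : ∀ x ∈ M, toAut A 1 x ∈ M := by
    intro x hx
    rw [hMmem] at hx ⊢
    obtain ⟨f, hf, rfl⟩ := hx
    refine ⟨guConj A f, fun v hv => ?_, rfl⟩
    rw [act_guConj, hf, gm_mulVec_inv]
    intro w hw
    rw [← herm_gm A, gm_mulVec_inv]
    exact hv _ (hAW w hw)
  have ht : transv hF u huu μ hμ ∈ fixP q W := by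
    intro v hv
    rw [act_transv, hv u huW, mul_zero, zero_smul, add_zero]
  refine ns_of_quasi hp hx hI hMtop hMinv hMq ?_ ⟨_, (hMmem _).2 ⟨_, ht, rfl⟩, ?_⟩
  · rw [← Nat.card_congr (Subgroup.centerCongr e).toEquiv]
    exact hodd
  -- `x` does not fix the transvection
  intro hfix
  have hfix' : pr n F q (guConj A (transv hF u huu μ hμ)) = pr n F q (transv hF u huu μ hμ) := hfix
  obtain ⟨k, hk⟩ := siegel_pow_prime_pow hF r (isSiegel_zero huu hμ)
  have hk' : transv hF u huu μ hμ ^ r ^ k = 1 := hk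
  have hcomm : guConj A (transv hF u huu μ hμ) = transv hF u huu μ hμ :=
    eq_of_pr_eq hF hn (k := k) (l := k) (by rw [← map_pow, hk', map_one]) hk' hfix'
  obtain ⟨v, hv⟩ := exists_herm_ne_zero hF hu0
  have hv' : hermForm n F q v u ≠ 0 := fun h1 => hv (herm_eq_zero_swap hF h1)
  have h5 : act (guConj A (transv hF u huu μ hμ)) (gm A *ᵥ v) = act (transv hF u huu μ hμ) (gm A *ᵥ v) := by
    rw [hcomm]
  rw [act_guConj, gm_inv_mulVec, act_transv, act_transv, mulVec_add, mulVec_smul] at h5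
  have h6 := add_left_cancel h5
  have h7 : gm A *ᵥ u = ((μ * hermForm n F q v u)⁻¹ * (μ * hermForm n F q (gm A *ᵥ v) u)) • u := by
    rw [← smul_smul, ← h6, inv_smul_smul₀ (mul_ne_zero hμ0 hv')]
  exact hns _ h7

/-- a singular vector of a non-degenerate subspace of dimension at least two -/
theorem exists_sing_vec (hF : Fintype.card F = q ^ 2) {W : Submodule F (Fin n → F)}
    (hW : ∀ u ∈ W, (∀ v ∈ W, hermForm n F q u v = 0) → u = 0) (h2 : 2 ≤ finrank F W) :
    ∃ u ∈ W, u ≠ 0 ∧ hermForm n F q u u = 0 := by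
  obtain ⟨c₀, hc₀⟩ := exists_norm_eq hF (c := -1) (by rw [neg_pow_q hF, one_pow])
  obtain ⟨b, hbW, hb⟩ := exists_orthonormal hF W hW rfl
  have hij : (⟨0, by omega⟩ : Fin (finrank F W)) ≠ ⟨1, by omega⟩ := by simp
  set u := b ⟨0, by omega⟩ + c₀ • b ⟨1, by omega⟩ with hu_def
  refine ⟨u, W.add_mem (hbW _) (W.smul_mem _ (hbW _)), ?_, ?_⟩
  · intro h0
    have h1 : hermForm n F q u (b ⟨0, by omega⟩) = 0 := by rw [h0, herm_zero_left]
    rw [hu_def, herm_add_left, herm_smul_left, hb, hb, if_pos rfl, if_neg (Ne.symm hij), mul_zero, add_zero] at h1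
    exact one_ne_zero h1
  · rw [hu_def, herm_add_left, herm_add_right hF, herm_add_right hF, herm_smul_left, herm_smul_right, herm_smul_left,
      herm_smul_right, hb, hb, hb, hb, if_pos rfl, if_pos rfl, if_neg hij, if_neg (Ne.symm hij)]
    linear_combination hc₀

end

end Cfsg.Agent.H880.Inv
end

-- part: H803/Inv/Four
section
/-!
# Irreducible solvable groups containing an element of large prime order (helper803, for S3830)

* `exists_z` : an element `z` of order `p` whose conjugates commute with `g`;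
* `scalar_eq_one` : no scalars of order `p` if `g` acts irreducibly in dimension at least two;
* `four_dim` : `U = W ⊕ W'`, the only `g`-invariant subspaces are `0, W, W', U`.
-/

set_option autoImplicit false
set_option linter.unusedSectionVars false

namespace Cfsg.Agent.H803.Inv

open Cfsg Subgroup

universe u v

section Four

variable {F : Type u} [Field F] {W : Type v} [AddCommGroup W] [Module F W]
variable [Finite F] [FiniteDimensional F W] [Nontrivial W] {p : ℕ} [hp : Fact p.Prime]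

/-- **Irreducible solvable groups.** -/
theorem exists_z (h20 : (2 : F) = 0) (hpF : (p : F) ≠ 0) {g : W ≃ₗ[F] W} (hgp : g ^ p = 1) (hg1 : g ≠ 1)
    (hlt : Module.finrank F W < p) {H : Subgroup (W ≃ₗ[F] W)} (hH : Group.IsSolvable H) (hgH : g ∈ H)
    (hs : ∀ U : Submodule F W, (∀ h ∈ H, ∀ w ∈ U, h w ∈ U) → U = ⊥ ∨ U = ⊤) :
    ∃ z : W ≃ₗ[F] W, z ≠ 1 ∧ z ^ p = 1 ∧ ∀ h ∈ H, (h * z * h⁻¹) * g = g * (h * z * h⁻¹) := by
  have hVf : Finite W := Module.finite_of_finite F
  have hf0 : Finite (W ≃ₗ[F] W) := Finite.of_injective (fun h : W ≃ₗ[F] W => (h : W → W)) DFunLike.coe_injective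
  obtain ⟨ρ, hρ⟩ := exists_rep (F := F) (W := W)
  set K := AlgebraicClosure F with hK
  have hrk : Module.finrank K (Fin (Module.finrank F W) → K) = Module.finrank F W := by
    rw [Module.finrank_pi, Fintype.card_fin]
  -- the characteristic
  obtain ⟨ℓ, hℓc⟩ := CharP.exists F
  have hℓ : Fact ℓ.Prime := ⟨CharP.char_is_prime F ℓ⟩
  have hcK : CharP K ℓ := charP_of_injective_algebraMap (algebraMap F K).injective ℓ
  have hℓ2 : ℓ = 2 := by
    have h6 : ((2 : ℕ) : F) = 0 := by exact_mod_cast h20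
    rwa [CharP.cast_eq_zero_iff F ℓ, Nat.prime_dvd_prime_iff_eq hℓ.out Nat.prime_two] at h6
  set x : H := ⟨g, hgH⟩ with hx
  have hxp : x ^ p = 1 := Subtype.ext hgp
  have hx1 : x ≠ 1 := fun h => hg1 (congrArg Subtype.val h)
  -- `O_ℓ(H) = 1`
  have hcoreℓ : pCore ℓ H = ⊥ := by
    set R := pCore ℓ H with hR
    have hRn : R.Normal := Cfsg.Agent.Lib.Cores.pCore_normal ℓ
    have hP : IsPGroup ℓ R := Cfsg.Agent.Lib.Cores.pCore_isPGroup ℓ
    let U : Submodule F W :=
      { carrier := {w | ∀ h ∈ R, (h : W ≃ₗ[F] W) w = w}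
        add_mem' := by
          intro a b ha hb h hh
          rw [map_add, ha h hh, hb h hh]
        zero_mem' := by
          intro h _
          exact map_zero _
        smul_mem' := by
          intro c a ha h hh
          rw [map_smul, ha h hh] }
    have hU : U = ⊤ := by
      refine (hs U ?_).resolve_left ?_
      · intro k hk w hw h hh
        have h2 := hw ((⟨k, hk⟩ : H)⁻¹ * h * ⟨k, hk⟩) (by have := hRn.conj_mem h hh (⟨k, hk⟩ : H)⁻¹; simpa using this)
        have h3 : (h : W ≃ₗ[F] W) (k w) = k ((((⟨k, hk⟩ : H)⁻¹ * h * ⟨k, hk⟩ : H) : W ≃ₗ[F] W) w) := by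
          show (h : W ≃ₗ[F] W) (k w) = k (k.symm ((h : W ≃ₗ[F] W) (k w)))
          rw [k.apply_symm_apply]
        rw [h3, h2]
      · intro hbot
        let act : MulAction R W :=
          { smul := fun r w => ((r : H) : W ≃ₗ[F] W) w
            one_smul := fun w => rfl
            mul_smul := fun a b w => rfl }
        have hℓd : ℓ ∣ Nat.card W := by
          have := Fintype.ofFinite F
          have h1 := Module.natCard_eq_pow_finrank (K := F) (V := W)
          have h2 : ℓ ∣ Nat.card F := by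
            rw [Nat.card_eq_fintype_card, ← CharP.cast_eq_zero_iff F ℓ]
            exact FiniteField.cast_card_eq_zero F
          rw [h1]
          exact dvd_pow h2 Module.finrank_pos.ne'
        have h2 : (0 : W) ∈ MulAction.fixedPoints R W := by
          intro r
          exact map_zero ((r : H) : W ≃ₗ[F] W)
        obtain ⟨w, hw, hw1⟩ := hP.exists_fixed_point_of_prime_dvd_card_of_fixed_point W hℓd h2
        have h3 : w ∈ U := fun h hh => hw ⟨h, hh⟩
        rw [hbot] at h3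
        exact hw1 ((Submodule.mem_bot F).1 h3).symm
    rw [eq_bot_iff]
    intro h hh
    rw [Subgroup.mem_bot]
    apply Subtype.ext
    apply LinearEquiv.ext
    intro w
    have h1 : w ∈ U := by rw [hU]; trivial
    exact h1 h hh
  -- the other cores
  have hcores : ∀ s : ℕ, s.Prime → s ≠ p → ∀ a ∈ pCore s H, x * a * x⁻¹ = a := by
    intro s hsp hne
    by_cases hsℓ : s = ℓ
    · intro a ha
      rw [hsℓ, hcoreℓ, Subgroup.mem_bot] at ha
      rw [ha]
      group
    by_contra hcon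
    push Not at hcon
    obtain ⟨a, ha, hne'⟩ := hcon
    have h1 := Cfsg.Agent.H273.PalfyRep.pgroup_case (ρ.comp H.subtype) (hρ.comp H.subtype_injective) x hp.out hxp
      (by rw [hrk]; exact hlt) hsp hne (by
        rw [Ne, CharP.cast_eq_zero_iff K ℓ, Nat.prime_dvd_prime_iff_eq hℓ.out hsp]
        exact fun h => hsℓ h.symm) _ (pCore s H) rfl inferInstance (Cfsg.Agent.Lib.Cores.pCore_isPGroup s)
      (fun b hb => (Cfsg.Agent.Lib.Cores.pCore_normal s).conj_mem b hb x) ⟨a, ha, hne'⟩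
    exact hsℓ (h1.1.trans hℓ2.symm)
  -- `O_p(H) ≠ 1`
  have hPn : (pCore p H).Normal := Cfsg.Agent.Lib.Cores.pCore_normal p
  have hPp : IsPGroup p (pCore p H) := Cfsg.Agent.Lib.Cores.pCore_isPGroup p
  have hPne : pCore p H ≠ ⊥ := by
    intro hbot
    obtain ⟨s, hsp, a, ha, hne⟩ := Cfsg.Agent.H273.PalfyKP.exists_not_central hH hbot x hxp hx1
    by_cases hsp' : s = p
    · rw [hsp', hbot, Subgroup.mem_bot] at ha
      apply hne
      rw [ha]
      group
    · exact hne (hcores s hsp hsp' a ha)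
  have hnt : Nontrivial (pCore p H) := (Subgroup.nontrivial_iff_ne_bot _).2 hPne
  -- the centre of `O_p(H)`
  set Z : Subgroup H := (center ↥(pCore p H)).map (pCore p H).subtype with hZ
  have hZn : Z.Normal := by
    rw [hZ]
    infer_instance
  have hZc := hPp.center_nontrivial
  have hZle : Z ≤ pCore p H := by
    rintro _ ⟨a, _, rfl⟩
    exact a.2
  have hZp : IsPGroup p Z := hPp.to_le hZle
  have hZab : ∀ a ∈ Z, ∀ b ∈ Z, a * b = b * a := by
    rintro _ ⟨a, ha, rfl⟩ _ ⟨b, _, rfl⟩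
    exact congrArg Subtype.val (mem_center_iff.1 ha b).symm
  have hZnt : Nontrivial Z := by
    obtain ⟨a, ha⟩ := exists_ne (1 : center ↥(pCore p H))
    refine ⟨⟨⟨_, ⟨a, a.2, rfl⟩⟩, 1, fun h => ha ?_⟩⟩
    apply Subtype.ext
    apply Subtype.ext
    have h' := congrArg Subtype.val h
    exact h'
  obtain ⟨z, hz, hz1, hzp⟩ : ∃ z ∈ Z, z ≠ 1 ∧ z ^ p = 1 := by
    obtain ⟨k, hk⟩ := hZp.exists_card_eq
    have hd : p ∣ Nat.card Z := by
      rcases Nat.eq_zero_or_pos k with h0 | h0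
      · rw [h0, pow_zero] at hk
        exact absurd hk (Finite.one_lt_card).ne'
      · rw [hk]; exact dvd_pow_self p h0.ne'
    obtain ⟨z, hz⟩ := exists_prime_orderOf_dvd_card' p hd
    refine ⟨z, z.2, ?_, ?_⟩
    · intro h
      have : z = 1 := Subtype.ext h
      rw [this, orderOf_one] at hz
      exact hp.out.one_lt.ne hz
    · have := pow_orderOf_eq_one z
      rw [hz] at this
      exact congrArg Subtype.val this
  -- `g` centralises `Z`
  have hcent := Cfsg.Agent.H273.PalfyRep.centralises_abelian (ρ.comp H.subtype) (hρ.comp H.subtype_injective) x hp.out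
    hxp (by rw [hrk]; exact hlt) Z hZab (by
      obtain ⟨k, hk⟩ := hZp.exists_card_eq
      rw [hk, Nat.cast_pow]
      apply pow_ne_zero
      rw [Ne, CharP.cast_eq_zero_iff K ℓ]
      intro h
      apply hpF
      rw [CharP.cast_eq_zero_iff F ℓ]
      exact h) (fun a ha => hZn.conj_mem a ha x)
  refine ⟨z, fun h => hz1 (Subtype.ext h), congrArg Subtype.val hzp, fun h hh => ?_⟩
  have h1 := hcent _ (hZn.conj_mem z hz ⟨h, hh⟩)
  have h2 := congrArg Subtype.val h1
  have h3 : g * (h * z * h⁻¹) * g⁻¹ = h * z * h⁻¹ := h2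
  exact (mul_inv_eq_iff_eq_mul.1 h3).symm

/-- scalars of order `p` -/
theorem scalar_eq_one (hpF : (p : F) ≠ 0) {g : W ≃ₗ[F] W} (hgp : g ^ p = 1) (hg1 : g ≠ 1)
    (hs : ∀ U : Submodule F W, (∀ w ∈ U, g w ∈ U) → U = ⊥ ∨ U = ⊤) (hd : 2 ≤ Module.finrank F W) {c : F}
    (hc : c ^ p = 1) : c = 1 := by
  by_contra hc1
  have hVf : Finite W := Module.finite_of_finite F
  have hf0 : Finite (W ≃ₗ[F] W) := Finite.of_injective (fun h : W ≃ₗ[F] W => (h : W → W)) DFunLike.coe_injective
  have hc0 : c ≠ 0 := by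
    rintro rfl
    rw [zero_pow hp.out.ne_zero] at hc
    exact zero_ne_one hc
  let ζ : W ≃ₗ[F] W := LinearEquiv.smulOfNeZero F W c hc0
  have hζ : ∀ w, ζ w = c • w := fun w => rfl
  have hζpow : ∀ (n : ℕ) (w : W), (ζ ^ n) w = c ^ n • w := by
    intro n w
    induction n with
    | zero => rw [pow_zero, pow_zero, one_smul]; rfl
    | succ n ih =>
      rw [pow_succ', pow_succ', mul_smul]
      show ζ ((ζ ^ n) w) = _
      rw [ih, hζ]
  have hζp : ζ ^ p = 1 := by
    apply LinearEquiv.ext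
    intro w
    rw [hζpow, hc, one_smul]
    rfl
  obtain ⟨w0, hw0⟩ := exists_ne (0 : W)
  have hζ1 : ζ ≠ 1 := by
    intro h
    have h1 := hζ w0
    rw [h] at h1
    have h2 : (c - 1) • w0 = 0 := by rw [sub_smul, one_smul, ← h1]; exact sub_self _
    rcases smul_eq_zero.1 h2 with h3 | h3
    · exact hc1 (sub_eq_zero.1 h3)
    · exact hw0 h3
  have hcomm : ∀ h : W ≃ₗ[F] W, h * ζ * h⁻¹ = ζ := by
    intro h
    apply LinearEquiv.ext
    intro w
    show h (c • h.symm w) = c • w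
    rw [map_smul, h.apply_symm_apply]
  have hn : (zpowers ζ).Normal := by
    refine ⟨?_⟩
    rintro _ ⟨k, rfl⟩ h
    show h * ζ ^ k * h⁻¹ ∈ zpowers ζ
    rw [← conj_zpow, hcomm]
    exact ⟨k, rfl⟩
  have hpg : ∀ a : W ≃ₗ[F] W, a ^ p = 1 → a ≠ 1 → IsPGroup p (zpowers a) := by
    intro a h1 h2
    exact IsPGroup.of_card (n := 1) (by rw [Nat.card_zpowers, pow_one]; exact orderOf_eq_prime h1 h2)
  have hQ : IsPGroup p ↥(zpowers ζ ⊔ zpowers g) := IsPGroup.to_sup_of_normal_left (hpg ζ hζp hζ1) (hpg g hgp hg1)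
  obtain ⟨k, hk⟩ := zpowers_of_pgroup hpF hgp hg1 hs hQ ((le_sup_left : zpowers ζ ≤ _) (mem_zpowers ζ))
    ((le_sup_right : zpowers g ≤ _) (mem_zpowers g)) hζp hζ1 hgp
  have hk' : ζ ^ k = g := hk
  -- `g` stabilises a line
  have h1 := hs (Submodule.span F {w0}) (by
    intro w hw
    have h2 : ∀ k : ℕ, ∀ v, (ζ ^ k) v ∈ Submodule.span F {v} := by
      intro k v
      rw [hζpow]
      exact Submodule.smul_mem _ _ (Submodule.mem_span_singleton_self v)
    obtain ⟨n, hn⟩ : ∃ n : ℕ, ζ ^ n = g := by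
      have h3 : g ∈ Submonoid.powers ζ := mem_powers_iff_mem_zpowers.2 ⟨k, hk'⟩
      exact h3
    rw [← hn]
    rw [hζpow]
    exact Submodule.smul_mem _ _ hw)
  rcases h1 with h1 | h1
  · rw [Submodule.span_singleton_eq_bot] at h1
    exact hw0 h1
  · have h2 := finrank_span_singleton (K := F) hw0
    rw [h1, finrank_top] at h2
    omega

end Four

section Main

variable {F : Type u} [Field F] [Finite F] {U : Type v} [AddCommGroup U] [Module F U] [FiniteDimensional F U]
  {p : ℕ} [hp : Fact p.Prime]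

/-- the commuting element is trivial on `W` -/
theorem four_aux (h5 : 5 ≤ p) (hpF : (p : F) ≠ 0) {g y : U ≃ₗ[F] U} (hgp : g ^ p = 1)
    {W W' : Submodule F U} (hWW : W ⊓ W' = ⊥)
    (hgW : ∀ v ∈ W, g v ∈ W) (hd : 2 ≤ Module.finrank F W) (hW0' : W' ≠ ⊥)
    (hI : ∀ D : Submodule F U, (∀ v ∈ D, g v ∈ D) → D = ⊥ ∨ D = W ∨ D = W' ∨ D = ⊤) (hWt : W' ≠ ⊤)
    {w : U} (hw : w ∈ W) (hw0 : w ≠ 0) (hyw : y w = w) (hyW : ∀ u ∈ W, y u ∈ W → u ∈ Submodule.span F {w})
    {z : U ≃ₗ[F] U} (hzp : z ^ p = 1) (hz : z * g = g * z) (hz' : (y * z * y⁻¹) * g = g * (y * z * y⁻¹)) :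
    ∀ u ∈ W, z u = u := by
  have hVf : Finite U := Module.finite_of_finite F
  have hodd : Odd p := hp.out.odd_of_ne_two (by omega)
  have hW0 : W ≠ ⊥ := by
    rintro rfl
    exact hw0 ((Submodule.mem_bot F).1 hw)
  -- elements of order `p` commuting with `g` preserve `W`
  have hpres : ∀ a : U ≃ₗ[F] U, a ^ p = 1 → a * g = g * a → ∀ v ∈ W, a v ∈ W := by
    intro a hap hag
    have hag' : ∀ v, a (g v) = g (a v) := fun v => LinearEquiv.congr_fun hag v
    have hmapinv : ∀ D : Submodule F U, (∀ v ∈ D, g v ∈ D) → ∀ v ∈ D.map a.toLinearMap, g v ∈ D.map a.toLinearMap := by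
      rintro D hD _ ⟨v, hv, rfl⟩
      exact ⟨g v, hD v hv, hag' v⟩
    have hfr : ∀ D : Submodule F U, Module.finrank F (D.map a.toLinearMap) = Module.finrank F D := fun D =>
      LinearEquiv.finrank_map_eq a D
    have hWtop : W ≠ ⊤ := by
      rintro rfl
      rw [top_inf_eq] at hWW
      exact hW0' hWW
    rcases hI (W.map a.toLinearMap) (hmapinv W hgW) with h | h | h | h
    · exfalso
      have h1 := hfr W
      rw [h, finrank_bot] at h1
      omega
    · intro v hv
      have h1 : a v ∈ W.map a.toLinearMap := ⟨v, hv, rfl⟩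
      rwa [h] at h1
    · exfalso
      -- `a W = W'`, so `a W' = W`
      have hgW' : ∀ v ∈ W', g v ∈ W' := by
        rw [← h]
        exact hmapinv W hgW
      have hinj := a.injective
      have hmm : ∀ D : Submodule F U, D.map a.toLinearMap = W' → D = W := by
        intro D hD
        exact Submodule.map_injective_of_injective (f := a.toLinearMap) hinj (hD.trans h.symm)
      have h2 : W'.map a.toLinearMap = W := by
        rcases hI (W'.map a.toLinearMap) (hmapinv W' hgW') with h3 | h3 | h3 | h3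
        · exfalso
          have h1 := hfr W'
          rw [h3, finrank_bot] at h1
          have h4 := hfr W
          rw [h] at h4
          omega
        · exact h3
        · exfalso
          have h4 := hmm W' h3
          rw [h4, inf_idem] at hWW
          exact hW0 hWW
        · exfalso
          have h1 := hfr W'
          rw [h3, finrank_top] at h1
          exact hWt (Submodule.eq_top_of_finrank_eq h1.symm)
      -- parity
      have h3 : ∀ n : ℕ, (W.map (a ^ (2 * n) : U ≃ₗ[F] U).toLinearMap = W) ∧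
          W.map (a ^ (2 * n + 1) : U ≃ₗ[F] U).toLinearMap = W' := by
        have hcomp : ∀ (n : ℕ) (D : Submodule F U), D.map (a ^ (n + 1) : U ≃ₗ[F] U).toLinearMap =
            (D.map (a ^ n : U ≃ₗ[F] U).toLinearMap).map a.toLinearMap := by
          intro n D
          rw [← Submodule.map_comp, pow_succ']
          rfl
        intro n
        induction n with
        | zero =>
          constructor
          · rw [mul_zero, pow_zero]
            exact Submodule.map_id W
          · rw [mul_zero, zero_add, pow_one]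
            exact h
        | succ n ih =>
          have h4 : W.map (a ^ (2 * (n + 1)) : U ≃ₗ[F] U).toLinearMap = W := by
            rw [show 2 * (n + 1) = (2 * n + 1) + 1 by ring, hcomp, ih.2, h2]
          refine ⟨h4, ?_⟩
          rw [hcomp, h4, h]
      obtain ⟨k, hk⟩ := hodd
      have h4 := (h3 k).2
      rw [← hk, hap] at h4
      have h5 : W.map (1 : U ≃ₗ[F] U).toLinearMap = W := Submodule.map_id W
      rw [h5] at h4
      rw [← h4, inf_idem] at hWW
      exact hW0 hWW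
    · exfalso
      have h1 := hfr W
      rw [h, finrank_top] at h1
      exact hWtop (Submodule.eq_top_of_finrank_eq h1.symm)
  have hzW := hpres z hzp hz
  have hzW' := hpres (y * z * y⁻¹) (by rw [conj_pow, hzp]; group) hz'
  -- `z w` is a multiple of `w`
  have h1 : y (z w) ∈ W := by
    have h2 : (y * z * y⁻¹) w = y (z w) := by
      show y (z (y.symm w)) = y (z w)
      have h3 : y.symm w = w := by
        conv_lhs => rw [← hyw]
        exact y.symm_apply_apply w
      rw [h3]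
    rw [← h2]
    exact hzW' w hw
  obtain ⟨c, hc⟩ := Submodule.mem_span_singleton.1 (hyW (z w) (hzW w hw) h1)
  have hgW' : ∀ v, g v ∈ W ↔ v ∈ W := Cfsg.Agent.H952.Rc.inv_iff (g := g.toEquiv) hgW
  -- `z = c` on `W`
  have hWne : W' ≠ W := by
    rintro rfl
    rw [inf_idem] at hWW
    exact hW0 hWW
  have hmin : ∀ D ≤ W, (∀ v ∈ D, g v ∈ D) → D = ⊥ ∨ D = W := by
    intro D hDW hD
    rcases hI D hD with h | h | h | h
    · exact Or.inl h
    · exact Or.inr h
    · exfalso
      rw [h] at hDW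
      rw [inf_eq_right.2 hDW] at hWW
      exact hW0' hWW
    · right
      rw [h] at hDW ⊢
      exact (top_le_iff.1 hDW).symm
  have h2 : W ⊓ LinearMap.ker (z.toLinearMap - c • LinearMap.id) = W := by
    refine (hmin _ inf_le_left ?_).resolve_left ?_
    · rintro v ⟨hv1, hv2⟩
      refine ⟨hgW v hv1, ?_⟩
      have h3 : z v - c • v = 0 := hv2
      show z (g v) - c • g v = 0
      have h4 : z (g v) = g (z v) := LinearEquiv.congr_fun hz v
      rw [h4, ← map_smul, ← map_sub, h3, map_zero]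
    · intro h
      apply hw0
      have h3 : w ∈ W ⊓ LinearMap.ker (z.toLinearMap - c • LinearMap.id) := by
        refine ⟨hw, ?_⟩
        show z w - c • w = 0
        rw [hc, sub_self]
      rw [h] at h3
      exact (Submodule.mem_bot F).1 h3
  have h3 : ∀ v ∈ W, z v = c • v := by
    intro v hv
    rw [← h2] at hv
    exact sub_eq_zero.1 hv.2
  have hcp : c ^ p = 1 := by
    have h4 : ∀ n : ℕ, (z ^ n) w = c ^ n • w := by
      intro n
      induction n with
      | zero => rw [pow_zero, pow_zero, one_smul]; rfl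
      | succ n ih =>
        rw [pow_succ', pow_succ', mul_smul]
        show z ((z ^ n) w) = _
        rw [ih, map_smul, h3 w hw, smul_comm]
    have h5 := h4 p
    rw [hzp] at h5
    have h6 : (c ^ p - 1) • w = 0 := by
      rw [sub_smul, one_smul, ← h5]
      exact sub_self _
    rcases smul_eq_zero.1 h6 with h7 | h7
    · exact sub_eq_zero.1 h7
    · exact absurd h7 hw0
  have hWn : Nontrivial W := ⟨⟨⟨w, hw⟩, 0, fun h => hw0 (congrArg Subtype.val h)⟩⟩
  have hirr := rest_irred hgW' hmin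
  have hγ1 : rest g W hgW' ≠ 1 := by
    intro h
    rcases hirr (Submodule.span F {⟨w, hw⟩}) (fun v hv => by rw [h]; exact hv) with h4 | h4
    · rw [Submodule.span_singleton_eq_bot] at h4
      exact hw0 (congrArg Subtype.val h4)
    · have h5 := finrank_span_singleton (K := F) (v := (⟨w, hw⟩ : W)) (fun h => hw0 (congrArg Subtype.val h))
      rw [h4, finrank_top] at h5
      omega
  have hc1 := scalar_eq_one hpF (rest_pow_one hgW' hgp) hγ1 hirr hd hcp
  intro u hu
  rw [h3 u hu, hc1, one_smul]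

/-- **Two summands.** -/
theorem four_dim (h5 : 5 ≤ p) (h20 : (2 : F) = 0) (hpF : (p : F) ≠ 0) (hlt : Module.finrank F U < p)
    {g y : U ≃ₗ[F] U} (hgp : g ^ p = 1)
    {W W' : Submodule F U} (hWW : W ⊓ W' = ⊥) (hsup : W ⊔ W' = ⊤)
    (hgW : ∀ v ∈ W, g v ∈ W) (hgW' : ∀ v ∈ W', g v ∈ W')
    (hd : 2 ≤ Module.finrank F W) (hd' : 2 ≤ Module.finrank F W')
    (hI : ∀ D : Submodule F U, (∀ v ∈ D, g v ∈ D) → D = ⊥ ∨ D = W ∨ D = W' ∨ D = ⊤)
    {w : U} (hw : w ∈ W) (hw0 : w ≠ 0) (hyw : y w = w) (hyW : ∀ u ∈ W, y u ∈ W → u ∈ Submodule.span F {w})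
    {w' : U} (hw' : w' ∈ W') (hw0' : w' ≠ 0) (hyw' : y w' = w')
    (hyW' : ∀ u ∈ W', y u ∈ W' → u ∈ Submodule.span F {w'}) :
    ¬ Group.IsSolvable ↥(closure ({g, y} : Set (U ≃ₗ[F] U))) := by
  intro hsol
  have hne : ∀ (D : Submodule F U) (v : U), v ∈ D → v ≠ 0 → D ≠ ⊥ := by
    rintro D v hv hv0 rfl
    exact hv0 ((Submodule.mem_bot F).1 hv)
  have hWb := hne W w hw hw0
  have hWb' := hne W' w' hw' hw0'
  have hWt : W ≠ ⊤ := by
    rintro rfl
    rw [top_inf_eq] at hWW
    exact hWb' hWW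
  have hWt' : W' ≠ ⊤ := by
    rintro rfl
    rw [inf_top_eq] at hWW
    exact hWb hWW
  have hUn : Nontrivial U := ⟨⟨w, 0, hw0⟩⟩
  have hnot : ∀ (D : Submodule F U) (v : U), 2 ≤ Module.finrank F D → v ≠ 0 →
      (∀ u ∈ D, y u ∈ D → u ∈ Submodule.span F {v}) → ¬ ∀ u ∈ D, y u ∈ D := by
    intro D v hD hv0 h1 h2
    have h3 : D ≤ Submodule.span F {v} := fun u hu => h1 u hu (h2 u hu)
    have h4 := Submodule.finrank_mono h3
    rw [finrank_span_singleton hv0] at h4
    omega
  have hg1 : g ≠ 1 := by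
    rintro rfl
    rcases hI (Submodule.span F {w}) (fun v hv => hv) with h | h | h | h
    · rw [Submodule.span_singleton_eq_bot] at h
      exact hw0 h
    · rw [← h, finrank_span_singleton hw0] at hd
      omega
    · rw [← h, finrank_span_singleton hw0] at hd'
      omega
    · have h1 := finrank_span_singleton (K := F) hw0
      have h2 := Submodule.finrank_le W
      rw [h, finrank_top] at h1
      omega
  have hgH : g ∈ closure ({g, y} : Set (U ≃ₗ[F] U)) := Subgroup.subset_closure (Set.mem_insert _ _)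
  have hyH : y ∈ closure ({g, y} : Set (U ≃ₗ[F] U)) := Subgroup.subset_closure (Set.mem_insert_of_mem _ rfl)
  obtain ⟨z, hz1, hzp, hz⟩ := exists_z h20 hpF hgp hg1 hlt hsol hgH (by
    intro D hD
    rcases hI D (hD g hgH) with h | h | h | h
    · exact Or.inl h
    · exfalso
      rw [h] at hD
      exact hnot W w hd hw0 hyW (hD y hyH)
    · exfalso
      rw [h] at hD
      exact hnot W' w' hd' hw0' hyW' (hD y hyH)
    · exact Or.inr h)
  have hzg : z * g = g * z := by
    have h1 := hz 1 (one_mem _)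
    rwa [inv_one, mul_one, one_mul] at h1
  have h1 := four_aux h5 hpF hgp hWW hgW hd hWb' hI hWt' hw hw0 hyw hyW hzp hzg (hz y hyH)
  have h2 := four_aux h5 hpF hgp (W := W') (W' := W) (by rw [inf_comm]; exact hWW) hgW' hd' hWb (by
    intro D hD
    rcases hI D hD with h | h | h | h
    · exact Or.inl h
    · exact Or.inr (Or.inr (Or.inl h))
    · exact Or.inr (Or.inl h)
    · exact Or.inr (Or.inr (Or.inr h))) hWt hw' hw0' hyw' hyW' hzp hzg (hz y hyH)
  apply hz1
  apply LinearEquiv.ext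
  intro v
  obtain ⟨s, hs, t, ht, rfl⟩ := Submodule.mem_sup.1 (show v ∈ W ⊔ W' by rw [hsup]; exact Submodule.mem_top)
  rw [map_add, h1 s hs, h2 t ht]
  rfl

end Main

end Cfsg.Agent.H803.Inv
end

-- part: H803/Inv/SpTwo
section
/-!
# Symplectic groups in characteristic two (helper803, for S3830)
-/

set_option autoImplicit false
set_option linter.unusedSectionVars false

namespace Cfsg.Agent.H803.Inv

open Cfsg Subgroup Cfsg.Agent.H459.Inv Cfsg.Agent.H459.Iface Cfsg.Agent.H952.Rc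
open Cfsg.Agent.BpCl (Semi SemiIso Iso mem_Iso)

universe u v

section

variable {F : Type u} {V : Type v} [Field F] [AddCommGroup V] [Module F V]

/-- a space with a linear map of prime order `p ≥ 5` has more than four elements -/
theorem four_lt_card [Finite V] {p : ℕ} [hp : Fact p.Prime] (h5 : 5 ≤ p) {g : V ≃ₗ[F] V} (hgp : g ^ p = 1)
    (hg1 : g ≠ 1) : 4 < Nat.card V := by
  classical
  have := Fintype.ofFinite V
  by_contra hcon
  push Not at hcon
  set σ : Equiv.Perm V := g.toEquiv with hσ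
  have hpow : ∀ n : ℕ, ∀ v, (σ ^ n) v = (g ^ n) v := by
    intro n v
    induction n with
    | zero => rfl
    | succ n ih => rw [pow_succ', pow_succ', Equiv.Perm.mul_apply, ih]; rfl
  have h1 : orderOf σ = p := by
    apply orderOf_eq_prime
    · ext v
      rw [hpow, hgp]
      rfl
    · intro h
      apply hg1
      apply LinearEquiv.ext
      intro v
      have h2 := hpow 1 v
      rw [pow_one, pow_one, h] at h2
      exact h2.symm
  have h2 : p ∣ (Nat.card V).factorial := by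
    rw [← h1, Nat.card_eq_fintype_card, ← Fintype.card_perm]
    exact orderOf_dvd_card
  have h3 := (hp.out.dvd_factorial).1 h2
  omega

theorem tv_sq [CharP F 2] {B : LinearMap.BilinForm F V} {u : V} (hu : B u u = 0) : tv B u hu * tv B u hu = 1 := by
  apply LinearEquiv.ext
  intro v
  show tv B u hu (tv B u hu v) = v
  rw [tv_apply, tv_apply, map_add, LinearMap.add_apply, tv_aux hu, add_zero, add_assoc, ← two_smul F (B v u • u),
    CharTwo.two_eq_zero, zero_smul, add_zero]

/-- **Symplectic groups of characteristic two**, the semilinear isometry normalised. -/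
theorem sp_norm_ns [Finite F] [FiniteDimensional F V] [Nontrivial V] {B : LinearMap.BilinForm F V} {p : ℕ}
    [hp : Fact p.Prime] [CharP F 2] (h5 : 5 ≤ p) (hpF : (p : F) ≠ 0) (hA : B.IsAlt)
    (hnd : ∀ u, (∀ v, B u v = 0) → u = 0) {Γ : Subgroup (V ≃ₗ[F] V)}
    (hΓ : ∀ h : V ≃ₗ[F] V, h ∈ Γ ↔ ∀ u v, B (h u) (h v) = B u v) {x : MulAut (↥Γ ⧸ center ↥Γ)}
    {g : Equiv.Perm V} {φ : F ≃+* F} (hg : SemiIso (fun u v => B u v) φ 1 g) (hgp : g ^ p = 1)
    (hφ : ∀ a, φ^[p] a = a) (hx : Comp x g) : FixR 2 x ∨ NS x := by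
  have hr : Fact (Nat.Prime 2) := ⟨Nat.prime_two⟩
  have hVf : Finite V := Module.finite_of_finite F
  have hf0 : Finite (V ≃ₗ[F] V) := Finite.of_injective (fun h : V ≃ₗ[F] V => (h : V → V)) DFunLike.coe_injective
  have hform : ∀ u v, B (g u) (g v) = φ (B u v) := fun u v => by
    have := hg.form u v
    rwa [one_mul] at this
  by_contra hcon
  push Not at hcon
  obtain ⟨hno, hns⟩ := hcon
  -- a totally isotropic invariant subspace
  have hts : ∀ U : Submodule F V, U ≠ ⊥ → (∀ u ∈ U, g u ∈ U) → ¬ (∀ u ∈ U, ∀ v ∈ U, B u v = 0) := by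
    intro U hU0 hU hUU
    apply hno
    obtain ⟨u, hu, hu0⟩ := Submodule.exists_mem_ne_zero_of_ne_bot hU0
    have hU' := inv_iff hU
    refine hx.fixR_unip hg.add (U := U) (P := B.orthogonal U) (fun v hv w hw => hUU w hw v hv) hU'
      (orth_iff hform hU') ⟨_, tv_mem hA hΓ u⟩ ?_ (tv_not_mem_center hA hnd hΓ hu0)
    refine ⟨fun v hv => ?_, fun v hv => ?_, fun v => ?_⟩
    · change tv B u (hA u) v = v
      rw [tv_apply, hUU v hv u hu, zero_smul, add_zero]
    · change tv B u (hA u) v - v ∈ U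
      rw [tv_apply, add_sub_cancel_left]
      exact U.smul_mem _ hu
    · change tv B u (hA u) v - v ∈ B.orthogonal U
      rw [tv_apply, add_sub_cancel_left]
      exact Submodule.smul_mem _ _ (fun w hw => hUU w hw u hu)
  have hfix : ∀ u : V, g u = u → u = 0 := by
    intro u hu
    by_contra hu0
    refine hts (Submodule.span F {u}) ?_ (fun v hv => (span_inv hg.toSemi hu v).2 hv) ?_
    · rw [Ne, Submodule.span_singleton_eq_bot]
      exact hu0
    · intro v hv w hw
      obtain ⟨a, rfl⟩ := Submodule.mem_span_singleton.1 hv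
      obtain ⟨b, rfl⟩ := Submodule.mem_span_singleton.1 hw
      rw [map_smul, map_smul, LinearMap.smul_apply, hA u, smul_zero, smul_zero]
  by_cases hφ1 : φ = RingEquiv.refl F
  swap
  · obtain ⟨u, hu0, hu⟩ := exists_fixed hp.out hg.toSemi hgp hφ hφ1
    exact hu0 (hfix u hu)
  subst hφ1
  obtain ⟨g', hg'⟩ := Cfsg.Agent.BpCl.exists_linear hg.toSemi
  have hgg : ∀ v, g v = g' v := fun v => by rw [← hg']; rfl
  have hform' : ∀ u v, B (g' u) (g' v) = B u v := fun u v => by rw [← hgg, ← hgg, hform]; rfl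
  have hg'Γ : g' ∈ Γ := (hΓ g').2 hform'
  have hx' : Comp x g'.toEquiv := by rw [hg']; exact hx
  have hgp' : g' ^ p = 1 := by
    apply LinearEquiv.ext
    intro v
    rw [Cfsg.Agent.BpCl.lin_pow, hg', hgp]
    rfl
  -- a minimal invariant subspace
  obtain ⟨W, -, hW0, hgW, hmin⟩ := exists_min g' (W₀ := ⊤) (by
    intro h
    exact absurd h top_ne_bot) (fun v _ => Submodule.mem_top)
  have hgW' : ∀ v, g' v ∈ W ↔ v ∈ W := inv_iff (g := g'.toEquiv) hgW
  have horth : ∀ v, g' v ∈ B.orthogonal W ↔ v ∈ B.orthogonal W :=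
    orth_iff (g := g'.toEquiv) (φ := RingEquiv.refl F) hform' hgW'
  have hndW : ∀ u ∈ W, (∀ v ∈ W, B u v = 0) → u = 0 := by
    intro u hu huv
    rcases hmin (W ⊓ B.orthogonal W) inf_le_left (fun v hv => ⟨hgW v hv.1, (horth v).2 hv.2⟩) with h | h
    · have h1 : u ∈ W ⊓ B.orthogonal W := by
        refine ⟨hu, fun v hv => ?_⟩
        show B v u = 0
        rw [H952.Rc.swap hA, huv v hv, neg_zero]
      rw [h] at h1
      exact (Submodule.mem_bot F).1 h1
    · exfalso
      refine hts W hW0 (fun u hu => by rw [hgg]; exact hgW u hu) ?_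
      intro a ha b hb
      rw [← h] at hb
      exact hb.2 a ha
  obtain ⟨w, hw, hw0⟩ := Submodule.exists_mem_ne_zero_of_ne_bot hW0
  have hWn : Nontrivial W := ⟨⟨⟨w, hw⟩, 0, fun h => hw0 (congrArg Subtype.val h)⟩⟩
  set γ := rest g' W hgW' with hγ
  have hγp : γ ^ p = 1 := rest_pow_one hgW' hgp'
  have hγ1 : γ ≠ 1 := rest_ne_one hgW' hw (fun h => hw0 (hfix w (by rw [hgg]; exact h)))
  have hirr := rest_irred hgW' hmin
  have hcardW := four_lt_card h5 hγp hγ1
  -- the transvections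
  have hsol : ∀ u ∈ W, u ≠ 0 → ∃ t : W ≃ₗ[F] W, (∀ v : W, (t v : V) = v + B v u • u) ∧ t * t = 1 ∧ t ≠ 1 ∧
      Group.IsSolvable ↥(closure ({γ, t} : Set (W ≃ₗ[F] W))) := by
    intro u hu hu0
    have hy : ∀ v, tv B u (hA u) v ∈ W ↔ v ∈ W := by
      intro v
      rw [tv_apply]
      exact W.add_mem_iff_left (W.smul_mem _ hu)
    have h1 := sol_of_not_ns hx' hg'Γ hns (tv_mem hA hΓ u) (tv_sq (hA u)) (tv_not_mem_center hA hnd hΓ hu0)
    refine ⟨rest _ W hy, fun v => rfl, ?_, ?_, sol_rest hgW' hy h1⟩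
    · have h2 := rest_pow_one (n := 2) hy (by rw [pow_two]; exact tv_sq (hA u))
      rwa [pow_two] at h2
    · -- a vector of `W` not orthogonal to `u`
      have h2 : ∃ v ∈ W, B u v ≠ 0 := by
        by_contra hcon
        push Not at hcon
        exact hu0 (hndW u hu hcon)
      obtain ⟨v, hv, hvu⟩ := h2
      refine rest_ne_one hy hv ?_
      rw [tv_apply]
      intro h3
      rw [add_eq_left] at h3
      rcases smul_eq_zero.1 h3 with h4 | h4
      · apply hvu
        rw [H952.Rc.swap hA, h4, neg_zero]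
      · exact hu0 h4
  -- two transvections with a common fixed vector
  have key : ∀ u ∈ W, ∀ u' ∈ W, u ≠ 0 → u' ≠ 0 → ∀ v ∈ W, v ≠ 0 → B v u = 0 → B v u' = 0 →
      ∀ a ∈ W, B a u • u = B a u' • u' := by
    intro u hu u' hu' hu0 hu0' v hv hv0 h1 h2 a ha
    obtain ⟨t, ht, ht2, ht1, hts⟩ := hsol u hu hu0
    obtain ⟨t', ht', ht2', ht1', hts'⟩ := hsol u' hu' hu0'
    have h3 : t = t' := eq_of_solvable hpF hγp hγ1 hirr (Or.inl CharTwo.two_eq_zero) ht2 ht1 ht2' ht1'
      (w := ⟨v, hv⟩) (fun h => hv0 (congrArg Subtype.val h))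
      (Subtype.ext (by rw [ht]; show v + B v u • u = v; rw [h1, zero_smul, add_zero]))
      (Subtype.ext (by rw [ht']; show v + B v u' • u' = v; rw [h2, zero_smul, add_zero])) hts hts'
    have h4 := ht ⟨a, ha⟩
    rw [h3, ht'] at h4
    exact (add_left_cancel h4).symm
  have hex : ∃ a ∈ W, B a w ≠ 0 := by
    by_contra hcon
    push Not at hcon
    apply hw0
    apply hndW w hw
    intro v hv
    rw [H952.Rc.swap hA, hcon v hv, neg_zero]
  obtain ⟨a, ha, haw⟩ := hex
  by_cases hF : ∃ c : F, c ≠ 0 ∧ c ≠ 1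
  · obtain ⟨c, hc0, hc1⟩ := hF
    have h1 := key w hw (c • w) (W.smul_mem c hw) hw0 (smul_ne_zero hc0 hw0) w hw hw0 (hA w)
      (by rw [map_smul, hA w, smul_zero]) a ha
    rw [map_smul, smul_smul, smul_eq_mul] at h1
    have h2 : (c * B a w * c - B a w) • w = 0 := by rw [sub_smul, ← h1, sub_self]
    have h3 : c * B a w * c - B a w = 0 := (smul_eq_zero.1 h2).resolve_right hw0
    have h4 : (c - 1) * (c + 1) * B a w = 0 := by rw [← h3]; ring
    rcases mul_eq_zero.1 h4 with h5 | h5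
    · have h6 : (c + 1 : F) = c - 1 := by rw [CharTwo.sub_eq_add]
      rw [h6, mul_self_eq_zero, sub_eq_zero] at h5
      exact hc1 h5
    · exact haw h5
  · push Not at hF
    -- `F` has two elements
    have hq : Nat.card F ≤ 2 := by
      classical
      have := Fintype.ofFinite F
      rw [Nat.card_eq_fintype_card]
      have h1 : (Finset.univ : Finset F) ⊆ {0, 1} := by
        intro t _
        by_cases h0 : t = 0
        · simp [h0]
        · simp [hF t h0]
      exact (Finset.card_le_card h1).trans Finset.card_le_two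
    have hdim : 3 ≤ Module.finrank F W := by
      by_contra hcon
      have h1 := Module.natCard_eq_pow_finrank (K := F) (V := W)
      have h2 : Nat.card F ^ Module.finrank F W ≤ 2 ^ 2 :=
        (Nat.pow_le_pow_left hq _).trans (Nat.pow_le_pow_right (by norm_num) (by omega))
      omega
    -- a second vector
    obtain ⟨u', hu', hu0'⟩ : ∃ u' ∈ W, u' ∉ Submodule.span F {w} := by
      by_contra hcon
      push Not at hcon
      have h1 : W ≤ Submodule.span F {w} := hcon
      have h2 := Submodule.finrank_mono h1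
      rw [finrank_span_singleton hw0] at h2
      omega
    have hu0 : u' ≠ 0 := by
      rintro rfl
      exact hu0' (Submodule.zero_mem _)
    -- a common fixed vector
    obtain ⟨v, hv, hv0, h1, h2⟩ : ∃ v ∈ W, v ≠ 0 ∧ B v w = 0 ∧ B v u' = 0 := by
      let f : W →ₗ[F] F × F := ((B.flip w).prod (B.flip u')).comp W.subtype
      have hf : LinearMap.ker f ≠ ⊥ := by
        intro h
        have h1 := LinearMap.finrank_le_finrank_of_injective (LinearMap.ker_eq_bot.1 h)
        rw [Module.finrank_prod, Module.finrank_self] at h1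
        omega
      obtain ⟨v, hv, hv0⟩ := Submodule.exists_mem_ne_zero_of_ne_bot hf
      have h1 : f v = 0 := hv
      have h2 : f v = (B v w, B v u') := rfl
      rw [h2] at h1
      exact ⟨v, v.2, fun h => hv0 (Subtype.ext h), congrArg Prod.fst h1, congrArg Prod.snd h1⟩
    have h3 := key w hw u' hu' hw0 hu0 v hv hv0 h1 h2 a ha
    -- `w` is a multiple of `u'`
    by_cases hau : B a u' = 0
    · rw [hau, zero_smul] at h3
      rcases smul_eq_zero.1 h3 with h4 | h4
      · exact haw h4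
      · exact hw0 h4
    · apply hu0'
      rw [Submodule.mem_span_singleton]
      refine ⟨(B a u')⁻¹ * B a w, ?_⟩
      rw [mul_smul, h3, smul_smul, inv_mul_cancel₀ hau, one_smul]

end

end Cfsg.Agent.H803.Inv
end

-- part: H803/Inv/OrthCoreTwo
section
/-!
# Orthogonal groups in characteristic two: the core (helper803, for S3830)

`orth_core` : `g ∈ O(Q)` of order `p ≥ 5` without invariant totally singular subspaces does not generate a solvable group
with all products of two orthogonal reflections.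
-/

set_option autoImplicit false
set_option linter.unusedSectionVars false

namespace Cfsg.Agent.H803.Inv

open Cfsg Subgroup Cfsg.Agent.H459.Inv Cfsg.Agent.H459.Iface Cfsg.Agent.H952.Rc QuadraticMap
open Cfsg.Agent.LieClassical.OrthCore Cfsg.Agent.LieClassical.OrthTrans

universe u v

section Lemmas

variable {F : Type u} {V : Type v} [Field F] [AddCommGroup V] [Module F V] {Q : QuadraticForm F V}

theorem polar_self_two [CharP F 2] (v : V) : polar Q v v = 0 := by
  rw [polar_self', CharTwo.two_eq_zero, zero_mul]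

/-- products of two reflections -/
theorem refl_refl_mem [Finite F] [CharP F 2] (hG : Good Q) {a b : V} (ha : Q a ≠ 0) (hb : Q b ≠ 0) :
    refl Q a ha * refl Q b hb ∈ E Q := by
  obtain ⟨c, hc⟩ := FiniteField.isSquare_of_char_two (ringChar.eq_iff.2 (inferInstance : CharP F 2)) (Q a / Q b)
  have h1 : Q (c • b) = Q a := by
    rw [QuadraticMap.map_smul, smul_eq_mul, ← hc, div_mul_cancel₀ _ hb]
  have hc0 : c ≠ 0 := by
    rintro rfl
    rw [zero_smul, QuadraticMap.map_zero] at h1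
    exact ha h1.symm
  have h2 : Q (c • b) ≠ 0 := by rw [h1]; exact ha
  rw [← refl_smul hb hc0 h2]
  exact hG.refl_mul_refl_mem h2 ha h1

theorem finrank_pair_le (a b : V) : Module.finrank F (Submodule.span F {a, b}) ≤ 2 := by
  classical
  have h1 := finrank_span_finset_le_card (R := F) ({a, b} : Finset V)
  rw [Finset.coe_pair] at h1
  exact h1.trans Finset.card_le_two

/-- the setting -/
structure Cfg (Q : QuadraticForm F V) (p : ℕ) (g : V ≃ₗ[F] V) : Prop where
  nd : Nondeg Q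
  mem : g ∈ O Q
  pow : g ^ p = 1
  ts : ∀ U : Submodule F V, U ≠ ⊥ → (∀ v ∈ U, g v ∈ U) → ¬ ∀ u ∈ U, Q u = 0
  sol : ∀ (a b : V) (ha : Q a ≠ 0) (hb : Q b ≠ 0), polar Q a b = 0 → b ∉ Submodule.span F {a} →
    Group.IsSolvable ↥(closure ({g, refl Q a ha * refl Q b hb} : Set (V ≃ₗ[F] V)))

/-- a minimal invariant subspace with a nontrivial action -/
structure Min (g : V ≃ₗ[F] V) (W : Submodule F V) : Prop where
  ne : W ≠ ⊥
  inv : ∀ v ∈ W, g v ∈ W
  min : ∀ U ≤ W, (∀ v ∈ U, g v ∈ U) → U = ⊥ ∨ U = W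
  act : ∃ w ∈ W, g w ≠ w

variable {g : V ≃ₗ[F] V} {W W' : Submodule F V} {p : ℕ}

/-- a line of a singular vector -/
theorem Cfg.line (hc : Cfg Q p g) {v : V} (hv : v ≠ 0) (hQ : Q v = 0) {a : F} (hg : g v = a • v) : False := by
  refine hc.ts (Submodule.span F {v}) ?_ ?_ ?_
  · rw [Ne, Submodule.span_singleton_eq_bot]; exact hv
  · intro u hu
    obtain ⟨b, rfl⟩ := Submodule.mem_span_singleton.1 hu
    rw [map_smul, hg]
    exact Submodule.smul_mem _ _ (Submodule.smul_mem _ _ (Submodule.mem_span_singleton_self v))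
  · intro u hu
    obtain ⟨b, rfl⟩ := Submodule.mem_span_singleton.1 hu
    rw [QuadraticMap.map_smul, hQ, smul_zero]

theorem Cfg.exists_nonsing (hc : Cfg Q p g) (hW : Min g W) : ∃ w ∈ W, Q w ≠ 0 := by
  by_contra hcon
  push Not at hcon
  exact hc.ts W hW.ne hW.inv hcon

/-- minimal invariant subspaces are nondegenerate -/
theorem Min.nondeg [Finite V] [CharP F 2] (hc : Cfg Q p g) (hW : Min g W) :
    ∀ u ∈ W, (∀ v ∈ W, polar Q u v = 0) → u = 0 := by
  intro u hu huv
  have hiff : ∀ v, g v ∈ W ↔ v ∈ W := inv_iff (g := g.toEquiv) hW.inv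
  let R : Submodule F V :=
    { carrier := {u | u ∈ W ∧ ∀ v ∈ W, polar Q u v = 0}
      add_mem' := by
        rintro a b ⟨ha1, ha2⟩ ⟨hb1, hb2⟩
        refine ⟨W.add_mem ha1 hb1, fun v hv => ?_⟩
        rw [polar_add_left, ha2 v hv, hb2 v hv, add_zero]
      zero_mem' := ⟨W.zero_mem, fun v _ => by rw [polar_zero_left]⟩
      smul_mem' := by
        rintro c a ⟨ha1, ha2⟩
        refine ⟨W.smul_mem c ha1, fun v hv => ?_⟩
        rw [polar_smul_left, ha2 v hv, smul_zero] }
  have hRu : u ∈ R := ⟨hu, huv⟩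
  rcases hW.min R (fun a ha => ha.1) (by
    rintro a ⟨ha1, ha2⟩
    refine ⟨hW.inv a ha1, fun v hv => ?_⟩
    obtain ⟨w, rfl⟩ := g.surjective v
    rw [polar_map hc.mem]
    exact ha2 w ((hiff w).1 hv)) with h | h
  · rw [h] at hRu
    exact (Submodule.mem_bot F).1 hRu
  exfalso
  have hpol : ∀ a ∈ W, ∀ b ∈ W, polar Q a b = 0 := by
    intro a ha b hb
    rw [← h] at ha
    exact ha.2 b hb
  let D : Submodule F V :=
    { carrier := {u | u ∈ W ∧ Q u = 0}
      add_mem' := by
        rintro a b ⟨ha1, ha2⟩ ⟨hb1, hb2⟩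
        refine ⟨W.add_mem ha1 hb1, ?_⟩
        rw [Q_add, ha2, hb2, hpol a ha1 b hb1, add_zero, add_zero]
      zero_mem' := ⟨W.zero_mem, QuadraticMap.map_zero Q⟩
      smul_mem' := by
        rintro c a ⟨ha1, ha2⟩
        exact ⟨W.smul_mem c ha1, by rw [QuadraticMap.map_smul, ha2, smul_zero]⟩ }
  rcases hW.min D (fun a ha => ha.1) (by
    rintro a ⟨ha1, ha2⟩
    exact ⟨hW.inv a ha1, by rw [hc.mem a, ha2]⟩) with h1 | h1
  · obtain ⟨w, hw, hne⟩ := hW.act
    apply hne
    have h2 : g w - w ∈ D := by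
      refine ⟨W.sub_mem (hW.inv w hw) hw, ?_⟩
      rw [sub_eq_add_neg, Q_add, polar_neg_right, hpol _ (hW.inv w hw) w hw, QuadraticMap.map_neg, hc.mem w, neg_zero,
        add_zero, CharTwo.add_self_eq_zero]
    rw [h1] at h2
    exact sub_eq_zero.1 ((Submodule.mem_bot F).1 h2)
  · obtain ⟨w, hw, hQw⟩ := hc.exists_nonsing hW
    rw [← h1] at hw
    exact hQw hw.2

/-- minimal invariant subspaces have even dimension -/
theorem Min.even [Finite V] [FiniteDimensional F V] [CharP F 2] (hc : Cfg Q p g) (hW : Min g W) :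
    ∃ k, Module.finrank F W = 2 * k := by
  let B' : LinearMap.BilinForm F W := LinearMap.BilinForm.restrict (polarBilin Q) W
  have hB' : ∀ u v : W, B' u v = polar Q (u : V) v := fun _ _ => rfl
  have hA' : B'.IsAlt := fun u => by rw [hB', polar_self_two]
  have hnd' : ∀ u, (∀ v, B' u v = 0) → u = 0 := by
    intro u hu
    apply Subtype.ext
    exact hW.nondeg hc u u.2 (fun v hv => hu ⟨v, hv⟩)
  obtain ⟨k, e, -⟩ := Cfsg.Agent.BpCl.exists_coords hA' hnd'
  refine ⟨k, ?_⟩
  rw [← LinearEquiv.finrank_eq e, Module.finrank_fintype_fun_eq_card, Fintype.card_sum, Fintype.card_fin]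
  ring

theorem Min.iff [Finite V] (hW : Min g W) : ∀ v, g v ∈ W ↔ v ∈ W := inv_iff (g := g.toEquiv) hW.inv

theorem Min.rest_ne (h : ∀ v, g v ∈ W ↔ v ∈ W) (hW : Min g W) : rest g W h ≠ 1 := by
  obtain ⟨w, hw, hne⟩ := hW.act
  exact rest_ne_one h hw hne

theorem yy_sq {a b : V} (ha : Q a ≠ 0) (hb : Q b ≠ 0) (hab : polar Q a b = 0) :
    refl Q a ha * refl Q b hb * (refl Q a ha * refl Q b hb) = 1 := by
  have h1 := refl_comm ha hb hab
  calc refl Q a ha * refl Q b hb * (refl Q a ha * refl Q b hb)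
      = (refl Q a ha * refl Q b hb) * (refl Q b hb * refl Q a ha) := by rw [← h1]
    _ = refl Q a ha * (refl Q b hb * refl Q b hb) * refl Q a ha := by group
    _ = 1 := by rw [refl_mul_self, mul_one, refl_mul_self]

theorem yy_apply {a b : V} (ha : Q a ≠ 0) (hb : Q b ≠ 0) (hab : polar Q a b = 0) (v : V) :
    (refl Q a ha * refl Q b hb) v = v - ((Q a)⁻¹ * polar Q a v) • a - ((Q b)⁻¹ * polar Q b v) • b := by
  show refl Q a ha (refl Q b hb v) = _
  rw [refl_apply hb, map_sub, map_smul, refl_apply ha v, refl_apply ha b, hab, mul_zero, zero_smul, sub_zero]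

/-- **The case of dimension at least three.** -/
theorem case_big [Finite F] [FiniteDimensional F V] [CharP F 2] [hp : Fact p.Prime] (hpF : (p : F) ≠ 0)
    (hc : Cfg Q p g) (hW : Min g W) (hd : 3 ≤ Module.finrank F W) : False := by
  have hVf : Finite V := Module.finite_of_finite F
  obtain ⟨k, hk⟩ := hW.even hc
  have hiff := hW.iff
  obtain ⟨a, ha, hQa⟩ := hc.exists_nonsing hW
  have ha0 : a ≠ 0 := by
    rintro rfl
    exact hQa (QuadraticMap.map_zero Q)
  set P : Submodule F V := W ⊓ LinearMap.ker (polarBilin Q a) with hP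
  have hPa : ∀ v ∈ P, v ∈ W ∧ polar Q a v = 0 := fun v hv => hv
  have haP : a ∈ P := ⟨ha, polar_self_two a⟩
  have hPdim : 3 ≤ Module.finrank F P := by
    let φ : W →ₗ[F] F := (polarBilin Q a).comp W.subtype
    have h1 : Module.finrank F (LinearMap.ker φ) + 1 = Module.finrank F W := by
      apply Module.Dual.finrank_ker_add_one_of_ne_zero
      intro h
      apply ha0
      apply hW.nondeg hc a ha
      intro v hv
      exact LinearMap.congr_fun h (⟨v, hv⟩ : W)
    have h2 : Module.finrank F (LinearMap.ker φ) = Module.finrank F ((LinearMap.ker φ).map W.subtype) :=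
      (Submodule.equivMapOfInjective W.subtype W.injective_subtype _).finrank_eq
    have h3 : (LinearMap.ker φ).map W.subtype ≤ P := by
      rintro _ ⟨v, hv, rfl⟩
      exact ⟨v.2, hv⟩
    have h4 := Submodule.finrank_mono h3
    omega
  -- nonsingular vectors of `P`
  have hex : ∀ S : Submodule F V, a ∈ S → Module.finrank F S < 3 → ∃ b ∈ P, b ∉ S ∧ Q b ≠ 0 := by
    intro S haS hS
    obtain ⟨c, hcP, hcS⟩ : ∃ c ∈ P, c ∉ S := by
      by_contra hcon
      push Not at hcon
      have h1 : P ≤ S := hcon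
      have h2 := Submodule.finrank_mono h1
      omega
    by_cases hQc : Q c = 0
    · refine ⟨c + a, P.add_mem hcP haP, ?_, ?_⟩
      · intro h
        exact hcS ((S.add_mem_iff_left haS).1 h)
      · rw [Q_add, hQc, polar_comm, (hPa c hcP).2, zero_add, add_zero]
        exact hQa
    · exact ⟨c, hcP, hcS, hQc⟩
  obtain ⟨b, hbP, hbS, hQb⟩ := hex (Submodule.span F {a}) (Submodule.mem_span_singleton_self a)
    (by rw [finrank_span_singleton ha0]; norm_num)
  obtain ⟨b', hbP', hbS', hQb'⟩ := hex (Submodule.span F {a, b}) (Submodule.subset_span (Set.mem_insert _ _))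
    (by
      exact lt_of_le_of_lt (finrank_pair_le a b) (by norm_num))
  have hba : b' ∉ Submodule.span F {a} := fun h => hbS' (Submodule.span_mono (by simp) h)
  have hs1 := hc.sol a b hQa hQb (hPa b hbP).2 hbS
  have hs2 := hc.sol a b' hQa hQb' (hPa b' hbP').2 hba
  -- restriction to `W`
  have hpres : ∀ (c : V) (hcQ : Q c ≠ 0), c ∈ P → ∀ v, (refl Q a hQa * refl Q c hcQ) v ∈ W ↔ v ∈ W := by
    intro c hcQ hcP v
    rw [yy_apply hQa hcQ (hPa c hcP).2, sub_sub]
    refine W.sub_mem_iff_left ?_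
    exact W.add_mem (W.smul_mem _ ha) (W.smul_mem _ (hPa c hcP).1)
  have hone : ∀ (c : V) (hcQ : Q c ≠ 0) (hcP : c ∈ P), c ∉ Submodule.span F {a} →
      rest (refl Q a hQa * refl Q c hcQ) W (hpres c hcQ hcP) ≠ 1 := by
    intro c hcQ hcP hcS h
    have hc0 : c ≠ 0 := by
      rintro rfl
      exact hcQ (QuadraticMap.map_zero Q)
    obtain ⟨v, hv, hcv⟩ : ∃ v ∈ W, polar Q c v ≠ 0 := by
      by_contra hcon
      push Not at hcon
      exact hc0 (hW.nondeg hc c (hPa c hcP).1 hcon)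
    have h1 := rest_apply (refl Q a hQa * refl Q c hcQ) W (hpres c hcQ hcP) ⟨v, hv⟩
    rw [h, yy_apply hQa hcQ (hPa c hcP).2] at h1
    have h2 : ((Q c)⁻¹ * polar Q c v) • c = -(((Q a)⁻¹ * polar Q a v) • a) := by
      have h3 : v = v - ((Q a)⁻¹ * polar Q a v) • a - ((Q c)⁻¹ * polar Q c v) • c := h1
      have h4 : ((Q c)⁻¹ * polar Q c v) • c + ((Q a)⁻¹ * polar Q a v) • a =
          v - (v - ((Q a)⁻¹ * polar Q a v) • a - ((Q c)⁻¹ * polar Q c v) • c) := by abel
      rw [← h3, sub_self] at h4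
      exact eq_neg_of_add_eq_zero_left h4
    apply hcS
    have h5 : ((Q c)⁻¹ * polar Q c v) • c ∈ Submodule.span F {a} := by
      rw [h2]
      exact Submodule.neg_mem _ (Submodule.smul_mem _ _ (Submodule.mem_span_singleton_self a))
    exact (Submodule.smul_mem_iff _ (mul_ne_zero (inv_ne_zero hcQ) hcv)).1 h5
  have hsq : ∀ (c : V) (hcQ : Q c ≠ 0) (hcP : c ∈ P), rest (refl Q a hQa * refl Q c hcQ) W (hpres c hcQ hcP) *
      rest (refl Q a hQa * refl Q c hcQ) W (hpres c hcQ hcP) = 1 := by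
    intro c hcQ hcP
    have h2 := rest_pow_one (n := 2) (hpres c hcQ hcP) (by rw [pow_two]; exact yy_sq hQa hcQ (hPa c hcP).2)
    rwa [pow_two] at h2
  have hfix : ∀ (c : V) (hcQ : Q c ≠ 0) (hcP : c ∈ P), rest (refl Q a hQa * refl Q c hcQ) W (hpres c hcQ hcP) ⟨a, ha⟩ =
      ⟨a, ha⟩ := by
    intro c hcQ hcP
    apply Subtype.ext
    rw [rest_apply]
    show (refl Q a hQa * refl Q c hcQ) a = a
    rw [yy_apply hQa hcQ (hPa c hcP).2, polar_self_two, polar_comm, (hPa c hcP).2, mul_zero, mul_zero, zero_smul,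
      zero_smul, sub_zero, sub_zero]
  have hWn : Nontrivial W := ⟨⟨⟨a, ha⟩, 0, fun h => ha0 (congrArg Subtype.val h)⟩⟩
  have heq := eq_of_solvable hpF (rest_pow_one hiff hc.pow) (hW.rest_ne hiff) (rest_irred hiff hW.min)
    (Or.inl CharTwo.two_eq_zero) (hsq b hQb hbP) (hone b hQb hbP hbS) (hsq b' hQb' hbP') (hone b' hQb' hbP' hba)
    (w := ⟨a, ha⟩) (fun h => ha0 (congrArg Subtype.val h)) (hfix b hQb hbP) (hfix b' hQb' hbP')
    (sol_rest hiff (hpres b hQb hbP) hs1) (sol_rest hiff (hpres b' hQb' hbP') hs2)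
  -- contradiction
  have hb0' : b' ≠ 0 := by
    rintro rfl
    exact hQb' (QuadraticMap.map_zero Q)
  obtain ⟨v, hv, hcv⟩ : ∃ v ∈ W, polar Q b' v ≠ 0 := by
    by_contra hcon
    push Not at hcon
    exact hb0' (hW.nondeg hc b' (hPa b' hbP').1 hcon)
  have h1 := congrArg Subtype.val (LinearEquiv.congr_fun heq ⟨v, hv⟩)
  rw [rest_apply, rest_apply, yy_apply hQa hQb (hPa b hbP).2, yy_apply hQa hQb' (hPa b' hbP').2] at h1
  have h2 : ((Q b)⁻¹ * polar Q b v) • b = ((Q b')⁻¹ * polar Q b' v) • b' := sub_right_injective h1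
  apply hbS'
  have h5 : ((Q b')⁻¹ * polar Q b' v) • b' ∈ Submodule.span F {a, b} := by
    rw [← h2]
    exact Submodule.smul_mem _ _ (Submodule.subset_span (by simp))
  exact (Submodule.smul_mem_iff _ (mul_ne_zero (inv_ne_zero hQb') hcv)).1 h5

/-- **The case of a fixed vector.** -/
theorem case_fixed [Finite F] [FiniteDimensional F V] [CharP F 2] [hp : Fact p.Prime] (hpF : (p : F) ≠ 0)
    (hF : ∃ c : F, c ≠ 0 ∧ c ≠ 1) (hc : Cfg Q p g) (hW : Min g W) {f : V} (hf0 : f ≠ 0) (hgf : g f = f) : False := by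
  have hVf : Finite V := Module.finite_of_finite F
  have hiff := hW.iff
  have hQf : Q f ≠ 0 := fun h => hc.line hf0 h (a := 1) (by rw [hgf, one_smul])
  -- `f` is orthogonal to `W`
  have hfW : ∀ w ∈ W, polar Q f w = 0 := by
    have h1 : W ⊓ LinearMap.ker (polarBilin Q f) = W := by
      refine (hW.min _ inf_le_left ?_).resolve_left ?_
      · rintro v ⟨hv1, hv2⟩
        refine ⟨hW.inv v hv1, ?_⟩
        show polar Q f (g v) = 0
        have h2 : polar Q (g f) (g v) = polar Q f v := polar_map hc.mem _ _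
        rw [hgf] at h2
        rw [h2]
        exact hv2
      · intro h
        obtain ⟨w, hw, hne⟩ := hW.act
        apply hne
        have h2 : polar Q (g f) (g w) = polar Q f w := polar_map hc.mem _ _
        rw [hgf] at h2
        have h3 : g w - w ∈ W ⊓ LinearMap.ker (polarBilin Q f) := by
          refine ⟨W.sub_mem (hW.inv w hw) hw, ?_⟩
          show polar Q f (g w - w) = 0
          rw [polar_sub_right, h2, sub_self]
        rw [h] at h3
        exact sub_eq_zero.1 ((Submodule.mem_bot F).1 h3)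
    intro w hw
    rw [← h1] at hw
    exact hw.2
  have hfnW : f ∉ W := fun hf => hf0 (hW.nondeg hc f hf hfW)
  obtain ⟨w0, hw0, hQw0⟩ := hc.exists_nonsing hW
  have hw00 : w0 ≠ 0 := by
    rintro rfl
    exact hQw0 (QuadraticMap.map_zero Q)
  have hWn : Nontrivial W := ⟨⟨⟨w0, hw0⟩, 0, fun h => hw00 (congrArg Subtype.val h)⟩⟩
  let B' : LinearMap.BilinForm F W := LinearMap.BilinForm.restrict (polarBilin Q) W
  have hB' : ∀ u v : W, B' u v = polar Q (u : V) v := fun _ _ => rfl
  have halt : ∀ (c : F) (u : W), (c • B') u u = 0 := by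
    intro c u
    rw [LinearMap.smul_apply, LinearMap.smul_apply, hB', polar_self_two, smul_zero]
  -- the transvections
  have key : ∀ s : F, Q (w0 + s • f) ≠ 0 →
      Group.IsSolvable ↥(closure ({rest g W hiff, tv ((Q (w0 + s • f))⁻¹ • B') ⟨w0, hw0⟩ (halt _ _)} :
        Set (W ≃ₗ[F] W))) := by
    intro s hs
    have hfa : polar Q f (w0 + s • f) = 0 := by
      rw [polar_add_right, polar_smul_right, hfW w0 hw0, polar_self_two, smul_zero, add_zero]
    have haf : w0 + s • f ∉ Submodule.span F {f} := by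
      intro h
      have h1 : w0 ∈ Submodule.span F {f} :=
        (Submodule.add_mem_iff_left _ (Submodule.smul_mem _ _ (Submodule.mem_span_singleton_self f))).1 h
      obtain ⟨b, hb⟩ := Submodule.mem_span_singleton.1 h1
      apply hfnW
      have hb0 : b ≠ 0 := by
        rintro rfl
        rw [zero_smul] at hb
        exact hw00 hb.symm
      rw [← hb] at hw0
      exact (Submodule.smul_mem_iff _ hb0).1 hw0
    have h1 := hc.sol f (w0 + s • f) hQf hs hfa haf
    set y := refl Q f hQf * refl Q (w0 + s • f) hs with hy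
    have hyv : ∀ v, y v = v - ((Q f)⁻¹ * polar Q f v) • f - ((Q (w0 + s • f))⁻¹ * polar Q (w0 + s • f) v) • (w0 + s • f) :=
      fun v => yy_apply hQf hs hfa v
    set T := tv ((Q (w0 + s • f))⁻¹ • B') ⟨w0, hw0⟩ (halt _ _) with hT
    have hyy : ∀ v, y (y v) = v := fun v => LinearEquiv.congr_fun (yy_sq hQf hs hfa) v
    have hTT : ∀ v, T (T v) = v := fun v => LinearEquiv.congr_fun (tv_sq (halt _ _)) v
    have hfor : ∀ (v : V) (w : W), v - w ∈ Submodule.span F {f} → y v - T w ∈ Submodule.span F {f} := by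
      intro v w h
      obtain ⟨k, hk⟩ := Submodule.mem_span_singleton.1 h
      have hv : v = w + k • f := by rw [hk]; abel
      have h2 : polar Q (w0 + s • f) v = polar Q w0 w := by
        rw [hv, polar_add_right, polar_smul_right, polar_add_left, polar_add_left, polar_smul_left, polar_smul_left,
          hfW w w.2, polar_comm Q w0 f, hfW w0 hw0, polar_self_two]
        simp
      have h3 : (T w : V) = w + ((Q (w0 + s • f))⁻¹ * polar Q w w0) • w0 := rfl
      rw [hyv, h2, h3, hv, polar_comm Q (w : V) w0]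
      generalize (Q (w0 + s • f))⁻¹ * polar Q w0 w = α
      generalize (Q f)⁻¹ * polar Q f (w + k • f) = β
      have h4 : (w : V) + k • f - β • f - α • (w0 + s • f) - (w + α • w0) = (k - β - α * s) • f - (α + α) • w0 := by
        rw [smul_add, sub_smul, sub_smul, add_smul, mul_smul]
        abel
      rw [h4, CharTwo.add_self_eq_zero, zero_smul, sub_zero]
      exact Submodule.smul_mem _ _ (Submodule.mem_span_singleton_self f)
    refine sol_of_rel (X := V) (Y := W) (fun v w => v - w ∈ Submodule.span F {f}) (fun w => ⟨w, ?_⟩)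
      (fun v w w' h2 h3 => ?_) (fun v w => ?_) (fun v w => ?_) h1
    · rw [sub_self]
      exact Submodule.zero_mem _
    · have h4 : (w' : V) - w ∈ Submodule.span F {f} := by
        have := Submodule.sub_mem _ h2 h3
        rwa [sub_sub_sub_cancel_left] at this
      obtain ⟨k, hk⟩ := Submodule.mem_span_singleton.1 h4
      by_cases hk0 : k = 0
      · rw [hk0, zero_smul] at hk
        exact Subtype.ext (sub_eq_zero.1 hk.symm).symm
      · exfalso
        apply hfnW
        have h5 : k • f ∈ W := by rw [hk]; exact W.sub_mem w'.2 w.2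
        exact (Submodule.smul_mem_iff _ hk0).1 h5
    · show g v - g (w : V) ∈ Submodule.span F {f} ↔ _
      rw [← map_sub, Submodule.mem_span_singleton, Submodule.mem_span_singleton]
      constructor
      · rintro ⟨k, hk⟩
        refine ⟨k, g.injective ?_⟩
        rw [map_smul, hgf, hk]
      · rintro ⟨k, hk⟩
        exact ⟨k, by rw [← hk, map_smul, hgf]⟩
    · constructor
      · intro h
        have h2 := hfor _ _ h
        change y (y v) - (T (T w) : W) ∈ _ at h2
        rwa [hyy, hTT] at h2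
      · exact hfor v w
  -- two values
  have hex : ∃ a ∈ W, polar Q a w0 ≠ 0 := by
    by_contra hcon
    push Not at hcon
    apply hw00
    apply hW.nondeg hc w0 hw0
    intro v hv
    rw [polar_comm, hcon v hv]
  obtain ⟨a, ha, haw⟩ := hex
  have hval : ∀ s : F, Q (w0 + s • f) = Q w0 + s * s * Q f := by
    intro s
    rw [Q_add, polar_smul_right, polar_comm, hfW w0 hw0, smul_zero, add_zero, QuadraticMap.map_smul, smul_eq_mul]
  obtain ⟨t, ht0, ht⟩ : ∃ t : F, t ≠ 0 ∧ Q (w0 + t • f) ≠ 0 := by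
    by_contra hcon
    push Not at hcon
    obtain ⟨c, hc0, hc1⟩ := hF
    have h1 := hcon 1 one_ne_zero
    have h2 := hcon c hc0
    rw [hval] at h1 h2
    have h3 : (c * c - 1) * Q f = 0 := by linear_combination h2 - h1
    have h4 : (c - 1) * (c - 1) = 0 := by
      have h5 := (mul_eq_zero.1 h3).resolve_right hQf
      have h6 : (2 : F) = 0 := CharTwo.two_eq_zero
      linear_combination h5 - (c - 1) * h6
    exact hc1 (sub_eq_zero.1 (mul_self_eq_zero.1 h4))
  have h0 : Q (w0 + (0 : F) • f) ≠ 0 := by rw [zero_smul, add_zero]; exact hQw0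
  have hsq : ∀ c : F, tv (c • B') ⟨w0, hw0⟩ (halt _ _) * tv (c • B') ⟨w0, hw0⟩ (halt _ _) = 1 := fun c => tv_sq _
  have hone : ∀ c : F, c ≠ 0 → tv (c • B') ⟨w0, hw0⟩ (halt _ _) ≠ 1 := by
    intro c hc0 h
    have h1 : (tv (c • B') ⟨w0, hw0⟩ (halt _ _) ⟨a, ha⟩ : V) = a + (c * polar Q a w0) • w0 := rfl
    rw [h] at h1
    have h2 : (c * polar Q a w0) • w0 = 0 := add_eq_left.1 h1.symm
    rcases smul_eq_zero.1 h2 with h3 | h3
    · rcases mul_eq_zero.1 h3 with h4 | h4
      · exact hc0 h4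
      · exact haw h4
    · exact hw00 h3
  have hfix : ∀ c : F, tv (c • B') ⟨w0, hw0⟩ (halt _ _) ⟨w0, hw0⟩ = ⟨w0, hw0⟩ := by
    intro c
    rw [tv_apply, halt, zero_smul, add_zero]
  have heq := eq_of_solvable hpF (rest_pow_one hiff hc.pow) (hW.rest_ne hiff) (rest_irred hiff hW.min)
    (Or.inl CharTwo.two_eq_zero) (hsq _) (hone _ (inv_ne_zero h0)) (hsq _) (hone _ (inv_ne_zero ht))
    (w := ⟨w0, hw0⟩) (fun h => hw00 (congrArg Subtype.val h)) (hfix _) (hfix _) (key 0 h0) (key t ht)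
  have h1 := congrArg Subtype.val (LinearEquiv.congr_fun heq ⟨a, ha⟩)
  have h2 : a + ((Q (w0 + (0 : F) • f))⁻¹ * polar Q a w0) • w0 = a + ((Q (w0 + t • f))⁻¹ * polar Q a w0) • w0 := h1
  have h3 := add_left_cancel h2
  have h4 : ((Q (w0 + (0 : F) • f))⁻¹ * polar Q a w0 - (Q (w0 + t • f))⁻¹ * polar Q a w0) • w0 = 0 := by
    rw [sub_smul, h3, sub_self]
  have h5 := (smul_eq_zero.1 h4).resolve_right hw00
  rw [← sub_mul] at h5
  have h6 := (mul_eq_zero.1 h5).resolve_right haw
  have h7 := inv_injective (sub_eq_zero.1 h6)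
  rw [hval, hval] at h7
  have h8 : t * t * Q f = 0 := by linear_combination -h7
  rcases mul_eq_zero.1 h8 with h9 | h9
  · exact ht0 (mul_self_eq_zero.1 h9)
  · exact hQf h9

end Lemmas

end Cfsg.Agent.H803.Inv
end

-- part: H803/Inv/OrthTwo
section
/-!
# Orthogonal groups in characteristic two (helper803, for S3830)
-/

set_option autoImplicit false
set_option linter.unusedSectionVars false

namespace Cfsg.Agent.H803.Inv

open Cfsg Subgroup Cfsg.Agent.H459.Inv Cfsg.Agent.H459.Iface Cfsg.Agent.H952.Rc QuadraticMap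
open Cfsg.Agent.BpCl (Semi SemiIso)
open Cfsg.Agent.LieClassical.OrthCore Cfsg.Agent.LieClassical.OrthTrans

universe u v

section Lemmas

variable {F : Type u} {V : Type v} [Field F] [AddCommGroup V] [Module F V] {Q : QuadraticForm F V}
variable {g : V ≃ₗ[F] V} {W W' : Submodule F V} {p : ℕ}

/-- in a plane -/
theorem mem_pair [FiniteDimensional F V] (hd : Module.finrank F W = 2) {w u : V} (hw : w ∈ W) (hu : u ∈ W)
    (hw0 : w ≠ 0) (huw : u ∉ Submodule.span F {w}) {x : V} (hx : x ∈ W) : x ∈ Submodule.span F {w, u} := by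
  have h1 : Submodule.span F {w, u} ≤ W := by
    rw [Submodule.span_le]
    rintro y (rfl | rfl)
    · exact hw
    · exact hu
  have h2 : Submodule.span F {w} < Submodule.span F {w, u} := by
    refine lt_of_le_of_ne (Submodule.span_mono (by simp)) fun h => huw ?_
    rw [h]
    exact Submodule.subset_span (by simp)
  have h3 := Submodule.finrank_lt_finrank_of_lt h2
  rw [finrank_span_singleton hw0] at h3
  have h4 : Submodule.span F {w, u} = W := Submodule.eq_of_le_of_finrank_le h1 (by omega)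
  rw [h4]
  exact hx

/-- orthogonal vectors in a nondegenerate plane -/
theorem mem_span_of_polar [Finite V] [FiniteDimensional F V] [CharP F 2] (hc : Cfg Q p g) (hW : Min g W)
    (hd : Module.finrank F W = 2) {w u : V} (hw : w ∈ W) (hu : u ∈ W) (hw0 : w ≠ 0) (h : polar Q w u = 0) :
    u ∈ Submodule.span F {w} := by
  by_contra hcon
  apply hw0
  apply hW.nondeg hc w hw
  intro v hv
  have h1 := mem_pair hd hw hu hw0 hcon hv
  obtain ⟨a, b, rfl⟩ := Submodule.mem_span_pair.1 h1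
  rw [polar_add_right, polar_smul_right, polar_smul_right, polar_self_two, h, smul_zero, smul_zero, add_zero]

/-- **The plane of a singular vector is not invariant.** -/
theorem no_sing_plane [CharP F 2] [hp : Fact p.Prime] (h5 : 5 ≤ p) (hc : Cfg Q p g) {v : V} (hv : v ≠ 0)
    (hQ : Q v = 0) {e c : F} (hg : g (g v) = e • v + c • g v) : False := by
  have hQg : Q (g v) = 0 := by rw [hc.mem v, hQ]
  have hgv : g v ≠ 0 := fun h => hv (by rw [← map_zero g] at h; exact g.injective h)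
  have hodd : Odd p := hp.out.odd_of_ne_two (by omega)
  by_cases ht : polar Q v (g v) = 0
  · refine hc.ts (Submodule.span F {v, g v}) ?_ ?_ ?_
    · intro h
      apply hv
      have h1 : v ∈ Submodule.span F {v, g v} := Submodule.subset_span (by simp)
      rw [h] at h1
      exact (Submodule.mem_bot F).1 h1
    · intro u hu
      obtain ⟨a, b, rfl⟩ := Submodule.mem_span_pair.1 hu
      rw [map_add, map_smul, map_smul, hg]
      refine Submodule.add_mem _ (Submodule.smul_mem _ _ (Submodule.subset_span (by simp)))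
        (Submodule.smul_mem _ _ (Submodule.add_mem _ (Submodule.smul_mem _ _ (Submodule.subset_span (by simp)))
          (Submodule.smul_mem _ _ (Submodule.subset_span (by simp)))))
    · intro u hu
      obtain ⟨a, b, rfl⟩ := Submodule.mem_span_pair.1 hu
      rw [Q_add, QuadraticMap.map_smul, QuadraticMap.map_smul, polar_smul_left, polar_smul_right, hQ, hQg, ht]
      simp
  · have h1 : Q (g (g v)) = 0 := by rw [hc.mem, hQg]
    rw [hg, Q_add, QuadraticMap.map_smul, QuadraticMap.map_smul, polar_smul_left, polar_smul_right, hQ, hQg, smul_zero,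
      smul_zero, zero_add, zero_add, smul_eq_mul, smul_eq_mul] at h1
    rcases mul_eq_zero.1 h1 with h2 | h2
    · -- `g v` is an eigenvector
      rw [h2, zero_smul, zero_add] at hg
      exact hc.line hgv hQg hg
    · have hc0 : c = 0 := (mul_eq_zero.1 h2).resolve_right ht
      rw [hc0, zero_smul, add_zero] at hg
      have h3 : ∀ k : ℕ, (g ^ (2 * k)) v = e ^ k • v := by
        intro k
        induction k with
        | zero => rw [mul_zero, pow_zero, pow_zero, one_smul]; rfl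
        | succ k ih =>
          rw [show 2 * (k + 1) = 2 + 2 * k by ring, pow_add]
          show (g ^ 2) ((g ^ (2 * k)) v) = _
          rw [ih, map_smul, pow_two]
          show e ^ k • g (g v) = _
          rw [hg, smul_smul, pow_succ]
      obtain ⟨k, hk⟩ := hodd
      have h4 : (g ^ p) v = e ^ k • g v := by
        rw [hk, pow_succ']
        show g ((g ^ (2 * k)) v) = _
        rw [h3, map_smul]
      rw [hc.pow] at h4
      apply ht
      have h6 : v = e ^ k • g v := h4
      rw [h6, map_smul, polar_smul_left, polar_smul_right]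
      have h7 : polar Q (g v) (g (g v)) = polar Q v (g v) := polar_map hc.mem _ _
      have h8 : polar Q (e ^ k • g v) (g v) = 0 := by rw [polar_smul_left, polar_self_two, smul_zero]
      rw [← h6] at h8
      exact absurd h8 ht

/-- **The invariant subspaces of `W ⊕ W'`.** -/
theorem inv_cases [Finite F] [FiniteDimensional F V] [CharP F 2] [hp : Fact p.Prime] (h5 : 5 ≤ p)
    (hc : Cfg Q p g) (hW : Min g W) (hW' : Min g W') (hd : Module.finrank F W = 2) (hd' : Module.finrank F W' = 2)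
    (hinf : W ⊓ W' = ⊥) {D : Submodule F V} (hD : D ≤ W ⊔ W') (hgD : ∀ v ∈ D, g v ∈ D) :
    D = ⊥ ∨ D = W ∨ D = W' ∨ D = W ⊔ W' := by
  have h1 : D ⊓ W = ⊥ ∨ D ⊓ W = W := hW.min _ inf_le_right fun v hv => ⟨hgD v hv.1, hW.inv v hv.2⟩
  have h2 : D ⊓ W' = ⊥ ∨ D ⊓ W' = W' := hW'.min _ inf_le_right fun v hv => ⟨hgD v hv.1, hW'.inv v hv.2⟩
  rcases h1 with h1 | h1
  · rcases h2 with h2 | h2
    · by_cases hDb : D = ⊥
      · exact Or.inl hDb
      exfalso
      obtain ⟨d, hd0, hdne⟩ := Submodule.exists_mem_ne_zero_of_ne_bot hDb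
      obtain ⟨w, hw, w', hw', hww⟩ := Submodule.mem_sup.1 (hD hd0)
      have hw0 : w ≠ 0 := by
        rintro rfl
        rw [zero_add] at hww
        have h3 : d ∈ D ⊓ W' := ⟨hd0, by rw [← hww]; exact hw'⟩
        rw [h2] at h3
        exact hdne ((Submodule.mem_bot F).1 h3)
      have hw0' : w' ≠ 0 := by
        rintro rfl
        rw [add_zero] at hww
        have h3 : d ∈ D ⊓ W := ⟨hd0, by rw [← hww]; exact hw⟩
        rw [h1] at h3
        exact hdne ((Submodule.mem_bot F).1 h3)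
      -- `g² w` is a combination of `w` and `g w`
      have hgw : g w ∉ Submodule.span F {w} := by
        intro h
        obtain ⟨a, ha⟩ := Submodule.mem_span_singleton.1 h
        rcases hW.min (Submodule.span F {w}) (by
          rw [Submodule.span_singleton_le_iff_mem]; exact hw) (by
          intro v hv
          obtain ⟨b, rfl⟩ := Submodule.mem_span_singleton.1 hv
          rw [map_smul]
          exact Submodule.smul_mem _ _ h) with h3 | h3
        · rw [Submodule.span_singleton_eq_bot] at h3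
          exact hw0 h3
        · rw [← h3, finrank_span_singleton hw0] at hd
          omega
      obtain ⟨e, c, hec⟩ := Submodule.mem_span_pair.1
        (mem_pair hd hw (hW.inv w hw) hw0 hgw (hW.inv _ (hW.inv w hw)))
      set L : V →ₗ[F] V := g.toLinearMap ∘ₗ g.toLinearMap - (e • LinearMap.id + c • g.toLinearMap) with hL
      have hLv : ∀ v, L v = g (g v) - (e • v + c • g v) := fun v => rfl
      have hLg : ∀ v, L (g v) = g (L v) := by
        intro v
        rw [hLv, hLv, map_sub, map_add, map_smul, map_smul]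
      have hLD : ∀ (M : Submodule F V), (∀ v ∈ M, g v ∈ M) → ∀ v ∈ M, L v ∈ M := by
        intro M hM v hv
        rw [hLv]
        exact M.sub_mem (hM _ (hM v hv)) (M.add_mem (M.smul_mem _ hv) (M.smul_mem _ (hM v hv)))
      have hLw : L w = 0 := by rw [hLv, hec, sub_self]
      have hLw' : L w' = 0 := by
        have h3 : L d ∈ D ⊓ W' := by
          refine ⟨hLD D hgD d hd0, ?_⟩
          rw [← hww, map_add, hLw, zero_add]
          exact hLD W' hW'.inv w' hw'
        rw [h2] at h3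
        have h4 := (Submodule.mem_bot F).1 h3
        rwa [← hww, map_add, hLw, zero_add] at h4
      have hker : ∀ (M : Submodule F V), Min g M → ∀ m ∈ M, m ≠ 0 → L m = 0 → M ≤ LinearMap.ker L := by
        intro M hM m hm hm0 hLm
        have h3 : M ⊓ LinearMap.ker L = M := by
          refine (hM.min _ inf_le_left ?_).resolve_left ?_
          · rintro v ⟨hv1, hv2⟩
            refine ⟨hM.inv v hv1, ?_⟩
            have h4 : L v = 0 := hv2
            show L (g v) = 0
            rw [hLg, h4, map_zero]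
          · intro h
            have h4 : m ∈ M ⊓ LinearMap.ker L := ⟨hm, hLm⟩
            rw [h] at h4
            exact hm0 ((Submodule.mem_bot F).1 h4)
        rw [← h3]
        exact inf_le_right
      have hLU : W ⊔ W' ≤ LinearMap.ker L := sup_le (hker W hW w hw hw0 hLw) (hker W' hW' w' hw' hw0' hLw')
      -- a singular vector
      have hdim := Submodule.finrank_sup_add_finrank_inf_eq W W'
      rw [hinf, finrank_bot] at hdim
      obtain ⟨v, hv, hv0, hQv⟩ := Cfsg.Agent.LieClassical.OrthFinite.exists_sing_mem (Q := Q) (W ⊔ W') (by omega)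
      have h3 : L v = 0 := hLU hv
      rw [hLv, sub_eq_zero] at h3
      exact no_sing_plane h5 hc hv0 hQv h3
    · -- `W' ≤ D`
      have h3 : W' ≤ D := inf_eq_right.1 h2
      have h4 : (W' ⊔ W) ⊓ D = W' ⊔ W ⊓ D := sup_inf_assoc_of_le W h3
      rw [inf_comm W D, h1, sup_bot_eq, sup_comm, inf_eq_right.2 hD] at h4
      exact Or.inr (Or.inr (Or.inl h4))
  · have h3 : W ≤ D := inf_eq_right.1 h1
    have h4 : (W ⊔ W') ⊓ D = W ⊔ W' ⊓ D := sup_inf_assoc_of_le W' h3
    rw [inf_comm W' D, inf_eq_right.2 hD] at h4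
    rcases h2 with h2 | h2
    · rw [h2, sup_bot_eq] at h4
      exact Or.inr (Or.inl h4)
    · rw [h2] at h4
      exact Or.inr (Or.inr (Or.inr h4))

/-- **The case of two planes.** -/
theorem case_two [Finite F] [FiniteDimensional F V] [CharP F 2] [hp : Fact p.Prime] (h5 : 5 ≤ p) (hpF : (p : F) ≠ 0)
    (hF : ∃ c : F, c ≠ 0 ∧ c ≠ 1) (hc : Cfg Q p g) (hW : Min g W) (hW' : Min g W') (hd : Module.finrank F W = 2)
    (hd' : Module.finrank F W' = 2) (horth : ∀ w ∈ W, ∀ w' ∈ W', polar Q w w' = 0) : False := by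
  have hVf : Finite V := Module.finite_of_finite F
  have hinf : W ⊓ W' = ⊥ := by
    rw [eq_bot_iff]
    rintro u ⟨hu1, hu2⟩
    rw [Submodule.mem_bot]
    apply hW'.nondeg hc u hu2
    intro v hv
    exact horth u hu1 v hv
  obtain ⟨w1, hw1, hQ1⟩ := hc.exists_nonsing hW
  obtain ⟨w2, hw2, hQ2⟩ := hc.exists_nonsing hW'
  have hw10 : w1 ≠ 0 := by
    rintro rfl
    exact hQ1 (QuadraticMap.map_zero Q)
  have hw20 : w2 ≠ 0 := by
    rintro rfl
    exact hQ2 (QuadraticMap.map_zero Q)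
  have h12 : polar Q w1 w2 = 0 := horth w1 hw1 w2 hw2
  -- the second vector
  obtain ⟨t, ht0, ht⟩ : ∃ t : F, t ≠ 0 ∧ Q (t • w1 + w2) ≠ 0 := by
    by_contra hcon
    push Not at hcon
    obtain ⟨c, hc0, hc1⟩ := hF
    have h1 := hcon 1 one_ne_zero
    have h2 := hcon c hc0
    rw [Q_add, QuadraticMap.map_smul, polar_smul_left, h12, smul_zero, add_zero, smul_eq_mul] at h1 h2
    have h3 : (c * c - 1) * Q w1 = 0 := by linear_combination h2 - h1
    have h4 : (c - 1) * (c - 1) = 0 := by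
      have h5 := (mul_eq_zero.1 h3).resolve_right hQ1
      have h6 : (2 : F) = 0 := CharTwo.two_eq_zero
      linear_combination h5 - (c - 1) * h6
    exact hc1 (sub_eq_zero.1 (mul_self_eq_zero.1 h4))
  set a := t • w1 + w2 with ha
  have h1a : polar Q w1 a = 0 := by
    rw [ha, polar_add_right, polar_smul_right, polar_self_two, h12, smul_zero, add_zero]
  have hnotW : a ∉ W := by
    intro h
    have h1 : w2 ∈ W := (W.add_mem_iff_right (W.smul_mem t hw1)).1 h
    have h2 : w2 ∈ W ⊓ W' := ⟨h1, hw2⟩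
    rw [hinf] at h2
    exact hw20 ((Submodule.mem_bot F).1 h2)
  have hnotW' : a ∉ W' := by
    intro h
    have h1 : t • w1 ∈ W' := (W'.add_mem_iff_left hw2).1 h
    have h2 : w1 ∈ W ⊓ W' := ⟨hw1, (Submodule.smul_mem_iff _ ht0).1 h1⟩
    rw [hinf] at h2
    exact hw10 ((Submodule.mem_bot F).1 h2)
  have haspan : a ∉ Submodule.span F {w1} := fun h => hnotW ((Submodule.span_singleton_le_iff_mem _ _).2 hw1 h)
  have hsol := hc.sol w1 a hQ1 ht h1a haspan
  set y := refl Q w1 hQ1 * refl Q a ht with hy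
  have hyv : ∀ v, y v = v - ((Q w1)⁻¹ * polar Q w1 v) • w1 - ((Q a)⁻¹ * polar Q a v) • a :=
    fun v => yy_apply hQ1 ht h1a v
  -- the space `U`
  set U := W ⊔ W' with hU
  have hWU : W ≤ U := le_sup_left
  have hWU' : W' ≤ U := le_sup_right
  have haU : a ∈ U := U.add_mem (U.smul_mem _ (hWU hw1)) (hWU' hw2)
  have hgU : ∀ v, g v ∈ U ↔ v ∈ U := by
    refine inv_iff (g := g.toEquiv) ?_
    intro v hv
    obtain ⟨s, hs, t, ht, rfl⟩ := Submodule.mem_sup.1 hv
    show g (s + t) ∈ U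
    rw [map_add]
    exact U.add_mem (hWU (hW.inv s hs)) (hWU' (hW'.inv t ht))
  have hyU : ∀ v, y v ∈ U ↔ v ∈ U := by
    intro v
    rw [hyv, sub_sub]
    exact U.sub_mem_iff_left (U.add_mem (U.smul_mem _ (hWU hw1)) (U.smul_mem _ haU))
  have hdim := Submodule.finrank_sup_add_finrank_inf_eq W W'
  rw [hinf, finrank_bot, ← hU] at hdim
  have hfr : ∀ {M : Submodule F V}, M ≤ U → Module.finrank F (M.comap U.subtype) = Module.finrank F M :=
    fun {M} hM => (Submodule.comapSubtypeEquivOfLe hM).finrank_eq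
  have h20 : (2 : F) = 0 := CharTwo.two_eq_zero
  refine four_dim (p := p) h5 h20 hpF (U := U) (by omega) (g := rest g U hgU) (y := rest y U hyU)
    (rest_pow_one hgU hc.pow) (W := W.comap U.subtype) (W' := W'.comap U.subtype) ?_ ?_ ?_ ?_
    (by rw [hfr hWU]; omega) (by rw [hfr hWU']; omega) ?_
    (w := ⟨w1, hWU hw1⟩) hw1 (fun h => hw10 (congrArg Subtype.val h)) ?_ ?_
    (w' := ⟨w2, hWU' hw2⟩) hw2 (fun h => hw20 (congrArg Subtype.val h)) ?_ ?_ (sol_rest hgU hyU hsol)
  · -- intersection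
    rw [eq_bot_iff]
    rintro ⟨u, hu⟩ ⟨hu1, hu2⟩
    have h2 : u ∈ W ⊓ W' := ⟨hu1, hu2⟩
    rw [hinf] at h2
    exact (Submodule.mem_bot F).2 (Subtype.ext ((Submodule.mem_bot F).1 h2))
  · -- sum
    rw [eq_top_iff]
    rintro ⟨u, hu⟩ -
    obtain ⟨s, hs, t, ht, rfl⟩ := Submodule.mem_sup.1 hu
    refine Submodule.mem_sup.2 ⟨⟨s, hWU hs⟩, hs, ⟨t, hWU' ht⟩, ht, rfl⟩
  · rintro ⟨v, hv⟩ hv'
    exact hW.inv v hv'
  · rintro ⟨v, hv⟩ hv'
    exact hW'.inv v hv'
  · -- invariant subspaces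
    intro D hD
    have h1 : D.map U.subtype ≤ W ⊔ W' := by
      rintro _ ⟨u, _, rfl⟩
      exact u.2
    have hback : ∀ M : Submodule F V, D.map U.subtype = M → D = M.comap U.subtype := by
      intro M hM
      rw [← hM, Submodule.comap_map_eq_of_injective U.injective_subtype]
    rcases inv_cases h5 hc hW hW' hd hd' hinf h1 (by
      rintro _ ⟨u, hu, rfl⟩
      exact ⟨_, hD u hu, rfl⟩) with h | h | h | h
    · left
      rw [hback _ h, eq_bot_iff]
      intro u hu
      exact (Submodule.mem_bot F).2 (Subtype.ext ((Submodule.mem_bot F).1 hu))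
    · exact Or.inr (Or.inl (hback _ h))
    · exact Or.inr (Or.inr (Or.inl (hback _ h)))
    · right; right; right
      rw [hback _ h, eq_top_iff]
      rintro u -
      exact u.2
  · -- `y w1 = w1`
    apply Subtype.ext
    rw [rest_apply]
    show y w1 = w1
    rw [hyv, polar_self_two, polar_comm, h1a]
    simp
  · rintro ⟨u, hu⟩ hu1 hu2
    have hu2' : y u ∈ W := hu2
    have hu1' : u ∈ W := hu1
    have h3 : polar Q w1 u = 0 := by
      by_contra hne
      apply hnotW
      have h4 : polar Q a u = t * polar Q w1 u := by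
        rw [ha, polar_add_left, polar_smul_left, polar_comm Q w2 u, horth u hu1' w2 hw2, add_zero, smul_eq_mul]
      rw [hyv, W.sub_mem_iff_right (W.sub_mem hu1' (W.smul_mem _ hw1)), h4] at hu2'
      exact (Submodule.smul_mem_iff _ (mul_ne_zero (inv_ne_zero ht) (mul_ne_zero ht0 hne))).1 hu2'
    obtain ⟨b, hb⟩ := Submodule.mem_span_singleton.1 (mem_span_of_polar hc hW hd hw1 hu1' hw10 h3)
    exact Submodule.mem_span_singleton.2 ⟨b, Subtype.ext hb⟩
  · apply Subtype.ext
    rw [rest_apply]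
    show y w2 = w2
    have h4 : polar Q a w2 = 0 := by
      rw [ha, polar_add_left, polar_smul_left, h12, polar_self_two, smul_zero, add_zero]
    rw [hyv, h12, h4]
    simp
  · rintro ⟨u, hu⟩ hu1 hu2
    have hu2' : y u ∈ W' := hu2
    have hu1' : u ∈ W' := hu1
    have h3 : polar Q w2 u = 0 := by
      by_contra hne
      apply hnotW'
      have h4 : polar Q a u = polar Q w2 u := by
        rw [ha, polar_add_left, polar_smul_left, horth w1 hw1 u hu1', smul_zero, zero_add]
      rw [hyv, horth w1 hw1 u hu1', mul_zero, zero_smul, sub_zero, W'.sub_mem_iff_right hu1', h4] at hu2'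
      exact (Submodule.smul_mem_iff _ (mul_ne_zero (inv_ne_zero ht) hne)).1 hu2'
    obtain ⟨b, hb⟩ := Submodule.mem_span_singleton.1 (mem_span_of_polar hc hW' hd' hw2 hu1' hw20 h3)
    exact Submodule.mem_span_singleton.2 ⟨b, Subtype.ext hb⟩

/-- **The core.** -/
theorem orth_core [Finite F] [FiniteDimensional F V] [CharP F 2] [hp : Fact p.Prime] (h5 : 5 ≤ p) (hpF : (p : F) ≠ 0)
    (hdV : 5 ≤ Module.finrank F V) (hc : Cfg Q p g) (hg1 : g ≠ 1) : False := by
  have hVf : Finite V := Module.finite_of_finite F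
  -- minimal subspaces have dimension two
  have hmin : ∀ W : Submodule F V, Min g W → Module.finrank F W = 2 ∧ ∃ c : F, c ≠ 0 ∧ c ≠ 1 := by
    intro W hW
    have h1 : ¬ 3 ≤ Module.finrank F W := fun h => case_big hpF hc hW h
    obtain ⟨k, hk⟩ := hW.even hc
    have h2 : Module.finrank F W ≠ 0 := by
      intro h
      exact hW.ne (Submodule.finrank_eq_zero.1 h)
    have h3 : Module.finrank F W = 2 := by omega
    refine ⟨h3, ?_⟩
    by_contra hcon
    push Not at hcon
    have hq : Nat.card F ≤ 2 := by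
      classical
      have := Fintype.ofFinite F
      rw [Nat.card_eq_fintype_card]
      have h1 : (Finset.univ : Finset F) ⊆ {0, 1} := by
        intro t _
        by_cases h0 : t = 0
        · simp [h0]
        · simp [hcon t h0]
      exact (Finset.card_le_card h1).trans Finset.card_le_two
    have h4 := four_lt_card h5 (rest_pow_one hW.iff hc.pow) (hW.rest_ne hW.iff)
    have h6 := Module.natCard_eq_pow_finrank (K := F) (V := W)
    rw [h3] at h6
    have h7 : Nat.card F ^ 2 ≤ 2 ^ 2 := Nat.pow_le_pow_left hq 2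
    omega
  have hcW := BpCl.isCompl_W hc.pow hpF
  have hform : ∀ u v, polarBilin Q (g u) (g v) = polarBilin Q u v := fun u v => polar_map hc.mem u v
  -- a minimal subspace
  have hW1 : BpCl.W1 p g ≠ ⊥ := by
    intro h
    have h1 := hcW.sup_eq_top
    rw [h, sup_bot_eq] at h1
    apply hg1
    apply LinearEquiv.ext
    intro v
    have h2 : v ∈ BpCl.W0 g := by rw [h1]; exact Submodule.mem_top
    exact BpCl.mem_W0.1 h2
  obtain ⟨W, hWle, hWb, hWinv, hWmin⟩ := exists_min g hW1 (fun v hv => BpCl.W1_map (fun _ => rfl) hv)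
  have hnofix : ∀ w ∈ W, g w = w → w = 0 := by
    intro w hw hgw
    exact Submodule.disjoint_def.1 hcW.disjoint w (BpCl.mem_W0.2 hgw) (hWle hw)
  have hW : Min g W := by
    refine ⟨hWb, hWinv, hWmin, ?_⟩
    obtain ⟨w, hw, hw0⟩ := Submodule.exists_mem_ne_zero_of_ne_bot hWb
    exact ⟨w, hw, fun h => hw0 (hnofix w hw h)⟩
  obtain ⟨hd, hF⟩ := hmin W hW
  by_cases hfix : ∃ f : V, f ≠ 0 ∧ g f = f
  · obtain ⟨f, hf0, hgf⟩ := hfix
    exact case_fixed hpF hF hc hW hf0 hgf
  push Not at hfix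
  -- the orthogonal complement
  set B := polarBilin Q with hB
  have hrefl := polarBilin_refl Q
  have horthinv : ∀ v, g v ∈ LinearMap.BilinForm.orthogonal B W ↔ v ∈ LinearMap.BilinForm.orthogonal B W :=
    orth_iff (g := g.toEquiv) (φ := RingEquiv.refl F) hform hW.iff
  have hob : LinearMap.BilinForm.orthogonal B W ≠ ⊥ := by
    intro h
    have h6 := LinearMap.BilinForm.finrank_add_finrank_orthogonal hrefl W
    rw [← hB, h, finrank_bot] at h6
    have h7 : Module.finrank F ↥(W ⊓ LinearMap.BilinForm.orthogonal B ⊤) ≤ Module.finrank F W :=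
      Submodule.finrank_mono inf_le_left
    omega
  obtain ⟨W', hWle', hWb', hWinv', hWmin'⟩ := exists_min g hob (fun v hv => (horthinv v).2 hv)
  have hW' : Min g W' := by
    refine ⟨hWb', hWinv', hWmin', ?_⟩
    obtain ⟨w, hw, hw0⟩ := Submodule.exists_mem_ne_zero_of_ne_bot hWb'
    exact ⟨w, hw, hfix w hw0⟩
  exact case_two h5 hpF hF hc hW hW' hd (hmin W' hW').1 (fun w hw w' hw' => hWle' hw' w hw)

end Lemmas

section Main

variable {F : Type u} {V : Type v} [Field F] [AddCommGroup V] [Module F V] {Q : QuadraticForm F V}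
  {Γ : Subgroup (V ≃ₗ[F] V)}

/-- **Orthogonal groups of characteristic two**, the semilinear isometry normalised. -/
theorem orth_norm_ns [Finite F] [FiniteDimensional F V] {p : ℕ} [hp : Fact p.Prime]
    [CharP F 2] (h5 : 5 ≤ p) (hpF : (p : F) ≠ 0) (hQ : Nondeg Q) (hd : 7 ≤ Module.finrank F V) (hΓ : Γ = E Q)
    {x : MulAut (↥Γ ⧸ center ↥Γ)}
    {g : Equiv.Perm V} {φ : F ≃+* F} (hg : SemiIso (fun u _ => Q u) φ 1 g) (hgp : g ^ p = 1)
    (hφ : ∀ a, φ^[p] a = a) (hx : Comp x g) (hx1 : x ≠ 1) : FixR 2 x ∨ NS x := by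
  have hr : Fact (Nat.Prime 2) := ⟨Nat.prime_two⟩
  have hG : Good Q := Cfsg.Agent.LieClassical.OrthFinite.good_of_finite hQ (by omega)
  have hVf : Finite V := Module.finite_of_finite F
  have hf0 : Finite (V ≃ₗ[F] V) := Finite.of_injective (fun h : V ≃ₗ[F] V => (h : V → V)) DFunLike.coe_injective
  have hVn : Nontrivial V := Module.nontrivial_of_finrank_pos (R := F) (by omega)
  have hQg : ∀ u, Q (g u) = φ (Q u) := fun u => by
    have := hg.form u u
    rwa [one_mul] at this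
  have hform : ∀ u v, polarBilin Q (g u) (g v) = φ (polarBilin Q u v) := by
    intro u v
    change polar Q (g u) (g v) = φ (polar Q u v)
    unfold polar
    rw [← hg.add, hQg, hQg, hQg, map_sub, map_sub]
  have hodd : Odd p := hp.out.odd_of_ne_two (by omega)
  have hrefl := polarBilin_refl Q
  by_contra hcon
  push Not at hcon
  obtain ⟨hnoF, hns⟩ := hcon
  -- a totally singular invariant subspace
  have hts : ∀ U : Submodule F V, U ≠ ⊥ → (∀ u ∈ U, g u ∈ U) → ¬ ∀ u ∈ U, Q u = 0 := by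
    intro U hU0 hU hUQ
    apply hnoF
    obtain ⟨u, hu, hu0⟩ := Submodule.exists_mem_ne_zero_of_ne_bot hU0
    have hU' := inv_iff hU
    have hUU : ∀ u ∈ U, ∀ v ∈ U, polar Q u v = 0 := by
      intro u hu v hv
      unfold polar
      rw [hUQ _ (U.add_mem hu hv), hUQ u hu, hUQ v hv, sub_zero, sub_zero]
    have hUP : U ≤ LinearMap.BilinForm.orthogonal (polarBilin Q) U := fun v hv w hw => hUU w hw v hv
    obtain ⟨w, hw, hwu⟩ : ∃ w ∈ LinearMap.BilinForm.orthogonal (polarBilin Q) U, w ∉ Submodule.span F {u} := by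
      by_contra hcon
      push Not at hcon
      have h1 : LinearMap.BilinForm.orthogonal (polarBilin Q) U ≤ Submodule.span F {u} := hcon
      have h2 := Submodule.finrank_mono h1
      have h3 := Submodule.finrank_mono hUP
      have h4 := finrank_span_singleton (K := F) hu0
      have h6 := LinearMap.BilinForm.finrank_add_finrank_orthogonal hrefl U
      omega
    have hu' : Q u = 0 := hUQ u hu
    have hw' : polar Q u w = 0 := hw u hu
    have hmem : siegel Q u w hu' hw' ∈ Γ := by rw [hΓ]; exact siegel_mem_E hu' hw'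
    refine hx.fixR_unip hg.add (U := U) (P := LinearMap.BilinForm.orthogonal (polarBilin Q) U) hUP hU'
      (orth_iff hform hU') ⟨_, hmem⟩ ?_ ?_
    · refine ⟨fun v hv => ?_, fun v hv => ?_, fun v => ?_⟩
      · change siegel Q u w hu' hw' v = v
        have h1 : polar Q w v = 0 := by rw [polar_comm]; exact hw v hv
        rw [siegel_apply, hUU u hu v hv, h1, zero_smul, zero_smul, mul_zero, zero_smul, add_zero, sub_zero, sub_zero]
      · change siegel Q u w hu' hw' v - v ∈ U
        have h1 : polar Q u v = 0 := hv u hu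
        rw [siegel_apply, h1, zero_smul, mul_zero, zero_smul, add_zero, sub_zero, sub_sub_cancel_left]
        exact U.neg_mem (U.smul_mem _ hu)
      · change siegel Q u w hu' hw' v - v ∈ LinearMap.BilinForm.orthogonal (polarBilin Q) U
        have e : siegel Q u w hu' hw' v - v = polar Q u v • w - polar Q w v • u - (Q w * polar Q u v) • u := by
          rw [siegel_apply]; abel
        rw [e]
        exact Submodule.sub_mem _ (Submodule.sub_mem _ (Submodule.smul_mem _ _ hw)
          (Submodule.smul_mem _ _ (hUP hu))) (Submodule.smul_mem _ _ (hUP hu))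
    · intro hz
      obtain ⟨c, hc⟩ := center_scalar_orth hG hΓ hz
      have hc' : ∀ v, siegel Q u w hu' hw' v = c • v := hc
      have h1 := hc' u
      have h2 : polar Q u u = 0 := polar_self_of_sing hu'
      have h3 : polar Q w u = 0 := by rw [polar_comm]; exact hw'
      rw [siegel_apply, h2, h3, zero_smul, zero_smul, mul_zero, zero_smul, add_zero, sub_zero, sub_zero] at h1
      have hc1 : c = 1 := by
        have h4 : (c - 1) • u = 0 := by rw [sub_smul, one_smul, ← h1, sub_self]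
        rcases smul_eq_zero.1 h4 with h5 | h5
        · exact sub_eq_zero.1 h5
        · exact absurd h5 hu0
      obtain ⟨u', huu'⟩ := exists_hyp hG.nondeg hu' hu0
      have h4 := hc' u'
      rw [siegel_apply, huu'.pair, hc1, one_smul, one_smul, mul_one] at h4
      apply hwu
      rw [Submodule.mem_span_singleton]
      refine ⟨polar Q w u' + Q w, ?_⟩
      have h6 : u' + w - polar Q w u' • u - Q w • u - u' = 0 := by rw [h4, sub_self]
      rw [add_smul]
      have h7 : w - (polar Q w u' • u + Q w • u) = 0 := by rw [← h6]; abel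
      exact (sub_eq_zero.1 h7).symm
  have hsing : ∀ u : V, u ≠ 0 → g u = u → Q u ≠ 0 := by
    intro u hu0 hu hQu
    refine hts (Submodule.span F {u}) ?_ (fun v hv => (span_inv hg.toSemi hu v).2 hv) ?_
    · rw [Ne, Submodule.span_singleton_eq_bot]
      exact hu0
    · intro v hv
      obtain ⟨a, rfl⟩ := Submodule.mem_span_singleton.1 hv
      rw [QuadraticMap.map_smul, hQu, smul_zero]
  by_cases hφ1 : φ = RingEquiv.refl F
  swap
  · -- a field automorphism is involved
    have hspan := Cfsg.Agent.BpCl.span_U hg.toSemi hp.out hgp hφ hφ1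
    obtain ⟨ι, _, b, b0, hb⟩ := Cfsg.Agent.BpCl.exists_basis hg.toSemi hspan
    have h1 : Module.finrank F V = Fintype.card ι := Module.finrank_eq_card_basis b
    have h2 : Module.finrank (Cfsg.Agent.BpCl.K0 φ) (Cfsg.Agent.BpCl.U hg.toSemi) = Fintype.card ι :=
      Module.finrank_eq_card_basis b0
    have hfd : Module.Finite (Cfsg.Agent.BpCl.K0 φ) (Cfsg.Agent.BpCl.U hg.toSemi) := Module.Finite.of_basis b0
    obtain ⟨w, -, hw0, hw⟩ := Cfsg.Agent.LieClassical.OrthFinite.exists_sing_mem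
      (Q := Cfsg.Agent.BpCl.quad0 hg) (⊤ : Submodule (Cfsg.Agent.BpCl.K0 φ) (Cfsg.Agent.BpCl.U hg.toSemi))
      (by rw [finrank_top]; omega)
    have h3 : Q (w : V) = 0 := by
      rw [← Cfsg.Agent.BpCl.quad0_coe hg w, hw]
      rfl
    exact hsing w (fun h => hw0 (Subtype.ext h)) w.2 h3
  subst hφ1
  obtain ⟨g', hg'⟩ := Cfsg.Agent.BpCl.exists_linear hg.toSemi
  have hgg : ∀ v, g v = g' v := fun v => by rw [← hg']; rfl
  have hgO : g' ∈ O Q := fun v => by rw [← hgg, hQg]; rfl
  have hx' : Comp x g'.toEquiv := by rw [hg']; exact hx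
  have hgp' : g' ^ p = 1 := by
    apply LinearEquiv.ext
    intro v
    rw [Cfsg.Agent.BpCl.lin_pow, hg', hgp]
    rfl
  have hg1 : g' ≠ 1 := by
    intro h
    apply hx1
    ext k
    obtain ⟨h', rfl⟩ := QuotientGroup.mk'_surjective (center ↥Γ) k
    rw [hx'.apply (h' := h') (fun v => by rw [h]; rfl)]
    rfl
  have hg'Γ : g' ∈ Γ := by rw [hΓ]; exact mem_E_of_odd hG hgO hodd hgp'
  refine orth_core h5 hpF (by omega) (g := g') ⟨hQ, hgO, hgp', fun U hU0 hU => hts U hU0 (fun u hu => by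
    rw [hgg]; exact hU u hu), ?_⟩ hg1
  intro a b ha hb hab hspan
  have hy : refl Q a ha * refl Q b hb ∈ Γ := by rw [hΓ]; exact refl_refl_mem hG ha hb
  refine sol_of_not_ns hx' hg'Γ hns hy (yy_sq ha hb hab) ?_
  -- the product is not central
  intro hz
  obtain ⟨c, hcz⟩ := center_scalar_orth hG hΓ hz
  have hcz' : ∀ v, (refl Q a ha * refl Q b hb) v = c • v := hcz
  have ha0 : a ≠ 0 := by
    rintro rfl
    exact ha (QuadraticMap.map_zero Q)
  have hb0 : b ≠ 0 := by
    rintro rfl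
    exact hb (QuadraticMap.map_zero Q)
  have hc1 : c = 1 := by
    have h1 := hcz' a
    rw [yy_apply ha hb hab, polar_self_two, polar_comm, hab] at h1
    have h2 : (1 - c) • a = 0 := by
      rw [sub_smul, one_smul, ← h1]
      simp
    rcases smul_eq_zero.1 h2 with h3 | h3
    · exact (sub_eq_zero.1 h3).symm
    · exact absurd h3 ha0
  obtain ⟨v, hv⟩ := hQ.exists_polar_ne hb0
  have h1 := hcz' v
  rw [hc1, one_smul, yy_apply ha hb hab] at h1
  apply hspan
  have h2 : ((Q b)⁻¹ * polar Q b v) • b = -(((Q a)⁻¹ * polar Q a v) • a) := by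
    have h4 : ((Q b)⁻¹ * polar Q b v) • b + ((Q a)⁻¹ * polar Q a v) • a =
        v - (v - ((Q a)⁻¹ * polar Q a v) • a - ((Q b)⁻¹ * polar Q b v) • b) := by abel
    rw [h1, sub_self] at h4
    exact eq_neg_of_add_eq_zero_left h4
  have h5 : ((Q b)⁻¹ * polar Q b v) • b ∈ Submodule.span F {a} := by
    rw [h2]
    exact Submodule.neg_mem _ (Submodule.smul_mem _ _ (Submodule.mem_span_singleton_self a))
  exact (Submodule.smul_mem_iff _ (mul_ne_zero (inv_ne_zero hb) hv)).1 h5

end Main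

end Cfsg.Agent.H803.Inv
end

-- part: H803/Inv/RowsTwo
section
/-!
# S3830 : the rows `PSp_2n(q)` and `POmega_2n^±(q)`, `q` even (helper803)

* `nfix_psp_two` : `K ≅ PSp_2n(q)`, `n ≥ 2`, `q` even: every automorphism `x` of prime order `p ≥ 5` which normalises no
  nontrivial `2`-subgroup generates a non-solvable group with some involution;
* `nfix_omega_two` : the same for `POmega_2n^±(q)`, `n ≥ 4`, `q` even.
-/

set_option autoImplicit false
set_option linter.unusedSectionVars false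

namespace Cfsg.Agent.H803.Inv

open Cfsg Subgroup Cfsg.Agent.H459.Rad Cfsg.Agent.H459.Inv Cfsg.Agent.H459.Iface Cfsg.Agent.H952.Rc QuadraticMap
open Cfsg.Agent.BpCl (Semi SemiIso Iso)
open Cfsg.Agent.LieClassical.OrthFinite (quotientCenterCongr)

universe u v

/-- the rows of this file -/
def NFix (p : ℕ) (K : Type*) [Group K] : Prop := ∀ x : MulAut K, orderOf x = p → ¬ FixR 2 x → NS x

theorem NFix.congr {K L : Type*} [Group K] [Finite K] [Group L] {p : ℕ} (e : K ≃* L) (h : NFix p L) : NFix p K := by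
  intro x hx hn
  exact ns_of_tr e (h (tr e x) (by rw [orderOf_tr, hx]) (fun h1 => hn (h1.of_tr e)))

/-! ### general semisimilitudes -/

section General

variable {F : Type u} {V : Type v} [Field F] [AddCommGroup V] [Module F V] {Γ : Subgroup (V ≃ₗ[F] V)}

theorem sp_general_ns {B : LinearMap.BilinForm F V} [Finite F] [FiniteDimensional F V] [Nontrivial V] {p : ℕ}
    [hp : Fact p.Prime]
    [CharP F 2] (h5 : 5 ≤ p) (hpF : (p : F) ≠ 0) (hA : B.IsAlt) (hnd : ∀ u, (∀ v, B u v = 0) → u = 0)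
    (hΓ : ∀ h : V ≃ₗ[F] V, h ∈ Γ ↔ ∀ u v, B (h u) (h v) = B u v) {x : MulAut (↥Γ ⧸ center ↥Γ)}
    {g : Equiv.Perm V} {φ : F ≃+* F} {c a : F} (hg : SemiIso (fun u v => B u v) φ c g) (hc : c ≠ 0) (ha : a ≠ 0)
    (hga : ∀ v, (g ^ p) v = a • v) (hx : Comp x g) : FixR 2 x ∨ NS x := by
  have hodd : Odd p := hp.out.odd_of_ne_two (by omega)
  obtain ⟨v, hv⟩ := exists_ne (0 : V)
  obtain ⟨w, hw⟩ := exists_ne_sp hA hnd hv
  obtain ⟨μ, g', hμ, hg', hgp, hφ, t, ht, htg⟩ := Cfsg.Agent.BpCl.exists_normal hodd ha hc hg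
    (fun t u v => by
      rw [map_smul, map_smul, LinearMap.smul_apply, smul_eq_mul, smul_eq_mul]; ring)
    ⟨w, v, hw⟩ hga
  refine sp_norm_ns (B := μ • B) h5 hpF ?_ ?_ ?_ (g := g') (φ := φ) ?_ hgp hφ (hx.smul htg)
  · intro u
    rw [LinearMap.smul_apply, LinearMap.smul_apply, hA u, smul_zero]
  · intro u hu
    apply hnd
    intro v
    have h1 := hu v
    rw [LinearMap.smul_apply, LinearMap.smul_apply] at h1
    rcases smul_eq_zero.1 h1 with h2 | h2
    · exact absurd h2 hμ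
    · exact h2
  · intro h
    rw [hΓ]
    constructor
    · intro hh u v
      rw [LinearMap.smul_apply, LinearMap.smul_apply, LinearMap.smul_apply, LinearMap.smul_apply, hh]
    · intro hh u v
      have h1 := hh u v
      rw [LinearMap.smul_apply, LinearMap.smul_apply, LinearMap.smul_apply, LinearMap.smul_apply,
        smul_eq_mul, smul_eq_mul] at h1
      exact mul_left_cancel₀ hμ h1
  · exact { add := hg'.add, smul := hg'.smul, form := fun u v => hg'.form u v }

open Cfsg.Agent.LieClassical.OrthCore Cfsg.Agent.LieClassical.OrthTrans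

variable {Q : QuadraticForm F V}

theorem orth_general_ns [Finite F] [FiniteDimensional F V] {p : ℕ} [hp : Fact p.Prime]
    [CharP F 2] (h5 : 5 ≤ p) (hpF : (p : F) ≠ 0) (hQ : Nondeg Q) (hd : 7 ≤ Module.finrank F V) (hΓ : Γ = E Q)
    {x : MulAut (↥Γ ⧸ center ↥Γ)}
    {g : Equiv.Perm V} {φ : F ≃+* F} {c a : F} (hg : SemiIso (fun u _ => Q u) φ c g) (hc : c ≠ 0) (ha : a ≠ 0)
    (hga : ∀ v, (g ^ p) v = a • v) (hx : Comp x g) (hx1 : x ≠ 1) : FixR 2 x ∨ NS x := by
  have hodd : Odd p := hp.out.odd_of_ne_two (by omega)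
  have hG := Cfsg.Agent.LieClassical.OrthFinite.good_of_finite hQ (by omega)
  have h1 : ∃ v, Q v ≠ 0 := by
    by_contra hcon
    push Not at hcon
    obtain ⟨x, y, h⟩ := hG.exists_hyp
    have h2 := h.pair
    unfold polar at h2
    rw [hcon, hcon, hcon, sub_zero, sub_zero] at h2
    exact one_ne_zero h2.symm
  obtain ⟨w, hw⟩ := h1
  obtain ⟨μ, g', hμ, hg', hgp, hφ, t, ht, htg⟩ := Cfsg.Agent.BpCl.exists_normal hodd ha hc hg
    (fun t u v => by
      rw [QuadraticMap.map_smul, smul_eq_mul]; ring)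
    ⟨w, w, hw⟩ hga
  refine orth_norm_ns (Q := μ • Q) h5 hpF ?_ hd (by rw [hΓ, E_smul hμ]) (g := g') (φ := φ) ?_ hgp hφ (hx.smul htg)
    hx1
  · intro u hu
    apply hQ
    intro v
    have h1 := hu v
    rw [polar_smul_form] at h1
    exact (mul_eq_zero.1 h1).resolve_left hμ
  · exact { add := hg'.add, smul := hg'.smul, form := fun u v => hg'.form u v }

end General

/-! ### `PSp` -/

section PSp

open Cfsg.Agent.ClassicalGeometry.SympBasic Cfsg.Agent.ClassicalGeometry.SympAutSemi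
  Cfsg.Agent.ClassicalGeometry.SympGamma

theorem psp_nfix {F : Type u} [Field F] [Finite F] {m : ℕ} {p : ℕ} [hp : Fact p.Prime]
    [CharP F 2] (h5 : 5 ≤ p) (hpF : (p : F) ≠ 0) (hm : 2 ≤ m) (h22 : m = 2 → 3 ≤ Nat.card F) :
    NFix p (PSp m F) := by
  intro x hx hnf
  obtain ⟨h0, h2⟩ := Cfsg.Agent.BpCl.index_Psi_le (F := F) hm h22
  obtain ⟨g, rfl⟩ := Cfsg.Agent.BpCl.mem_of_index_lt h0 hp.out (by omega) hx
  obtain ⟨φ, l, hl, hg⟩ := g.2
  have h1 : Psi m F (g ^ p) = 1 := by rw [map_pow, ← hx, pow_orderOf_eq_one]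
  obtain ⟨a, ha⟩ := exists_scal_of_Psi_eq_one (by omega) (g ^ p) h1
  have hga : ∀ v, (g.1 ^ p) v = (a : F) • v := by
    intro v
    have h2 : (g ^ p).1 = g.1 ^ p := rfl
    rw [← h2, ha, scal_apply]
  have hs : SemiIso (fun u v => sympBilin m F u v) φ l g.1 :=
    { add := hg.1, smul := hg.2.1, form := hg.2.2 }
  have hV : Nontrivial (Fin m ⊕ Fin m → F) := by
    refine ⟨Pi.single (Sum.inl ⟨0, by omega⟩) 1, 0, fun h => ?_⟩
    have := congrFun h (Sum.inl ⟨0, by omega⟩)
    rw [Pi.single_eq_same] at this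
    exact one_ne_zero this
  let Γ : Subgroup ((Fin m ⊕ Fin m → F) ≃ₗ[F] (Fin m ⊕ Fin m → F)) := Iso (fun u v => sympBilin m F u v)
  have hΓ : ∀ h : (Fin m ⊕ Fin m → F) ≃ₗ[F] (Fin m ⊕ Fin m → F),
      h ∈ Γ ↔ ∀ u v, sympBilin m F (h u) (h v) = sympBilin m F u v := fun h => Iff.rfl
  -- the group of linear automorphisms
  have hrange : (Cfsg.Agent.BpCl.spLin m F).range = Γ := by
    apply le_antisymm
    · rintro _ ⟨A, rfl⟩ u v
      exact sympForm_rho A u v
    · intro h hh
      obtain ⟨A, hA⟩ := exists_rho_eq h.toEquiv (fun u v => map_add h u v) (fun a v => map_smul h a v)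
        (fun u v => hh u v)
      refine ⟨A, ?_⟩
      apply LinearEquiv.ext
      intro v
      rw [Cfsg.Agent.BpCl.spLin_apply, hA]
      rfl
  let e0 : ↥(Matrix.symplecticGroup (Fin m) F) ≃* ↥Γ :=
    (MonoidHom.ofInjective Cfsg.Agent.BpCl.spLin_injective).trans (MulEquiv.subgroupCongr hrange)
  have he0 : ∀ A v, (e0 A).1 v = rho m F A v := fun _ _ => rfl
  let e : PSp m F ≃* ↥Γ ⧸ center ↥Γ := quotientCenterCongr e0
  have he : ∀ A : ↥(Matrix.symplecticGroup (Fin m) F), e (QuotientGroup.mk A) = QuotientGroup.mk (e0 A) := fun _ => rfl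
  have hcomp : Comp (tr e (Psi m F g)) g.1 := by
    intro h
    obtain ⟨A, rfl⟩ := e0.surjective h
    refine ⟨e0 (conjHom m F g A), fun v => ?_, ?_⟩
    · rw [he0, he0, rho_conjHom, Equiv.Perm.mul_apply, Equiv.Perm.mul_apply]
      congr 2
      exact g.1.symm_apply_apply v
    · rw [tr_apply, QuotientGroup.mk'_apply, ← he, e.symm_apply_apply, Psi_mk, he]
      rfl
  have key := sp_general_ns (B := sympBilin m F) h5 hpF (fun v => sympForm_self v)
    (fun u hu => eq_zero_of_forall_sympForm_right hu) hΓ hs hl a.ne_zero hga hcomp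
  rcases key with h | h
  · exact absurd (h.of_tr e) hnf
  · exact ns_of_tr e h

/-- **The rows `PSp_2n(q)`, `q` even.** -/
theorem nfix_psp_two {K : Type*} [Group K] [Finite K] {p : ℕ} [Fact p.Prime]
    (h : Cfsg.IsPSpChar 2 K) (hp : 5 ≤ p) : ∀ x : MulAut K, orderOf x = p → ¬ FixR 2 x → NS x := by
  obtain ⟨F, _, _, _, m, hm, h22, ⟨e⟩⟩ := h
  have h2 : Fact (Nat.Prime 2) := ⟨Nat.prime_two⟩
  exact NFix.congr e (psp_nfix hp (Cfsg.Agent.BpCl.cast_ne_zero_of_char (r := 2) (Fact.out : p.Prime) (by omega)) hm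
    (fun h => by rw [Nat.card_eq_fintype_card]; exact h22 h))

end PSp

/-! ### `POmega` -/

section POmega

open Cfsg.Agent.LieClassical.OrthCore Cfsg.Agent.LieClassical.OrthTrans
  Cfsg.Agent.LieClassical.OrthForms Cfsg.Agent.ClassicalGeometry.OrthSemi Cfsg.Agent.ClassicalGeometry.OrthSemiForms

theorem orth_nfix {F : Type u} {V : Type v} [Field F] [Finite F] [AddCommGroup V] [Module F V]
    [FiniteDimensional F V] {Q : QuadraticForm F V} {p : ℕ} [hp : Fact p.Prime]
    [CharP F 2] (h5 : 5 ≤ p) (hpF : (p : F) ≠ 0) (hQ : Nondeg Q) (hd : 7 ≤ Module.finrank F V)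
    (h0 : (Psi Q).range.index ≠ 0) (hlt : (Psi Q).range.index < p) :
    NFix p (↥(E Q) ⧸ Subgroup.center ↥(E Q)) := by
  intro x hx hnf
  have hG := Cfsg.Agent.LieClassical.OrthFinite.good_of_finite hQ (by omega)
  obtain ⟨g, rfl⟩ := Cfsg.Agent.BpCl.mem_of_index_lt h0 hp.out hlt hx
  obtain ⟨φ, l, hg⟩ := g.2
  have h1 : Psi Q (g ^ p) = 1 := by rw [map_pow, ← hx, pow_orderOf_eq_one]
  obtain ⟨a, ha, hga⟩ := exists_scalar_of_conjE hG (g ^ p) (eq_one_of_quotAut (commutator_E hG) _ h1)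
  have hs : SemiIso (fun u _ => Q u) φ l g.1 :=
    { add := hg.add, smul := hg.smul, form := fun u _ => hg.form u }
  have hcomp : Comp (Psi Q g) g.1 := by
    intro h
    refine ⟨conjE Q g h, fun v => ?_, rfl⟩
    rw [coe_conjE, conjLin_apply']
  exact (orth_general_ns h5 hpF hQ hd rfl hs hg.ne ha (show ∀ v, (g.1 ^ p) v = a • v from hga) hcomp
    (ne_one_of_orderOf hp.out hx)).resolve_left hnf

theorem pomega_nfix {F : Type u} [Field F] [Finite F] {ι : Type} [Fintype ι] [DecidableEq ι]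
    {Q : QuadraticForm F (ι → F)} {p : ℕ} [hp : Fact p.Prime]
    [CharP F 2] (h5 : 5 ≤ p) (hpF : (p : F) ≠ 0) (hQ : Nondeg Q) (hd : 7 ≤ Fintype.card ι)
    (h0 : (Psi Q).range.index ≠ 0) (hlt : (Psi Q).range.index < p) [Finite (POmega F ⇑Q)] :
    NFix p (POmega F ⇑Q) := by
  have hd' : 7 ≤ Module.finrank F (ι → F) := by rwa [Module.finrank_fintype_fun_eq_card]
  have hG := Cfsg.Agent.LieClassical.OrthFinite.good_of_finite hQ (by omega)
  exact (orth_nfix h5 hpF hQ hd' h0 hlt).congr (pomegaEquiv hG)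

/-- **The rows `POmega_2n^±(q)`, `q` even.** -/
theorem nfix_omega_two {K : Type*} [Group K] [Finite K] {p : ℕ} [Fact p.Prime]
    (h : Cfsg.IsPOmegaPlusChar 2 K ∨ Cfsg.IsPOmegaMinusChar 2 K) (hp : 5 ≤ p) :
    ∀ x : MulAut K, orderOf x = p → ¬ FixR 2 x → NS x := by
  have h2 : Fact (Nat.Prime 2) := ⟨Nat.prime_two⟩
  rcases h with ⟨F, _, _, _, m, hm, ⟨e⟩⟩ | ⟨F, _, _, _, m, a, b, hm, hab, ⟨e⟩⟩
  · have hfin : Finite (POmega F (quadFormPlus m F)) := Finite.of_equiv _ e.toEquiv
    have hpF := Cfsg.Agent.BpCl.cast_ne_zero_of_char (F := F) (r := 2) (Fact.out : p.Prime) (by omega)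
    have key : NFix p (POmega F (quadFormPlus m F)) := by
      rw [← coe_plusForm] at hfin ⊢
      have hidx : (Psi (plusForm m F)).range.index ≠ 0 ∧ (Psi (plusForm m F)).range.index < p := by
        by_cases h4 : m = 4
        · subst h4
          rw [Cfsg.Agent.AutOrth.Final.index_plus_four]
          omega
        · have htop := MonoidHom.range_eq_top.2
            (Cfsg.Agent.AutOrth.Final.surjective_plus (F := F) (m := m) (by omega))
          rw [htop, Subgroup.index_top]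
          omega
      refine pomega_nfix hp hpF (nondeg_plusForm m F) ?_ hidx.1 hidx.2
      rw [Fintype.card_sum, Fintype.card_fin]
      omega
    exact key.congr e
  · have hfin : Finite (POmega F (quadFormMinus (m - 1) F a b)) := Finite.of_equiv _ e.toEquiv
    have hpF := Cfsg.Agent.BpCl.cast_ne_zero_of_char (F := F) (r := 2) (Fact.out : p.Prime) (by omega)
    have htop := MonoidHom.range_eq_top.2
      (Cfsg.Agent.AutOrth.Final.surjective_minus (F := F) (m := m - 1) (by omega) hab)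
    have key : NFix p (POmega F (quadFormMinus (m - 1) F a b)) := by
      rw [← coe_minusForm] at hfin ⊢
      refine pomega_nfix hp hpF (nondeg_minusForm (m - 1) F a b hab) ?_ ?_ ?_
      · rw [Fintype.card_sum, Fintype.card_sum, Fintype.card_fin, Fintype.card_fin]
        omega
      · rw [htop, Subgroup.index_top]; norm_num
      · rw [htop, Subgroup.index_top]; omega
    exact key.congr e

end POmega

end Cfsg.Agent.H803.Inv
end
end

-- part: H775/Inv/Suz
section
set_option linter.all false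
open scoped Cfsg.Agent.FastGrp

/-!
# S3830, the row `Suz` (task 2573, helper775)

`G₂(4) ≤ Suz` of index 1782 = 2 · 3⁴ · 11; for `p = 11` explicit elements of orders 11, 2, 21.
-/

set_option autoImplicit false
set_option maxRecDepth 100000
set_option Elab.async false

namespace Cfsg.Agent.H775.Inv.Suz

open Cfsg Cfsg.Spor Cfsg.Agent.Lib.PermNet Cfsg.Agent.SporadicRecognition.SuzPhi
  Cfsg.Agent.SporadicRecognition.SuzOrder Cfsg.Agent.SuzThree.Basic Cfsg.Agent.SuzThree.CentA
  Cfsg.Agent.SuzThree.QZero Cfsg.Agent.KFacts.SuzCent Cfsg.Agent.KFacts.SuzR Cfsg.Agent.KFacts.Codes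
  Cfsg.Agent.KFacts.SuzSheet
open Cfsg.Agent.Omega.TwoF.RowSuz (xw x11 ne_xe center_eq)
open Cfsg.Agent.H459.Inv Cfsg.Agent.H775.Inv

universe u

/-! ### `p = 11` -/

theorem xb : (el (xw ++ [.b])) ^ 21 = 1 := pow_one_of 21 (by decide +kernel)

theorem x_ne : el xw ≠ 1 := fun h => ne_xe (by rw [h, one_mul, mul_one])

theorem order_x : orderOf (el xw) = 11 := by
  have : Fact (Nat.Prime 11) := ⟨by norm_num⟩
  exact orderOf_eq_prime x11 x_ne

theorem order_b : orderOf (el ([.b] : List Suz.Gen)) = 2 := by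
  have : Fact (Nat.Prime 2) := ⟨Nat.prime_two⟩
  refine orderOf_eq_prime (by rw [pow_two]; exact gen_sq .b) fun h => x_ne ?_
  have h1 := xb
  rw [el_append, h, mul_one] at h1
  have h2 : el xw ^ 22 = 1 := by rw [show 22 = 11 * 2 from rfl, pow_mul, x11, one_pow]
  rwa [pow_succ, h1, one_mul] at h2

theorem ns_eleven {g : Suz} (hg : orderOf g = 11) : NS (MulAut.conj g) := by
  have hfin : Finite Suz := Nat.finite_of_card_ne_zero (by rw [card_Suz]; norm_num)
  refine ns_of_cyc (p := 11) (by norm_num) (by rw [card_Suz]; norm_num) order_x ?_ hg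
  have h1 : orderOf (el xw * el ([.b] : List Suz.Gen)) ∣ 21 := by
    rw [← el_append]
    exact orderOf_dvd_of_pow_eq_one xb
  refine ns_of_triangle (y := el ([.b] : List Suz.Gen)) order_b ?_ ?_ ?_
  · rw [order_x]; decide
  · exact Odd.of_dvd_nat (by decide) h1
  · rw [order_x]
    exact Nat.Coprime.coprime_dvd_left h1 (by norm_num)

/-! ### the other primes -/

/-- the group `G₂(4)` -/
def G24 : Subgroup Suz := (Subgroup.closure ({Cfsg.Spor.Suz.a, Cfsg.Spor.Suz.b, Cfsg.Spor.Suz.c,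
  Cfsg.Spor.Suz.d, Cfsg.Spor.Suz.e, Cfsg.Spor.Suz.f} : Set (FreeGroup Cfsg.Spor.Suz.Gen))).map
    (PresentedGroup.mk (Cfsg.Spor.coxRelators Cfsg.Spor.Suz.edges ∪ {r | r ∈ Cfsg.Spor.Suz.extra}))

theorem index_G24 : G24.index = 1782 := S1680.result.1

theorem card_G24 : Nat.card G24 = 251596800 := by
  have h1 := G24.card_mul_index
  rw [index_G24, card_Suz] at h1
  omega

theorem simple_G24 : IsSimpleGroup G24 := by
  obtain ⟨F, _, _, hF, ⟨e'⟩⟩ := S1679.result
  have hs : IsSimpleGroup ↥(Cfsg.Lie.chevG2.group F) := by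
    refine (S1055.result ?_).1
    classical
    by_contra hcon
    push Not at hcon
    have h4 : Fintype.card F ≤ 2 := by
      have h5 : (Finset.univ : Finset F) ⊆ {0, 1} := fun a _ => by
        by_cases h6 : a = 0
        · simp [h6]
        · simp [hcon a h6]
      calc Fintype.card F = (Finset.univ : Finset F).card := rfl
        _ ≤ ({0, 1} : Finset F).card := Finset.card_le_card h5
        _ ≤ 2 := Finset.card_le_two
    omega
  exact e'.isSimpleGroup

theorem not_comm_G24 : ¬ IsMulCommutative G24 := by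
  intro hc
  have hs := simple_G24
  let _ : CommGroup G24 := { (inferInstance : Group G24) with mul_comm := hc.is_comm.comm }
  have h1 : (Nat.card G24).Prime := IsSimpleGroup.prime_card
  rw [card_G24] at h1
  norm_num at h1

theorem irow {p : ℕ} (hp : p.Prime) (h5 : 5 ≤ p) (hI : IH.{0} p (Nat.card Suz)) : IRow p Suz := by
  have hfin : Finite Suz := Nat.finite_of_card_ne_zero (by rw [card_Suz]; norm_num)
  refine irow_of_inner (inner_of_index hp (by omega) Cfsg.Agent.KFacts.SuzOut.index_eq) center_eq fun g hg => ?_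
  by_cases h11 : p = 11
  · subst h11
    exact ns_eleven hg
  · refine ns_of_sylow hp hI simple_G24 (fun h => ?_) not_comm_G24 ?_ hg
    · have h1 := index_G24
      rw [h, Subgroup.index_top] at h1
      norm_num at h1
    · rw [index_G24]
      intro h1
      have h2 : p ∣ 2 * 3 ^ 4 * 11 := h1
      rw [hp.dvd_mul, hp.dvd_mul] at h2
      rcases h2 with (h2 | h2) | h2
      · have := Nat.le_of_dvd (by norm_num) h2
        omega
      · have := Nat.le_of_dvd (by norm_num) (hp.dvd_of_dvd_pow h2)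
        omega
      · exact h11 ((Nat.prime_dvd_prime_iff_eq hp (by norm_num)).1 h2)

/-- **The row `Suz`.** -/
theorem irow_Suz {K : Type u} [Group K] [Finite K] (h : Cfsg.Spor.IsoSuz K) {p : ℕ} [hp : Fact p.Prime] (h5 : 5 ≤ p)
    (hI : IH.{u} p (Nat.card K)) : IRow p K := by
  obtain ⟨e⟩ := h
  refine IRow.congr e (irow hp.out h5 (ih_down ?_))
  rwa [← Nat.card_congr e.toEquiv]

end Cfsg.Agent.H775.Inv.Suz
end

-- part: H172/Inv/Kummer
section
prune_inst 0x355045243ce2120000180586332004602e0000800003040085010a400201a84328804600b2600115590004644008006001100080425000000e200000011d00a080004400a248010ce6009f800080000000000000000000000000000000000000000000000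
set_option linter.all false
open scoped Cfsg.Agent.FastGrp

/-!
# S3830, task I5: irreducible elements with `A ^ p` a scalar, not a `p`-th power (helper172)

`triangle_perm` : the `n`-cycle `i ↦ i + 1` and `(0 1)(2 3)` generate a non-solvable group (`n ≥ 5` odd);
`kummer` : `A ∈ GL_n(F)` irreducible, `A ^ p = c` not a `p`-th power: `n = p` and there is an involution `Y ∈ SL_n(F)` with
`⟨A, Y⟩` not solvable.
-/

set_option autoImplicit false
set_option linter.unusedSectionVars false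

namespace Cfsg.Agent.H172.Inv

open Subgroup Matrix
open Cfsg.Agent.H877.RadPSL (Mon)

section Perm

variable {n : ℕ} [NeZero n]

/-- the double transposition `(0 1)(2 3)` -/
def dt (n : ℕ) (hn : 5 ≤ n) : Equiv.Perm (Fin n) :=
  Equiv.swap ⟨0, by omega⟩ ⟨1, by omega⟩ * Equiv.swap ⟨2, by omega⟩ ⟨3, by omega⟩

theorem dt_val (hn : 5 ≤ n) (i : Fin n) : (dt n hn i : ℕ) =
    if (i : ℕ) = 0 then (1 : ℕ) else if (i : ℕ) = 1 then (0 : ℕ) else if (i : ℕ) = 2 then (3 : ℕ) else
      if (i : ℕ) = 3 then (2 : ℕ) else (i : ℕ) := by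
  rw [dt, Equiv.Perm.mul_apply, Equiv.swap_apply_def, Equiv.swap_apply_def]
  split_ifs <;> simp only [Fin.ext_iff] at * <;> omega

theorem dt_mul_self (hn : 5 ≤ n) : dt n hn * dt n hn = 1 := by
  apply Equiv.ext
  intro i
  apply Fin.ext
  rw [Equiv.Perm.mul_apply, Equiv.Perm.one_apply, dt_val hn (dt n hn i), dt_val hn i]
  by_cases h0 : (i : ℕ) = 0
  · simp [h0]
  by_cases h1 : (i : ℕ) = 1
  · simp [h1]
  by_cases h2 : (i : ℕ) = 2
  · simp [h2]
  by_cases h3 : (i : ℕ) = 3
  · simp [h3]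
  · simp [h0, h1, h2, h3]

theorem dt_sign (hn : 5 ≤ n) : Equiv.Perm.sign (dt n hn) = 1 := by
  rw [dt, map_mul, Equiv.Perm.sign_swap (by simp), Equiv.Perm.sign_swap (by simp)]
  simp

/-- the product -/
theorem w_val (hn : 5 ≤ n) (i : Fin n) : ((Equiv.addRight (1 : Fin n) * dt n hn) i : ℕ) =
    if (i : ℕ) = 0 then (2 : ℕ) else if (i : ℕ) = 1 then (1 : ℕ) else if (i : ℕ) = 2 then (4 : ℕ) else
      if (i : ℕ) = 3 then (3 : ℕ) else ((i : ℕ) + 1) % n := by
  have hi := i.2
  rw [Equiv.Perm.mul_apply]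
  show ((dt n hn i + 1 : Fin n) : ℕ) = _
  rw [Fin.val_add, Fin.val_one', dt_val, Nat.add_mod_mod]
  split_ifs
  · exact Nat.mod_eq_of_lt (by omega)
  · exact Nat.mod_eq_of_lt (by omega)
  · exact Nat.mod_eq_of_lt (by omega)
  · exact Nat.mod_eq_of_lt (by omega)
  · rfl

theorem w_pow (hn : 5 ≤ n) : (Equiv.addRight (1 : Fin n) * dt n hn) ^ (n - 2) = 1 := by
  set w := Equiv.addRight (1 : Fin n) * dt n hn with hw
  have h1 : (w ⟨0, by omega⟩ : ℕ) = 2 := by rw [hw, w_val]; simp
  have h2 : ∀ k : ℕ, k + 5 ≤ n → ((w ^ (k + 2)) ⟨0, by omega⟩ : ℕ) = k + 4 := by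
    intro k
    induction k with
    | zero =>
      intro _
      rw [pow_succ', Equiv.Perm.mul_apply, pow_one, w_val, h1]
      simp
    | succ k ih =>
      intro hk
      rw [pow_succ', Equiv.Perm.mul_apply, w_val, ih (by omega)]
      rw [if_neg (by omega), if_neg (by omega), if_neg (by omega), if_neg (by omega), Nat.mod_eq_of_lt (by omega)]
  have h3 : (w ^ (n - 2)) ⟨0, by omega⟩ = ⟨0, by omega⟩ := by
    apply Fin.ext
    obtain ⟨k, rfl⟩ : ∃ k, n = k + 5 := ⟨n - 5, by omega⟩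
    have h4 := h2 k le_rfl
    rw [show k + 5 - 2 = (k + 2) + 1 by omega, pow_succ', Equiv.Perm.mul_apply, w_val, h4]
    rw [if_neg (by omega), if_neg (by omega), if_neg (by omega), if_neg (by omega), Nat.mod_self]
  have h4 : ∀ k : ℕ, (w ^ (n - 2)) ((w ^ k) ⟨0, by omega⟩) = (w ^ k) ⟨0, by omega⟩ := by
    intro k
    rw [← Equiv.Perm.mul_apply, ← pow_add, add_comm, pow_add, Equiv.Perm.mul_apply, h3]
  have h5 : ∀ i : Fin n, w i = i → (w ^ (n - 2)) i = i := by
    intro i hi
    have : ∀ k : ℕ, (w ^ k) i = i := by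
      intro k
      induction k with
      | zero => rfl
      | succ k ih => rw [pow_succ', Equiv.Perm.mul_apply, ih, hi]
    exact this _
  apply Equiv.ext
  intro i
  rw [Equiv.Perm.one_apply]
  have hi := i.2
  by_cases i1 : (i : ℕ) = 1
  · exact h5 i (Fin.ext (by rw [hw, w_val, i1]; simp))
  by_cases i3 : (i : ℕ) = 3
  · exact h5 i (Fin.ext (by rw [hw, w_val, i3]; simp))
  by_cases i0 : (i : ℕ) = 0
  · have : i = (w ^ 0) ⟨0, by omega⟩ := Fin.ext i0
    rw [this, h4]
  by_cases i2 : (i : ℕ) = 2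
  · have : i = (w ^ 1) ⟨0, by omega⟩ := Fin.ext (by rw [pow_one, h1, i2])
    rw [this, h4]
  · have : i = (w ^ ((i : ℕ) - 4 + 2)) ⟨0, by omega⟩ := Fin.ext (by rw [h2 _ (by omega)]; omega)
    rw [this, h4]

/-- **the `n`-cycle and the double transposition** -/
theorem triangle_perm (hn : 5 ≤ n) (hodd : Odd n) :
    ¬ Group.IsSolvable ↥(closure ({Equiv.addRight (1 : Fin n), dt n hn} : Set (Equiv.Perm (Fin n)))) := by
  have h1 : orderOf (Equiv.addRight (1 : Fin n)) ∣ n := by
    apply orderOf_dvd_of_pow_eq_one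
    have h0 : ∀ (k : ℕ) (i : Fin n), ((Equiv.addRight (1 : Fin n)) ^ k) i = i + Fin.ofNat n k := by
      intro k
      induction k with
      | zero => intro i; apply Fin.ext; simp
      | succ k ih =>
        intro i
        rw [pow_succ', Equiv.Perm.mul_apply, ih, Equiv.coe_addRight]
        apply Fin.ext
        rw [Fin.val_add, Fin.val_add, Fin.val_add, Fin.val_one']
        simp [add_assoc]
    apply Equiv.ext
    intro i
    rw [h0]
    apply Fin.ext
    simp
  have h2 : orderOf (dt n hn) ∣ 2 := orderOf_dvd_of_pow_eq_one (by rw [pow_two, dt_mul_self])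
  have h3 : orderOf (Equiv.addRight (1 : Fin n) * dt n hn) ∣ n - 2 := orderOf_dvd_of_pow_eq_one (w_pow hn)
  have hn2 : Nat.Coprime n 2 := Nat.coprime_two_right.2 hodd
  have hn3 : Nat.Coprime (n - 2) 2 := Nat.coprime_two_right.2 (by
    obtain ⟨k, hk⟩ := hodd
    exact ⟨k - 1, by omega⟩)
  have hn4 : Nat.Coprime (n - 2) n := by
    have h5 : Nat.Coprime (n - 2) (2 + (n - 2)) := by
      rw [Nat.coprime_add_self_right]
      exact hn3
    rwa [show 2 + (n - 2) = n by omega] at h5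
  refine Cfsg.Agent.H459.Inv.not_solvable_of_triangle (Nat.Coprime.of_dvd h1 h2 hn2) (Nat.Coprime.of_dvd h3 h1 hn4)
    (Nat.Coprime.of_dvd h3 h2 hn3) ?_
  intro h
  have h4 := dt_val hn ⟨0, by omega⟩
  rw [h] at h4
  simp at h4

end Perm

section MonG

variable {F : Type*} [Field F] {n : ℕ}

/-- the monomial group -/
def MonG (n : ℕ) (F : Type*) [Field F] : Subgroup (GL (Fin n) F) where
  carrier := {g | ∃ σ : Equiv.Perm (Fin n), Mon (g : Matrix (Fin n) (Fin n) F) σ}
  mul_mem' := by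
    rintro a b ⟨σ, ha⟩ ⟨τ, hb⟩
    exact ⟨σ * τ, by rw [Units.val_mul]; exact ha.mul hb⟩
  one_mem' := ⟨1, Mon.one⟩
  inv_mem' := by
    rintro a ⟨σ, ha⟩
    exact ⟨σ⁻¹, Mon.inv a.inv_mul a.mul_inv ha⟩

/-- the permutation -/
noncomputable def prmG : MonG n F →* Equiv.Perm (Fin n) where
  toFun m := m.2.choose
  map_one' := Mon.unique (M := 1) (N := 1) (one_mul 1) (1 : MonG n F).2.choose_spec Mon.one
  map_mul' a b := by
    refine Mon.unique (N := (((a * b : MonG n F) : GL (Fin n) F)⁻¹ : GL (Fin n) F)) (Units.inv_mul _)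
      (a * b).2.choose_spec ?_
    have := Mon.mul a.2.choose_spec b.2.choose_spec
    exact this

theorem prmG_eq {m : MonG n F} {σ : Equiv.Perm (Fin n)} (h : Mon ((m : GL (Fin n) F) : Matrix (Fin n) (Fin n) F) σ) :
    prmG m = σ := Mon.unique (Units.inv_mul (m : GL (Fin n) F)) m.2.choose_spec h

/-- the permutation matrices -/
theorem exists_perm {σ : Equiv.Perm (Fin n)} (hσ : Equiv.Perm.sign σ = 1) (hσσ : σ * σ = 1) :
    ∃ P : Matrix.SpecialLinearGroup (Fin n) F, P * P = 1 ∧ Mon (P : Matrix (Fin n) (Fin n) F) σ := by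
  have hdet : ((σ⁻¹).permMatrix F).det = 1 := by
    rw [det_permutation, Equiv.Perm.sign_inv, hσ]
    simp
  refine ⟨⟨(σ⁻¹).permMatrix F, hdet⟩, ?_, ?_⟩
  · apply Subtype.ext
    show (σ⁻¹).permMatrix F * (σ⁻¹).permMatrix F = 1
    rw [← Matrix.permMatrix_mul, ← _root_.mul_inv_rev, hσσ, inv_one, Matrix.permMatrix_one]
  · intro i j h
    change (σ⁻¹).permMatrix F i j ≠ 0 at h
    by_contra hij
    apply h
    rw [Equiv.Perm.permMatrix, PEquiv.toMatrix_apply, Equiv.toPEquiv_apply, if_neg]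
    simp only [Option.mem_def, Option.some.injEq]
    rintro rfl
    exact hij (by simp)

/-- a monomial element over the `n`-cycle -/
theorem mon_case [NeZero n] (hn : 5 ≤ n) (hodd : Odd n) {C : GL (Fin n) F}
    (hC : Mon (C : Matrix (Fin n) (Fin n) F) (Equiv.addRight (1 : Fin n))) :
    ∃ P : Matrix.SpecialLinearGroup (Fin n) F, P * P = 1 ∧
      ¬ Group.IsSolvable ↥(closure ({C, Matrix.SpecialLinearGroup.toGL P} : Set (GL (Fin n) F))) := by
  obtain ⟨P, hPP, hP⟩ := exists_perm (F := F) (dt_sign hn) (dt_mul_self hn)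
  refine ⟨P, hPP, not_solvable_of_hom (M := MonG n F) prmG ⟨_, hC⟩ ⟨_, hP⟩ ?_⟩
  rw [prmG_eq (m := ⟨C, _, hC⟩) hC, prmG_eq (m := ⟨Matrix.SpecialLinearGroup.toGL P, _, hP⟩) hP]
  exact triangle_perm hn hodd

/-- **the irreducible case, `A ^ p = c` not a `p`-th power** -/
theorem kummer [Finite F] {p : ℕ} [hp : Fact p.Prime] (hp5 : 5 ≤ p) (hn : 2 ≤ n) {A : GL (Fin n) F} {c : F}
    (hA : (A : Matrix (Fin n) (Fin n) F) ^ p = c • 1) (hc : ∀ d : F, d ^ p ≠ c)
    (hs : ∀ W : Submodule F (Fin n → F), (∀ w ∈ W, (A : Matrix (Fin n) (Fin n) F) *ᵥ w ∈ W) → W = ⊥ ∨ W = ⊤) :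
    ∃ Y : Matrix.SpecialLinearGroup (Fin n) F, Y * Y = 1 ∧
      ¬ Group.IsSolvable ↥(closure ({A, Matrix.SpecialLinearGroup.toGL Y} : Set (GL (Fin n) F))) := by
  have hne : NeZero n := ⟨by omega⟩
  set T := toLin' (A : Matrix (Fin n) (Fin n) F) with hT
  have hs' : ∀ W : Submodule F (Fin n → F), (∀ w ∈ W, T w ∈ W) → W = ⊥ ∨ W = ⊤ := by
    intro W hW
    refine hs W fun w hw => ?_
    have := hW w hw
    rwa [hT, toLin'_apply] at this
  have hTp : T ^ p = algebraMap F _ c := by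
    rw [hT, ← toLin'_pow, hA]
    apply LinearMap.ext
    intro v
    rw [toLin'_apply, smul_mulVec, one_mulVec]
    rfl
  have hirr := Cfsg.Agent.H469.IrrCyc.minpoly_irreducible T hs'
  have hdeg : Module.finrank F (Fin n → F) = p := by
    rw [Cfsg.Agent.H469.IrrCyc.finrank_eq T hs']
    have h1 : minpoly F T ∣ Polynomial.X ^ p - Polynomial.C c := by
      apply minpoly.dvd
      rw [map_sub, map_pow, Polynomial.aeval_X, Polynomial.aeval_C, hTp, sub_self]
    have h2 := X_pow_sub_C_irreducible_of_prime hp.out hc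
    have h3 := (hirr.dvd_irreducible_iff_associated h2).mp h1
    rw [Polynomial.natDegree_eq_of_degree_eq (Polynomial.degree_eq_degree_of_associated h3),
      Polynomial.natDegree_X_pow_sub_C]
  rw [Module.finrank_fin_fun] at hdeg
  subst hdeg
  obtain ⟨v, hv⟩ := exists_ne (0 : Fin n → F)
  let b : Fin n → Fin n → F := fun i => ((A : Matrix (Fin n) (Fin n) F) ^ (i : ℕ)) *ᵥ v
  have hstep : ∀ i : Fin n, ∃ s : F, (A : Matrix (Fin n) (Fin n) F) *ᵥ b i = s • b (i + 1) := by
    intro i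
    by_cases hi : (i : ℕ) + 1 < n
    · refine ⟨1, ?_⟩
      rw [one_smul]
      have h1 : ((i + 1 : Fin n) : ℕ) = i + 1 := Fin.val_add_one_of_lt' hi
      change (A : Matrix (Fin n) (Fin n) F) *ᵥ (((A : Matrix (Fin n) (Fin n) F) ^ (i : ℕ)) *ᵥ v) =
        ((A : Matrix (Fin n) (Fin n) F) ^ ((i + 1 : Fin n) : ℕ)) *ᵥ v
      rw [h1, mulVec_mulVec, ← pow_succ']
    · refine ⟨c, ?_⟩
      have h0 : (i : ℕ) + 1 = n := by have := i.2; omega
      have h1 : ((i + 1 : Fin n) : ℕ) = 0 := by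
        rw [Fin.val_add, Fin.val_one', Nat.add_mod_mod, h0, Nat.mod_self]
      change (A : Matrix (Fin n) (Fin n) F) *ᵥ (((A : Matrix (Fin n) (Fin n) F) ^ (i : ℕ)) *ᵥ v) =
        c • (((A : Matrix (Fin n) (Fin n) F) ^ ((i + 1 : Fin n) : ℕ)) *ᵥ v)
      rw [h1, mulVec_mulVec, ← pow_succ', h0, hA, smul_mulVec, one_mulVec, pow_zero, one_mulVec]
  choose s hs1 using hstep
  have hspan : Submodule.span F (Set.range b) = ⊤ := by
    rcases hs (Submodule.span F (Set.range b)) (by
      intro w hw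
      induction hw using Submodule.span_induction with
      | mem w hw =>
        obtain ⟨i, rfl⟩ := hw
        rw [hs1]
        exact Submodule.smul_mem _ _ (Submodule.subset_span ⟨_, rfl⟩)
      | zero => rw [mulVec_zero]; exact Submodule.zero_mem _
      | add x y _ _ hx hy => rw [mulVec_add]; exact Submodule.add_mem _ hx hy
      | smul a x _ hx => rw [mulVec_smul]; exact Submodule.smul_mem _ _ hx) with h | h
    · exfalso
      apply hv
      have h1 : b 0 ∈ Submodule.span F (Set.range b) := Submodule.subset_span ⟨0, rfl⟩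
      rw [h, Submodule.mem_bot] at h1
      have h2 : b 0 = v := by
        change ((A : Matrix (Fin n) (Fin n) F) ^ ((0 : Fin n) : ℕ)) *ᵥ v = v
        rw [Fin.val_zero, pow_zero, one_mulVec]
      rw [← h2, h1]
    · exact h
  have hli : LinearIndependent F b :=
    linearIndependent_of_top_le_span_of_card_eq_finrank (by rw [hspan]) (by simp)
  let B₀ : Matrix (Fin n) (Fin n) F := Matrix.of fun i j => b j i
  have hu : IsUnit B₀ := by
    rw [← Matrix.linearIndependent_cols_iff_isUnit]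
    exact hli
  obtain ⟨B, hB⟩ := hu
  let C₀ : Matrix (Fin n) (Fin n) F := Matrix.of fun i j => if i = j + 1 then s j else 0
  have hAB : (A : Matrix (Fin n) (Fin n) F) * (B : Matrix (Fin n) (Fin n) F) = (B : Matrix (Fin n) (Fin n) F) * C₀ := by
    rw [hB]
    ext i j
    have h1 := congrFun (hs1 j) i
    have h2 : ((A : Matrix (Fin n) (Fin n) F) * B₀) i j = ((A : Matrix (Fin n) (Fin n) F) *ᵥ b j) i := rfl
    rw [h2, h1, Matrix.mul_apply, Finset.sum_eq_single (j + 1)]
    · change s j * b (j + 1) i = b (j + 1) i * (if j + 1 = j + 1 then s j else 0)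
      rw [if_pos rfl, mul_comm]
    · intro k _ hk
      change b k i * (if k = j + 1 then s j else 0) = 0
      rw [if_neg hk, mul_zero]
    · intro h
      exact absurd (Finset.mem_univ _) h
  have hC : ((B⁻¹ * A * B : GL (Fin n) F) : Matrix (Fin n) (Fin n) F) = C₀ := by
    rw [Units.val_mul, Units.val_mul, mul_assoc, hAB, ← mul_assoc, B.inv_mul, one_mul]
  have hmon : Mon ((B⁻¹ * A * B : GL (Fin n) F) : Matrix (Fin n) (Fin n) F) (Equiv.addRight (1 : Fin n)) := by
    rw [hC]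
    intro i j h
    change (if i = j + 1 then s j else 0) ≠ 0 at h
    change i = j + 1
    by_contra hij
    rw [if_neg hij] at h
    exact h rfl
  obtain ⟨P, hPP, hP⟩ := mon_case hp5 (hp.out.odd_of_ne_two (by omega)) hmon
  refine ⟨Cfsg.Agent.ClassicalGeometry.AutPSL.Auto.cj B P, by rw [← map_mul, hPP, map_one], ?_⟩
  have h1 : Matrix.SpecialLinearGroup.toGL (Cfsg.Agent.ClassicalGeometry.AutPSL.Auto.cj B P) =
      B * Matrix.SpecialLinearGroup.toGL P * B⁻¹ := Units.ext rfl
  have h2 := not_solvable_map (f := (MulAut.conj B).toMonoidHom) (MulAut.conj B).injective hP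
  have h3 : (MulAut.conj B).toMonoidHom (B⁻¹ * A * B) = A := by
    show B * (B⁻¹ * A * B) * B⁻¹ = A
    group
  rw [h3] at h2
  rw [h1]
  exact h2

end MonG

end Cfsg.Agent.H172.Inv

private theorem dce_fc9e17f9a6cf : _root_.True := by
  try have : _root_.True := by simp only [_root_.Cfsg.Agent.H172.Inv.dt.eq_1]
  exact _root_.True.intro
end
end
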